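import Cfsg.Agent.Lib.NormalEss.Moving
import Cfsg.Agent.Lib.SectionalThree.Torus
import Cfsg.Agent.Lib.SectionalThree.Line
import Cfsg.Agent.Lib.SectionalThree.RegularModel
import Cfsg.Agent.Lib.HallHigman.FrattiniModule

/-!
# The fixed line of a transvection module

`Datum.exists_line` : for an elementary abelian subgroup `W` of order `p ^ 3` central in `E` on which `S` induces
transvections with centre `z` and axis `Z`, a line of `Z` is fixed by `Aut(E)` and by `Aut(S)`, and it is the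
only line of `Z` outside `⟨z⟩` invariant under `Aut(S)`.
-/

set_option autoImplicit false
set_option linter.unusedSectionVars false
set_option linter.style.haveILetI false
set_option maxHeartbeats 1600000

namespace Cfsg.Agent.NormalEss

open RankThreeEss

universe u

variable {p : ℕ} [hp : Fact p.Prime] {S : Type u} [Group S]

/-- Coordinates in a plane. -/
theorem plane_coords [Finite S] {Z : Subgroup S} (hc : ∀ a ∈ Z, ∀ b ∈ Z, Commute a b) (he : ∀ a ∈ Z, a ^ p = 1)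
    (hcard : Nat.card Z ≤ p ^ 2) {z c : Z} (hz : z ≠ 1) (hcz : c ∉ Subgroup.zpowers z) :
    (∀ v : Z, ∃ j k : ℕ, v = z ^ j * c ^ k) ∧
      ∀ j k j' k' : ℕ, z ^ j * c ^ k = z ^ j' * c ^ k' → (j : ZMod p) = j' ∧ (k : ZMod p) = k' := by
  letI : CommGroup Z :=
    { (inferInstance : Group Z) with mul_comm := fun a b => Subtype.ext (hc a a.2 b b.2).eq }
  have hexp : ∀ a : Z, a ^ p = 1 := fun a => Subtype.ext (by rw [Subgroup.coe_pow]; exact he a a.2)
  let f : ZMod p × ZMod p → Z := fun jk => z ^ jk.1.val * c ^ jk.2.val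
  have hval : ∀ j k : ℕ, f ((j : ZMod p), (k : ZMod p)) = z ^ j * c ^ k := fun j k => by
    simp only [f, ZMod.val_natCast]
    rw [← SectionalThree.RegularModel.Data.pow_mod (hexp z), ← SectionalThree.RegularModel.Data.pow_mod (hexp c)]
  have hker : ∀ j k : ℕ, z ^ j * c ^ k = 1 → p ∣ j ∧ p ∣ k := by
    intro j k h
    have hck : c ^ k ∈ Subgroup.zpowers z := by
      rw [eq_inv_of_mul_eq_one_right h]
      exact inv_mem (pow_mem (Subgroup.mem_zpowers z) j)
    have hk : p ∣ k := by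
      by_contra hk
      obtain ⟨m, hm⟩ := exists_pow_eq_self_of_coprime (show Nat.Coprime k (orderOf c) from
        Nat.Coprime.coprime_dvd_right (orderOf_dvd_of_pow_eq_one (hexp c))
          (hp.out.coprime_iff_not_dvd.2 hk).symm)
      exact hcz (hm ▸ pow_mem hck m)
    refine ⟨?_, hk⟩
    rw [SectionalThree.pow_eq_one_of_dvd (hexp c) hk, mul_one, ← orderOf_dvd_iff_pow_eq_one,
      orderOf_eq_prime (hexp z) hz] at h
    exact h
  have hinj : Function.Injective f := by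
    rintro ⟨j, k⟩ ⟨j', k'⟩ h
    have h1 : f (((j.val + (p - j'.val) : ℕ) : ZMod p), ((k.val + (p - k'.val) : ℕ) : ZMod p)) = 1 := by
      have e1 : z ^ j'.val * z ^ (p - j'.val) = 1 := by
        rw [← pow_add, Nat.add_sub_cancel' (ZMod.val_lt j').le, hexp]
      have e2 : c ^ k'.val * c ^ (p - k'.val) = 1 := by
        rw [← pow_add, Nat.add_sub_cancel' (ZMod.val_lt k').le, hexp]
      rw [hval, pow_add, pow_add, mul_mul_mul_comm]
      rw [show z ^ j.val * c ^ k.val = z ^ j'.val * c ^ k'.val from h, ← mul_mul_mul_comm, e1, e2, one_mul]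
    rw [hval] at h1
    obtain ⟨hj, hk⟩ := hker _ _ h1
    rw [← ZMod.natCast_eq_zero_iff, Nat.cast_add, Nat.cast_sub (ZMod.val_lt _).le, ZMod.natCast_self,
      ZMod.natCast_zmod_val, ZMod.natCast_zmod_val, zero_sub, ← sub_eq_add_neg, sub_eq_zero] at hj hk
    exact Prod.ext hj hk
  have hcardf : Nat.card (ZMod p × ZMod p) = Nat.card Z := by
    refine le_antisymm (Nat.card_le_card_of_injective f hinj) (hcard.trans (le_of_eq ?_))
    simp only [Nat.card_prod, Nat.card_zmod]; ring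
  refine ⟨fun v => ?_, fun j k j' k' h => ?_⟩
  · obtain ⟨jk, hjk⟩ := ((Nat.bijective_iff_injective_and_card f).2 ⟨hinj, hcardf⟩).2 v
    exact ⟨jk.1.val, jk.2.val, hjk.symm⟩
  · rw [← hval, ← hval] at h
    exact ⟨congrArg Prod.fst (hinj h), congrArg Prod.snd (hinj h)⟩

namespace Datum

variable [Finite S] (d : Datum p S)

include d

theorem exists_line (hS : IsPGroup p S) (three : 3 ≤ p) {E : Subgroup S} (hE : E ∈ d.ess) {V Z : Subgroup S}
    (hVE : V ≤ E) (hVc : ∀ v ∈ V, ∀ e ∈ E, Commute v e) (hVp : ∀ v ∈ V, v ^ p = 1) (hV : Nat.card V = p ^ 3)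
    (hkV : d.A E ≤ keep E V) (hZV : Z ≤ V) (hZ : Nat.card Z = p ^ 2) (hZc : ∀ z ∈ Z, ∀ s : S, Commute s z)
    (hZA : ∀ σ ∈ d.Aut, ∀ v ∈ Z, σ v ∈ Z) (hmove : ¬ d.A E ≤ keep E Z)
    {z : S} (hzZ : z ∈ Z) (hz1 : z ≠ 1) (hzA : ∀ σ ∈ d.Aut, σ z ∈ Subgroup.zpowers z)
    {x : S} (hx : x ∉ E) (hdisp : ∀ v ∈ V, v⁻¹ * (x * v * x⁻¹) ∈ Subgroup.zpowers z) :
    ∃ c ∈ Z, c ∉ Subgroup.zpowers z ∧ (∀ σ ∈ d.Aut, σ c ∈ Subgroup.zpowers c) ∧
      d.A E ≤ keep E (Subgroup.zpowers c) ∧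
      ∀ e ∈ Z, e ∉ Subgroup.zpowers z → (∀ σ ∈ d.Aut, σ e ∈ Subgroup.zpowers e) →
        e ∈ Subgroup.zpowers c := by
  haveI := d.finiteAut hE
  haveI : Finite (MulAut S) := Finite.of_injective (fun β : MulAut S => (β : S → S)) fun a b h =>
    MulEquiv.ext (congrFun h)
  letI : CommGroup V :=
    { (inferInstance : Group V) with mul_comm := fun a b => Subtype.ext (hVc a a.2 b (hVE b.2)).eq }
  -- the action on `V`
  have hmapV : ∀ α ∈ d.A E, ∀ v : V, ((α ⟨v, hVE v.2⟩ : E) : S) ∈ V := fun α hα v => (hkV hα _).2 v.2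
  let res : d.A E →* MulAut V :=
    { toFun := fun α =>
        { toFun := fun v => ⟨_, hmapV α α.2 v⟩
          invFun := fun v => ⟨_, hmapV (α : MulAut E)⁻¹ (inv_mem α.2) v⟩
          left_inv := fun v => Subtype.ext (by simp)
          right_inv := fun v => Subtype.ext (by simp)
          map_mul' := fun a b => Subtype.ext (by
            show (((α : MulAut E) (⟨a, hVE a.2⟩ * ⟨b, hVE b.2⟩) : E) : S) = _
            rw [map_mul]; rfl) }
      map_one' := MulEquiv.ext fun v => rfl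
      map_mul' := fun a b => MulEquiv.ext fun v => rfl }
  have hres : ∀ (α : d.A E) (v : V), ((res α v : V) : S) = (((α : MulAut E) ⟨v, hVE v.2⟩ : E) : S) :=
    fun α v => rfl
  let G := res.range
  let cjA : S → d.A E := fun s => ⟨d.cj hE s, d.cj_mem hE s⟩
  let u : G := ⟨res (cjA x), cjA x, rfl⟩
  have hcj : ∀ (s : S) (v : V), ((res (cjA s) v : V) : S) = s * v * s⁻¹ := fun s v => by
    rw [hres]; exact d.cj_apply hE s _
  have hinn : ∀ s ∈ E, res (cjA s) = 1 := fun s hs => MulEquiv.ext fun v => Subtype.ext (by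
    rw [hcj, ← (hVc v v.2 s hs).eq, mul_inv_cancel_right]; rfl)
  have hcjhom : ∀ s t, res (cjA (s * t)) = res (cjA s) * res (cjA t) := fun s t => by
    rw [← map_mul]; exact congrArg res (Subtype.ext (map_mul _ _ _))
  have hcjpow : ∀ (s : S) (i : ℕ), res (cjA (s ^ i)) = res (cjA s) ^ i := fun s i => by
    rw [← map_pow]; exact congrArg res (Subtype.ext (by rw [Subgroup.coe_pow]; exact map_pow _ _ _))
  have hcjz : ∀ s : S, ∃ i : ℕ, res (cjA s) = res (cjA x) ^ i := fun s => by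
    obtain ⟨i, hi⟩ := d.exists_pow hE hx s
    exact ⟨i, by rw [← mul_inv_cancel_left (x ^ i) s, hcjhom, hinn _ hi, mul_one, hcjpow]⟩
  haveI := d.normal E hE
  have hxpE : x ^ p ∈ E := (d.index E hE) ▸ E.pow_index_mem x
  have hup : u ^ p = 1 := Subtype.ext (by
    rw [Subgroup.coe_pow]
    show res (cjA x) ^ p = 1
    rw [← hcjpow, hinn _ hxpE])
  -- the axis
  have hnc : ∃ v ∈ V, ¬ Commute x v := by
    by_contra h
    push Not at h
    exact hmove (d.keep_of_conjugates hE hS hZA hx fun g hg => d.keep_of_fix hE hkV hZV h g hg)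
  have haxis : ∀ v ∈ V, Commute x v → v ∈ Z := by
    obtain ⟨v₁, hv₁, hv₁'⟩ := hnc
    intro v hv hxv
    by_contra hvZ
    obtain ⟨h1, -, -⟩ := mul_card_le_of_commute (T := Z)
      (fun a ha b _ => (hZc a ha b).symm) (fun a ha => hVp a (hZV ha)) hvZ (hVp v hv)
      (fun a ha => hZc a ha v)
    let C := Subgroup.centralizer ({x} : Set S)
    have hle : Z ⊔ Subgroup.zpowers v ≤ V ⊓ C := sup_le
      (le_inf hZV fun a ha => Subgroup.mem_centralizer_singleton_iff.2 (hZc a ha x).symm.eq)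
      (Subgroup.zpowers_le.2 ⟨hv, Subgroup.mem_centralizer_singleton_iff.2 hxv.symm.eq⟩)
    rw [hZ] at h1
    have h2 : V = V ⊓ C := (Subgroup.eq_of_le_of_card_ge inf_le_left
      (by rw [hV, pow_succ']; exact h1.trans (Subgroup.card_le_of_le hle))).symm
    have h3 : v₁ ∈ C := (h2.le hv₁).2
    exact hv₁' (Subgroup.mem_centralizer_singleton_iff.1 h3).symm
  have hu1 : u ≠ 1 := by
    obtain ⟨v, hv, hv'⟩ := hnc
    intro h
    have h1 := congrArg (fun w : MulAut V => ((w ⟨v, hv⟩ : V) : S)) (congrArg Subtype.val h)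
    rw [show ((u : G) : MulAut V) = res (cjA x) from rfl] at h1
    simp only [hcj] at h1
    exact hv' (mul_inv_eq_iff_eq_mul.1 h1)
  have hufix : ∀ (i : ℕ) (v : V), (v : S) ∈ Z → ((u : MulAut V) ^ i) v = v := by
    intro i v hv
    show (res (cjA x) ^ i) v = v
    rw [← hcjpow]
    exact Subtype.ext (by rw [hcj, (hZc _ hv (x ^ i)).eq, mul_inv_cancel_right])
  -- the Sylow subgroup of the image
  obtain ⟨P₀, hP₀⟩ := ((d.pgroup_conjSub hE hS).of_equiv
    (Subgroup.subgroupOfEquivOfLe (d.conj_le E hE)).symm).exists_le_sylow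
  have hP₀eq : (P₀ : Subgroup (d.A E)).map (d.A E).subtype = conjSub E := by
    refine d.sylow E hE _ (fun α hα => ⟨⟨α, d.conj_le E hE hα⟩, hP₀ hα, rfl⟩) ?_ (P₀.isPGroup'.map _)
    rintro _ ⟨α, -, rfl⟩
    exact α.2
  have hzpu : ((P₀ : Subgroup (d.A E)).map res.rangeRestrict) = Subgroup.zpowers u := by
    refine le_antisymm ?_ (Subgroup.zpowers_le.2 ⟨cjA x, hP₀ ((d.mem_conjSub_iff hE).2 ⟨x, rfl⟩), rfl⟩)
    rintro _ ⟨α, hα, rfl⟩
    obtain ⟨s, hs⟩ := (d.mem_conjSub_iff hE).1 (hP₀eq.le ⟨α, hα, rfl⟩)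
    obtain rfl : cjA s = α := Subtype.ext hs
    obtain ⟨i, hi⟩ := hcjz s
    exact Subgroup.mem_zpowers_iff.2 ⟨i, Subtype.ext (by rw [zpow_natCast, Subgroup.coe_pow]; exact hi.symm)⟩
  let PG : Sylow p G := P₀.mapSurjective res.rangeRestrict_surjective
  have hordu : orderOf u = p := orderOf_eq_prime hup hu1
  have hMne : Subgroup.normalizer (Subgroup.zpowers u : Set G) ≠ ⊤ := by
    intro htop
    refine hmove (d.keep_of_conjugates hE hS hZA hx fun g hg => ?_)
    haveI := d.finiteAut hE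
    refine mem_keep_of_maps fun e he => ?_
    let gG : G := ⟨res ⟨g, hg⟩, _, rfl⟩
    obtain ⟨i, hi⟩ := mem_powers_iff_mem_zpowers.2
      ((Subgroup.mem_normalizer_iff.1 (htop.ge (Subgroup.mem_top gG)) u).1 (Subgroup.mem_zpowers u))
    have h1 : res (⟨g, hg⟩ * cjA x * ⟨g, hg⟩⁻¹) = (u : MulAut V) ^ i := by
      rw [map_mul, map_mul, map_inv]
      exact (congrArg Subtype.val hi).symm
    have h2 := congrArg (fun w : MulAut V => ((w ⟨e, hZV he⟩ : V) : S)) h1
    simp only [hres, hufix i ⟨e, hZV he⟩ he] at h2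
    rw [show g * d.cj hE x * g⁻¹ = ((⟨g, hg⟩ * cjA x * ⟨g, hg⟩⁻¹ : d.A E) : MulAut E) from rfl,
      show ((((⟨g, hg⟩ * cjA x * ⟨g, hg⟩⁻¹ : d.A E) : MulAut E) e : E) : S) = (e : S) from h2]
    exact he
  have hemb : Cfsg.IsStronglyPEmbedded p (Subgroup.normalizer (Subgroup.zpowers u : Set G)) := by
    refine (StrongPEmb.isStronglyPEmbedded_iff_forall _).2
      ⟨hordu ▸ orderOf_dvd_natCard u, hMne, PG, fun Q hQ hne => ?_⟩
    have hQ' : Q ≤ Subgroup.zpowers u := hzpu ▸ hQ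
    rw [show Q = Subgroup.zpowers u from Subgroup.eq_of_le_of_card_ge hQ' ?_]
    rw [Nat.card_zpowers, hordu]
    haveI := (Subgroup.nontrivial_iff_ne_bot Q).2 hne
    obtain ⟨n, hn, hc⟩ := ((IsPGroup.of_card (n := 1) (by rw [Nat.card_zpowers, hordu, pow_one]) :
      IsPGroup p (Subgroup.zpowers u)).to_le hQ').nontrivial_iff_card.1 ‹_›
    exact hc ▸ Nat.le_self_pow hn.ne' p
  have hVexp : ∀ v : V, v ^ p = 1 := fun v => Subtype.ext (by rw [Subgroup.coe_pow]; exact hVp v v.2)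
  obtain ⟨instM, ρ, hρ⟩ := HallHigman.exists_linear_rep hVexp G.subtype
  letI := instM
  have hρi : Function.Injective ρ := by
    refine (injective_iff_map_eq_one ρ).2 fun g hg => Subtype.ext (MulEquiv.ext fun v => ?_)
    have h := hρ g v
    rw [hg] at h
    exact (Additive.ofMul.injective h).symm
  let R : Rep p G (Additive V) :=
    { three := three
      card := (Nat.card_congr Additive.ofMul.symm).trans hV
      ρ := ρ
      inj := hρi
      M := _
      emb := hemb }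
  have hρ' : ∀ (g : G) (v : V), R.ρ g (Additive.ofMul v) = Additive.ofMul ((g : MulAut V) v) := hρ
  have huk : ∃ k : ℕ, u ^ p ^ k = 1 := ⟨1, by rw [pow_one, hup]⟩
  have hnilu : ∀ v : V, R.nil u (Additive.ofMul v) = Additive.ofMul (v⁻¹ * (u : MulAut V) v) := fun v => by
    rw [ofMul_mul, ofMul_inv, ← hρ', R.apply_eq, neg_add_cancel_left]
  have hA : R.nil u * R.nil u = 0 := LinearMap.ext fun v => by
    obtain ⟨v, rfl⟩ := Additive.ofMul.surjective v
    rw [Module.End.mul_apply, hnilu, hnilu]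
    have hmem : ((v⁻¹ * (u : MulAut V) v : V) : S) ∈ Z := by
      rw [Subgroup.coe_mul, Subgroup.coe_inv]
      show (v : S)⁻¹ * (res (cjA x) v : V) ∈ Z
      rw [hcj]
      exact Subgroup.zpowers_le.2 hzZ (hdisp v v.2)
    have h := hufix 1 _ hmem
    rw [pow_one] at h
    rw [h, inv_mul_cancel]
    rfl
  -- the automorphisms of `Z`
  let resZ : d.Aut →* MulAut Z :=
    { toFun := fun σ =>
        { toFun := fun v => ⟨_, hZA σ σ.2 v v.2⟩
          invFun := fun v => ⟨_, hZA (σ : MulAut S)⁻¹ (inv_mem σ.2) v v.2⟩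
          left_inv := fun v => Subtype.ext (by simp)
          right_inv := fun v => Subtype.ext (by simp)
          map_mul' := fun a b => Subtype.ext (map_mul (σ : MulAut S) _ _) }
      map_one' := MulEquiv.ext fun v => rfl
      map_mul' := fun a b => MulEquiv.ext fun v => rfl }
  have hresZ : ∀ (σ : d.Aut) (v : Z), ((resZ σ v : Z) : S) = (σ : MulAut S) v := fun σ v => rfl
  have hcenZ : ∀ v : Z, v ∈ Subgroup.center Z := fun v => Subgroup.mem_center_iff.2 fun w =>
    Subtype.ext (hZc v v.2 w).eq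
  have hfixZ : ∀ σ ∈ resZ.range, (∃ k : ℕ, σ ^ p ^ k = 1) → ∀ v ∈ Subgroup.center Z, σ v = v := by
    rintro _ ⟨σ, rfl⟩ ⟨k, hk⟩ v -
    obtain ⟨a, m, hm, hord⟩ := Nat.exists_eq_pow_mul_and_not_dvd (orderOf_pos σ).ne' p hp.out.ne_one
    have hpow : ((σ : MulAut S) ^ m) ^ p ^ a = 1 := by
      rw [← pow_mul, mul_comm, ← hord, ← Subgroup.coe_pow, pow_orderOf_eq_one]
      rfl
    obtain ⟨s, hs⟩ := d.pfix _ (pow_mem σ.2 m) ⟨a, hpow⟩
    have h1 : resZ σ ^ m = 1 := by
      rw [← map_pow]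
      refine MulEquiv.ext fun w => Subtype.ext ?_
      rw [hresZ, Subgroup.coe_pow, hs, MulAut.conj_apply, (hZc w w.2 s).eq, mul_inv_cancel_right]
      rfl
    have h2 : orderOf (resZ σ) = 1 := Nat.eq_one_of_dvd_coprimes
      (Nat.Coprime.pow_left k (hp.out.coprime_iff_not_dvd.2 hm))
      (orderOf_dvd_of_pow_eq_one hk) (orderOf_dvd_of_pow_eq_one h1)
    rw [orderOf_eq_one_iff.1 h2]
    rfl
  let zZ : Z := ⟨z, hzZ⟩
  have hzZ1 : zZ ≠ 1 := fun h => hz1 (congrArg Subtype.val h)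
  have hzp : ∀ v : Z, v ∈ Subgroup.zpowers zZ ↔ (v : S) ∈ Subgroup.zpowers z := fun v => by
    rw [show Subgroup.zpowers z = (Subgroup.zpowers zZ).map Z.subtype from (MonoidHom.map_zpowers Z.subtype zZ).symm]
    exact (Subgroup.mem_map_iff_mem (f := Z.subtype) Z.subtype_injective).symm
  -- one conjugate
  have hone : ∀ g : G, g * u * g⁻¹ ∉ Subgroup.zpowers u → ∃ c : V, (c : S) ∈ Z ∧
      (c : S) ∉ Subgroup.zpowers z ∧ ((g * u * g⁻¹ : G) : MulAut V) c = c ∧
      (∀ σ ∈ d.Aut, σ (c : S) ∈ Subgroup.zpowers (c : S)) ∧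
      ∀ e ∈ Z, e ∉ Subgroup.zpowers z → (∀ σ ∈ d.Aut, σ e ∈ Subgroup.zpowers e) →
        e ∈ Subgroup.zpowers (c : S) := by
    intro g hg
    obtain ⟨a, zz, cc, t, hind, hua, huz, huc, hta, htz, htc, hgc, -⟩ :=
      SectionalThree.exists_torus_pair R huk hu1 hA hg (-1) (neg_ne_zero.2 one_ne_zero)
    obtain ⟨a, rfl⟩ := Additive.ofMul.surjective a
    obtain ⟨zz, rfl⟩ := Additive.ofMul.surjective zz
    obtain ⟨cc, rfl⟩ := Additive.ofMul.surjective cc
    rw [hρ'] at hgc huc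
    have hgc' := Additive.ofMul.injective hgc
    have huc' := Additive.ofMul.injective huc
    have hcZ : (cc : S) ∈ Z := haxis _ cc.2 (by
      have h := congrArg Subtype.val huc'
      change ((res (cjA x) cc : V) : S) = _ at h
      rw [hcj] at h
      exact mul_inv_eq_iff_eq_mul.1 h)
    -- the centre of the transvection
    have hzz : (zz : S) ∈ Subgroup.zpowers z := by
      rw [hρ', ← ofMul_mul] at hua
      have h := congrArg Subtype.val (Additive.ofMul.injective hua)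
      rw [Subgroup.coe_mul] at h
      change ((res (cjA x) a : V) : S) = _ at h
      rw [hcj] at h
      have h2 := hdisp _ a.2
      rwa [h, inv_mul_cancel_left] at h2
    have hzz1 : zz ≠ 1 := by
      rintro rfl
      exact one_ne_zero (hind 0 1 0 (by simp)).2.1
    have hcz : (cc : S) ∉ Subgroup.zpowers z := by
      intro h
      obtain ⟨n, hn⟩ := Resist.exists_pow_eq (hVp z (hZV hzZ)) hzz fun h1 => hzz1 (Subtype.ext h1)
      obtain ⟨m, hm⟩ := mem_powers_iff_mem_zpowers.2 h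
      have hcv : cc = zz ^ (n * m) := Subtype.ext (by rw [Subgroup.coe_pow, pow_mul, hn]; exact hm.symm)
      have h1 := hind 0 ((n * m : ℕ) : ZMod p) (-1) (by
        rw [zero_smul, zero_add, Nat.cast_smul_eq_nsmul, ← ofMul_pow, ← hcv]
        module)
      exact one_ne_zero (neg_eq_zero.1 h1.2.2)
    -- a lift of the torus
    have hcomm : t * u * t⁻¹ = u := by
      rw [mul_inv_eq_iff_eq_mul]
      refine R.inj (LinearMap.ext fun w => ?_)
      obtain ⟨i, j, l, rfl⟩ := exists_coords R.card _ _ _ hind w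
      simp only [map_mul, Module.End.mul_apply, map_add, map_smul, map_neg, hua, huz, hta, htz, htc,
        show R.ρ u (Additive.ofMul cc) = Additive.ofMul cc by rw [hρ', huc'], inv_neg, inv_one]
      module
    obtain ⟨α, hα⟩ := res.rangeRestrict_surjective t
    let H : Subgroup (d.A E) := (Subgroup.zpowers u).comap res.rangeRestrict
    have hPH : (P₀ : Subgroup (d.A E)) ≤ H := fun β hβ =>
      (hzpu.le ⟨β, hβ, rfl⟩ : res.rangeRestrict β ∈ Subgroup.zpowers u)
    have hαP : (P₀ : Subgroup (d.A E)).map (MulAut.conj α).toMonoidHom ≤ H := by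
      rintro _ ⟨β, hβ, rfl⟩
      obtain ⟨i, hi⟩ := mem_powers_iff_mem_zpowers.2 (hPH hβ)
      show res.rangeRestrict (α * β * α⁻¹) ∈ Subgroup.zpowers u
      rw [map_mul, map_mul, map_inv, hα, ← hi, ← conj_pow, hcomm]
      exact pow_mem (Subgroup.mem_zpowers u) i
    let P₁ : Sylow p H := P₀.subtype hPH
    let P₂ : Sylow p H := ((MulAut.conj α) • P₀).subtype hαP
    obtain ⟨h, hh⟩ := MulAction.exists_smul_eq H P₁ P₂
    have hnormP : ∀ β ∈ conjSub E, (((h : d.A E)⁻¹ * α : d.A E) : MulAut E) * β *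
        (((h : d.A E)⁻¹ * α : d.A E) : MulAut E)⁻¹ ∈ conjSub E := by
      intro β hβ
      rw [← hP₀eq] at hβ ⊢
      obtain ⟨β, hβ, rfl⟩ := hβ
      refine ⟨((h : d.A E)⁻¹ * α) * β * ((h : d.A E)⁻¹ * α)⁻¹, ?_, rfl⟩
      have h1 : α * β * α⁻¹ ∈ (((MulAut.conj α) • P₀ : Sylow p (d.A E)) : Subgroup (d.A E)) := by
        rw [Sylow.pointwise_smul_def]
        exact Subgroup.smul_mem_pointwise_smul _ _ _ hβ
      have h2 : (⟨_, hαP ⟨β, hβ, rfl⟩⟩ : H) ∈ (P₂ : Subgroup H) := h1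
      rw [← hh, Sylow.coe_subgroup_smul, Subgroup.mem_pointwise_smul_iff_inv_smul_mem] at h2
      have h3 : (h : d.A E)⁻¹ * (α * β * α⁻¹) * (h : d.A E) ∈ (P₀ : Subgroup (d.A E)) := by
        have h4 : (((MulAut.conj h)⁻¹ • (⟨_, hαP ⟨β, hβ, rfl⟩⟩ : H) : H) : d.A E) ∈ (P₀ : Subgroup (d.A E)) := h2
        simpa [MulAut.smul_def, MulAut.inv_def, mul_assoc] using h4
      rw [show ((h : d.A E)⁻¹ * α) * β * ((h : d.A E)⁻¹ * α)⁻¹ = (h : d.A E)⁻¹ * (α * β * α⁻¹) * (h : d.A E) by group]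
      exact h3
    obtain ⟨σ, hσ, hσe⟩ := d.extend E hE _ ((h : d.A E)⁻¹ * α).2 hnormP
    have hσV : ∀ v : V, (v : S) ∈ Z → σ (v : S) = (((t : MulAut V) v : V) : S) := by
      intro v hv
      rw [show (v : S) = ((⟨v, hVE v.2⟩ : E) : S) from rfl, hσe]
      show ((res ((h : d.A E)⁻¹ * α) v : V) : S) = _
      rw [map_mul, MulAut.mul_apply, show res α = (t : MulAut V) from congrArg Subtype.val hα]
      obtain ⟨i, hi⟩ := mem_powers_iff_mem_zpowers.2 (h.2 : res.rangeRestrict (h : d.A E) ∈ Subgroup.zpowers u)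
      have hi' : res (h : d.A E) = (u : MulAut V) ^ i := (congrArg Subtype.val hi).symm
      have htv : (((t : MulAut V) v : V) : S) ∈ Z := by
        refine haxis _ ((t : MulAut V) v).2 ?_
        have hc' : ((t : MulAut V) * (u : MulAut V)) v = ((u : MulAut V) * (t : MulAut V)) v :=
          congrArg (fun g : G => (g : MulAut V) v) (mul_inv_eq_iff_eq_mul.1 hcomm)
        have h5 := hufix 1 v hv
        rw [pow_one] at h5
        rw [MulAut.mul_apply, MulAut.mul_apply, h5] at hc'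
        have h6 := congrArg Subtype.val hc'
        change _ = ((res (cjA x) _ : V) : S) at h6
        rw [hcj] at h6
        exact (mul_inv_eq_iff_eq_mul.1 h6.symm)
      have h7 := hufix i _ htv
      rw [map_inv, hi']
      exact congrArg Subtype.val ((MulEquiv.symm_apply_eq _).2 h7.symm)
    -- the data in `Z`
    let cZ : Z := ⟨cc, hcZ⟩
    have hcZz : cZ ∉ Subgroup.zpowers zZ := fun h => hcz ((hzp cZ).1 h)
    obtain ⟨hdec, hindZ⟩ := plane_coords (Z := Z) (fun a ha b _ => (hZc a ha b).symm)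
      (fun a ha => hVp a (hZV ha)) hZ.le hzZ1 hcZz
    have hτc : resZ ⟨σ, hσ⟩ cZ = cZ := Subtype.ext (by
      rw [hresZ]
      show σ (cc : S) = cc
      rw [hσV cc hcZ]
      have h := htc
      rw [hρ'] at h
      exact congrArg Subtype.val (Additive.ofMul.injective h))
    have hτz : resZ ⟨σ, hσ⟩ zZ = zZ ^ (p - 1) := Subtype.ext (by
      obtain ⟨n, hn⟩ := Resist.exists_pow_eq (hVp z (hZV hzZ)) hzz fun h1 => hzz1 (Subtype.ext h1)
      rw [hresZ, Subgroup.coe_pow]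
      show σ z = z ^ (p - 1)
      have hzzZ : (zz : S) ∈ Z := Subgroup.zpowers_le.2 hzZ hzz
      have h := htz
      rw [hρ', neg_smul, one_smul, ← ofMul_inv] at h
      have h1 : σ (zz : S) = ((zz : S))⁻¹ := (hσV zz hzzZ).trans (congrArg Subtype.val (Additive.ofMul.injective h))
      rw [← hn, map_pow, h1, inv_pow, hn]
      exact inv_eq_of_mul_eq_one_right (by
        rw [← pow_succ', Nat.sub_add_cancel hp.out.pos, hVp z (hZV hzZ)]))
    have hl : ((p - 1 : ℕ) : ZMod p) ≠ 1 := by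
      rw [Nat.cast_sub hp.out.pos, ZMod.natCast_self, zero_sub, Nat.cast_one]
      intro h
      have h2 : ((2 : ℕ) : ZMod p) = 0 := by
        push_cast
        linear_combination -h
      rw [ZMod.natCast_eq_zero_iff] at h2
      have := Nat.le_of_dvd two_pos h2
      omega
    obtain ⟨hcinv, huniq⟩ := SectionalThree.line_fixed resZ.range hfixZ (hcenZ zZ) (hcenZ cZ)
      (Subtype.ext (by rw [Subgroup.coe_pow]; exact hVp z (hZV hzZ)))
      (Subtype.ext (by rw [Subgroup.coe_pow]; exact hVp _ cc.2))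
      (by rintro _ ⟨τ, rfl⟩; exact (hzp _).2 (by rw [hresZ]; exact hzA _ τ.2))
      (fun v _ => hdec v) hindZ ⟨⟨σ, hσ⟩, rfl⟩ hτz hτc hl
    refine ⟨cc, hcZ, hcz, hgc', fun τ hτ => ?_, fun e he hez heA => ?_⟩
    · obtain ⟨i, hi⟩ := Subgroup.mem_zpowers_iff.1 (hcinv _ ⟨⟨τ, hτ⟩, rfl⟩)
      exact Subgroup.mem_zpowers_iff.2 ⟨i, by
        have := congrArg Subtype.val hi
        rwa [Subgroup.coe_zpow] at this⟩
    · obtain ⟨i, hi⟩ := Subgroup.mem_zpowers_iff.1 (huniq ⟨e, he⟩ (hcenZ _) (fun h => hez ((hzp _).1 h))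
        (by
          rintro _ ⟨τ, rfl⟩
          obtain ⟨i, hi⟩ := Subgroup.mem_zpowers_iff.1 (heA _ τ.2)
          exact Subgroup.mem_zpowers_iff.2 ⟨i, Subtype.ext (by rw [Subgroup.coe_zpow]; exact hi)⟩))
      exact Subgroup.mem_zpowers_iff.2 ⟨i, by
        have := congrArg Subtype.val hi
        rwa [Subgroup.coe_zpow] at this⟩
  -- all conjugates
  obtain ⟨g₀, hg₀⟩ := SectionalThree.exists_conj_not_mem_zpowers R huk hu1
  obtain ⟨c, hcZ, hcz, -, hcA, hcu⟩ := hone g₀ hg₀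
  refine ⟨c, hcZ, hcz, hcA, ?_, hcu⟩
  have hcA' : ∀ σ ∈ d.Aut, ∀ q ∈ Subgroup.zpowers (c : S), σ q ∈ Subgroup.zpowers (c : S) := fun σ hσ q hq => by
    obtain ⟨i, rfl⟩ := Subgroup.mem_zpowers_iff.1 hq
    rw [map_zpow]
    exact zpow_mem (hcA σ hσ) i
  refine d.keep_of_conjugates hE hS hcA' hx fun g hg => mem_keep_of_maps fun e he => ?_
  let gG : G := ⟨res ⟨g, hg⟩, _, rfl⟩
  have heV : (e : S) ∈ V := Subgroup.zpowers_le.2 c.2 he
  have hval : (((g * d.cj hE x * g⁻¹) e : E) : S) = ((((gG * u * gG⁻¹ : G) : MulAut V) ⟨e, heV⟩ : V) : S) := by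
    rw [show ((gG * u * gG⁻¹ : G) : MulAut V) = res (⟨g, hg⟩ * cjA x * ⟨g, hg⟩⁻¹) by
      rw [map_mul, map_mul, map_inv]; rfl, hres]
    rfl
  rw [hval]
  by_cases hgu : gG * u * gG⁻¹ ∈ Subgroup.zpowers u
  · obtain ⟨i, hi⟩ := mem_powers_iff_mem_zpowers.2 hgu
    rw [← hi, Subgroup.coe_pow, hufix i ⟨e, heV⟩ (Subgroup.zpowers_le.2 hcZ he)]
    exact he
  · obtain ⟨c', hc'Z, hc'z, hc'fix, hc'A, -⟩ := hone gG hgu
    have hc'c : (c' : S) ∈ Subgroup.zpowers (c : S) := hcu _ hc'Z hc'z hc'A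
    have heq : Subgroup.zpowers (c' : S) = Subgroup.zpowers (c : S) := by
      refine Subgroup.eq_of_le_of_card_ge (Subgroup.zpowers_le.2 hc'c) ?_
      rw [Nat.card_zpowers, Nat.card_zpowers, orderOf_eq_prime (hVp _ c'.2) fun h => hc'z (h ▸ one_mem _)]
      exact orderOf_le_of_pow_eq_one hp.out.pos (hVp _ c.2)
    obtain ⟨i, hi⟩ := Subgroup.mem_zpowers_iff.1 (heq.ge he)
    have he' : (⟨e, heV⟩ : V) = c' ^ i := Subtype.ext (by rw [Subgroup.coe_zpow]; exact hi.symm)
    rw [he', map_zpow, hc'fix, ← he']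
    exact he

end Datum

end Cfsg.Agent.NormalEss
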