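import Cfsg.Agent.Lib.NormalEss.Common
import Cfsg.Agent.Lib.NormalEss.Line

/-!
# First case: some moved centre leaves an essential subgroup

`Datum.case_one'` : if `V E₀` is not contained in some essential subgroup then `S` has the presentation
`RegularModel p` or has order at most `p ^ 3`.
-/

set_option autoImplicit false
set_option linter.unusedSectionVars false
set_option linter.style.haveILetI false
set_option maxHeartbeats 1600000

namespace Cfsg.Agent.NormalEss

open scoped commutatorElement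

universe u

variable {p : ℕ} [hp : Fact p.Prime] {S : Type u} [Group S] [Finite S]

namespace Datum

variable (d : Datum p S)

include d

/-- The frame found in the first case. -/
theorem case_one_frame (hS : IsPGroup p S) {E₀ : Subgroup S} (hE₀ : E₀ ∈ d.ess) (hM : d.Moving E₀)
    {E₁ : Subgroup S} (hE₁ : E₁ ∈ d.ess) (hne : ¬ d.V E₀ ≤ E₁) :
    ∃ (a x : S) (R : Subgroup S), a ∈ d.V E₀ ∧ a ∉ E₁ ∧ x ∈ E₁ ∧ x ∉ E₀ ∧ x ^ p = 1 ∧
      R ≤ E₀ ∧ R ≤ E₁ ∧ (∀ r ∈ R, Commute r x) ∧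
      (a⁻¹ * (x * a * x⁻¹) ∉ R) ∧
      ((a⁻¹ * (x * a * x⁻¹))⁻¹ * (x * (a⁻¹ * (x * a * x⁻¹)) * x⁻¹) ∈ R) ∧
      (∀ s : S, ∃ (i j k : ℕ), (a ^ i * x ^ j * (a⁻¹ * (x * a * x⁻¹)) ^ k)⁻¹ * s ∈ R) := by
  haveI := d.normal E₀ hE₀
  haveI := d.normal E₁ hE₁
  obtain ⟨a, haV, haE⟩ := SetLike.not_le_iff_exists.1 hne
  have haE₀ : a ∈ E₀ := d.V_le hE₀ haV
  set D : Subgroup S := E₀ ⊓ E₁ with hD
  haveI hDn : D.Normal := Subgroup.normal_inf_normal _ _
  have hxo : a⁻¹ ∉ E₁ := fun h => haE (by simpa using inv_mem h)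
  obtain ⟨g, hg, hout⟩ := d.exists_conj_outside hE₁ hxo
  set gD := imgOf g D with hgD
  have hgDE : gD ≤ E₁ := imgOf_le g D
  set R := D ⊓ gD with hR
  have hDconj : ∀ q ∈ D, ∀ e ∈ E₁, e * q * e⁻¹ ∈ D := fun q hq e _ => hDn.conj_mem q hq e
  have hgDconj : ∀ {s e : S}, s ∈ gD → e ∈ E₁ → e * s * e⁻¹ ∈ gD := fun hs he => imgOf_conj g hDconj hs he
  -- displacements of `a⁻¹`
  have hfixD : ∀ q ∈ D, a⁻¹ * q * a = q := fun q hq => by
    rw [mul_assoc, ← (d.commute_V hE₀ haV hq.1).eq, inv_mul_cancel_left]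
  have hdispD : ∀ u ∈ E₁, u⁻¹ * (a⁻¹ * u * a) ∈ D ∧ u⁻¹ * (a⁻¹ * u * a) ∈ d.V E₀ := by
    intro u hu
    have h1 : u⁻¹ * (a⁻¹ * u * a) ∈ E₁ := mul_mem (inv_mem hu) (by
      simpa using (d.normal E₁ hE₁).conj_mem u hu a⁻¹)
    have h2 : u⁻¹ * (a⁻¹ * u * a) ∈ d.V E₀ := by
      rw [← mul_assoc]
      refine mul_mem ?_ haV
      simpa [mul_assoc] using d.conj_V hE₀ (inv_mem haV) u⁻¹
    exact ⟨⟨d.V_le hE₀ h2, h1⟩, h2⟩
  -- displacement of the conjugate
  have hgd : ∀ e : E₁, ∃ f : E₁, g f = e ∧ ((e⁻¹ * (g * d.cj hE₁ a⁻¹ * g⁻¹) e : E₁)) =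
      g (f⁻¹ * d.cj hE₁ a⁻¹ f) := fun e => ⟨g⁻¹ e, MulAut.apply_inv_self _ g e, by
        rw [map_mul, map_inv g, MulAut.mul_apply, MulAut.mul_apply, MulAut.apply_inv_self]⟩
  have hdispE : ∀ f : E₁, ((f⁻¹ * d.cj hE₁ a⁻¹ f : E₁) : S) = (f : S)⁻¹ * (a⁻¹ * f * a) := fun f => by
    rw [Subgroup.coe_mul, Subgroup.coe_inv, Pre.cj_apply, inv_inv]
  have htriv : ∀ f : E₁, (f : S) ∈ D → (f⁻¹ * d.cj hE₁ a⁻¹ f : E₁) = 1 := fun f hf =>
    Subtype.ext (by rw [hdispE, hfixD _ hf, inv_mul_cancel]; rfl)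
  -- an image of the centre outside `D`
  obtain ⟨v, hv, hvD, hgv⟩ : ∃ v : E₁, (v : S) ∈ d.V E₀ ∧ (v : S) ∈ D ∧ ((g v : E₁) : S) ∉ D := by
    by_contra hcon
    push Not at hcon
    refine d.false_of_chain hE₁ hS hxo hg hout
      (fun i => match i with | 0 => ⊥ | 1 => R.subgroupOf E₁ | 2 => D.subgroupOf E₁ | _ => ⊤) 3 rfl rfl
      ?_ ?_ ?_
    · intro i hi
      rcases i with _ | _ | _ | i
      · exact bot_le
      · exact Subgroup.comap_mono inf_le_left
      · exact le_top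
      · omega
    · intro i hi e he
      rcases i with _ | _ | _ | i
      · rw [htriv e (show (e : S) ∈ R from he).1]; exact one_mem _
      · rw [htriv e he]; exact one_mem _
      · show ((e⁻¹ * d.cj hE₁ a⁻¹ e : E₁) : S) ∈ D
        rw [hdispE]
        exact (hdispD _ e.2).1
      · omega
    · intro i hi e he
      obtain ⟨f, hf, hdis⟩ := hgd e
      have hf1 := hdispD _ f.2
      rw [← hdispE] at hf1
      rcases i with _ | _ | _ | i
      · have hf' : (f : S) ∈ D := by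
          obtain ⟨f', hf', he'⟩ := (mem_imgOf g D).1 (show (e : S) ∈ R from he).2
          rwa [show f = f' from g.injective (hf.trans (Subtype.ext he'.symm))]
        rw [hdis, htriv f hf', map_one]
        exact one_mem _
      · show ((e⁻¹ * (g * d.cj hE₁ a⁻¹ * g⁻¹) e : E₁) : S) ∈ R
        rw [hdis]
        exact ⟨hcon _ hf1.2 hf1.1, (mem_imgOf g D).2 ⟨_, hf1.1, rfl⟩⟩
      · show ((e⁻¹ * (g * d.cj hE₁ a⁻¹ * g⁻¹) e : E₁) : S) ∈ D
        rw [hdis]
        exact hcon _ hf1.2 hf1.1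
      · omega
  set x : S := ((g v : E₁) : S) with hx
  have hxE₁ : x ∈ E₁ := (g v).2
  have hxE₀ : x ∉ E₀ := fun h => hgv ⟨h, hxE₁⟩
  have hxp : x ^ p = 1 := by
    have h : v ^ p = 1 := Subtype.ext (by rw [Subgroup.coe_pow]; exact d.pow_V hE₀ hv)
    rw [hx, ← Subgroup.coe_pow, ← map_pow, h, map_one, Subgroup.coe_one]
  have hxgD : x ∈ gD := (mem_imgOf g D).2 ⟨v, hvD, rfl⟩
  have hgDx : ∀ r ∈ gD, Commute r x := by
    intro r hr
    obtain ⟨f, hf, rfl⟩ := (mem_imgOf g D).1 hr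
    have h : Commute f v := Subtype.ext ((d.commute_V hE₀ hv hf.1).symm.eq)
    exact congrArg Subtype.val (h.map g).eq
  set b := a⁻¹ * (x * a * x⁻¹) with hb
  have hbV : b ∈ d.V E₀ := mul_mem (inv_mem haV) (d.conj_V hE₀ haV x)
  have hbE₁ : b ∈ E₁ := by
    rw [hb, ← mul_assoc, ← mul_assoc]
    exact mul_mem (by simpa using (d.normal E₁ hE₁).conj_mem x hxE₁ a⁻¹) (inv_mem hxE₁)
  have hbD : b ∈ D := ⟨d.V_le hE₀ hbV, hbE₁⟩
  have hgen₁ : ∀ e ∈ E₁, ∃ j : ℕ, (x ^ j)⁻¹ * e ∈ D := fun e he => by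
    obtain ⟨j, hj⟩ := d.exists_pow hE₀ hxE₀ e
    exact ⟨j, Subgroup.mem_inf.2 ⟨hj, mul_mem (E₁.inv_mem (pow_mem hxE₁ j)) he⟩⟩
  -- `b ∉ R`
  have hbR : b ∉ R := by
    intro hbR
    have hRconj : ∀ {r e : S}, r ∈ R → e ∈ E₁ → e * r * e⁻¹ ∈ R := fun hr he =>
      ⟨hDn.conj_mem _ hr.1 _, hgDconj hr.2 he⟩
    let P : S → Prop := fun e => e⁻¹ * (a⁻¹ * e * a) ∈ R
    have hPmul : ∀ e f, e ∈ E₁ → f ∈ E₁ → P e → P f → P (e * f) := by
      intro e f he hf hPe hPf
      have h := mul_mem (hRconj hPe (inv_mem hf)) hPf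
      simp only [P, inv_inv] at h ⊢
      convert h using 1
      group
    have hPx : P x := by
      have h := hRconj hbR (inv_mem hxE₁)
      simp only [P, inv_inv] at h ⊢
      convert h using 1
      rw [hb]
      group
    have hPall : ∀ e ∈ E₁, P e := by
      intro e he
      obtain ⟨j, hj⟩ := hgen₁ e he
      have hPj : ∀ n : ℕ, P (x ^ n) := fun n => by
        induction n with
        | zero => simp only [P, pow_zero]; group; exact one_mem _
        | succ n ih => rw [pow_succ]; exact hPmul _ _ (pow_mem hxE₁ n) hxE₁ ih hPx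
      have hPd : P ((x ^ j)⁻¹ * e) := by
        simp only [P]
        rw [hfixD _ hj, inv_mul_cancel]
        exact one_mem _
      have := hPmul _ _ (pow_mem hxE₁ j) hj.2 (hPj j) hPd
      rwa [mul_inv_cancel_left] at this
    refine d.false_of_chain hE₁ hS hxo hg hout
      (fun i => match i with | 0 => ⊥ | 1 => R.subgroupOf E₁ | 2 => gD.subgroupOf E₁ | _ => ⊤) 3 rfl rfl
      ?_ ?_ ?_
    · intro i hi
      rcases i with _ | _ | _ | i
      · exact bot_le
      · exact Subgroup.comap_mono inf_le_right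
      · exact le_top
      · omega
    · intro i hi e he
      have hPe : ((e⁻¹ * d.cj hE₁ a⁻¹ e : E₁) : S) ∈ R := by rw [hdispE]; exact hPall _ e.2
      rcases i with _ | _ | _ | i
      · rw [htriv e (show (e : S) ∈ R from he).1]; exact one_mem _
      · exact hPe
      · exact hPe.2
      · omega
    · intro i hi e he
      obtain ⟨f, hf, hdis⟩ := hgd e
      have h1 : (e : S) ∈ gD → e⁻¹ * (g * d.cj hE₁ a⁻¹ * g⁻¹) e = 1 := fun h => by
        obtain ⟨f', hf', he'⟩ := (mem_imgOf g D).1 h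
        rw [hdis, show f = f' from g.injective (hf.trans (Subtype.ext he'.symm)), htriv f' hf', map_one]
      rcases i with _ | _ | _ | i
      · rw [h1 (show (e : S) ∈ R from he).2]; exact one_mem _
      · rw [h1 he]; exact one_mem _
      · show ((e⁻¹ * (g * d.cj hE₁ a⁻¹ * g⁻¹) e : E₁) : S) ∈ gD
        rw [hdis]
        exact (mem_imgOf g D).2 ⟨_, hdispE f ▸ (hdispD _ f.2).1, rfl⟩
      · omega
  have hbgD : b ∉ gD := fun h => hbR ⟨hbD, h⟩
  -- `gD` has index `p` in `E₁`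
  have hidxD : (D.subgroupOf E₁).index = p := by
    have h : D.subgroupOf E₁ = E₀.subgroupOf E₁ := by rw [hD, Subgroup.inf_subgroupOf_right]
    rw [h]
    rcases (Nat.dvd_prime hp.out).1 (d.index E₀ hE₀ ▸ Subgroup.relIndex_dvd_index_of_normal E₀ E₁) with h1 | h1
    · exact absurd (Subgroup.relIndex_eq_one.1 h1 hxE₁) hxE₀
    · exact h1
  have hidxg : (gD.subgroupOf E₁).index = p := by
    have h : gD.subgroupOf E₁ = (D.subgroupOf E₁).map g.toMonoidHom :=
      Subgroup.comap_map_eq_self_of_injective E₁.subtype_injective _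
    rw [h]
    exact (Subgroup.index_map_equiv _ g).trans hidxD
  haveI hgn : (gD.subgroupOf E₁).Normal := ⟨fun e he f => hgDconj he f.2⟩
  have hDgen : ∀ q ∈ D, ∃ k : ℕ, (b ^ k)⁻¹ * q ∈ R := by
    intro q hq
    have hcard : Nat.card (E₁ ⧸ gD.subgroupOf E₁) = p := by rw [← Subgroup.index_eq_card]; exact hidxg
    have htop : Subgroup.zpowers ((⟨b, hbE₁⟩ : E₁) : E₁ ⧸ gD.subgroupOf E₁) = ⊤ :=
      zpowers_eq_top_of_prime_card hcard fun h => hbgD (Subgroup.mem_subgroupOf.1 ((QuotientGroup.eq_one_iff _).1 h))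
    obtain ⟨k, hk⟩ := mem_powers_iff_mem_zpowers.2
      (htop ▸ Subgroup.mem_top ((⟨q, hq.2⟩ : E₁) : E₁ ⧸ gD.subgroupOf E₁))
    have h1 : (⟨b, hbE₁⟩ ^ k : E₁)⁻¹ * ⟨q, hq.2⟩ ∈ gD.subgroupOf E₁ :=
      QuotientGroup.eq.1 (by rw [QuotientGroup.mk_pow]; exact hk)
    exact ⟨k, Subgroup.mem_inf.2 ⟨mul_mem (D.inv_mem (pow_mem hbD k)) hq, by
      simpa [Subgroup.mem_subgroupOf] using h1⟩⟩
  refine ⟨a, x, R, haV, haE, hxE₁, hxE₀, hxp, inf_le_left.trans inf_le_left, inf_le_left.trans inf_le_right,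
    fun r hr => hgDx r hr.2, hbR, Subgroup.mem_inf.2 ⟨?_, ?_⟩, fun s => ?_⟩
  · exact mul_mem (D.inv_mem hbD) (hDn.conj_mem _ hbD x)
  · rw [← mul_assoc]
    refine mul_mem ?_ (gD.inv_mem hxgD)
    have h := hgDconj hxgD (E₁.inv_mem hbE₁)
    rwa [inv_inv, mul_assoc] at h
  · obtain ⟨i, hi⟩ := d.exists_pow hE₁ haE s
    obtain ⟨j, hj⟩ := hgen₁ _ hi
    obtain ⟨k, hk⟩ := hDgen _ hj
    refine ⟨i, j, k, ?_⟩
    show (a ^ i * x ^ j * b ^ k)⁻¹ * s ∈ R
    rw [show (a ^ i * x ^ j * b ^ k)⁻¹ * s = (b ^ k)⁻¹ * ((x ^ j)⁻¹ * ((a ^ i)⁻¹ * s)) by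
      rw [mul_inv_rev, mul_inv_rev, mul_assoc, mul_assoc]]
    exact hk

theorem case_one' (hp2 : p ≠ 2) (hS : IsPGroup p S) (hsr : Cfsg.SectionalPRankLE p 3 S)
    {E₀ : Subgroup S} (hE₀ : E₀ ∈ d.ess) (hM : d.Moving E₀)
    {E₁ : Subgroup S} (hE₁ : E₁ ∈ d.ess) (hne : ¬ d.V E₀ ≤ E₁) :
    Nonempty (SectionalThree.RegularModel p S) ∨ Nat.card S ≤ p ^ 3 := by
  obtain ⟨a, x, R, haV, haE, hxE₁, hxE₀, hxp, hR₀, hR₁, hRx, hbR, hcR, hgen⟩ :=
    d.case_one_frame hS hE₀ hM hE₁ hne
  set b := a⁻¹ * (x * a * x⁻¹) with hb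
  set c := b⁻¹ * (x * b * x⁻¹) with hc
  have three : 3 ≤ p := by
    have := hp.out.two_le
    omega
  have hap := d.pow_V hE₀ haV
  have hbV : b ∈ d.V E₀ := mul_mem (inv_mem haV) (d.conj_V hE₀ haV x)
  have hcV : c ∈ d.V E₀ := mul_mem (inv_mem hbV) (d.conj_V hE₀ hbV x)
  have hVE := d.V_le hE₀
  have hab : Commute a b := d.commute_V hE₀ haV (hVE hbV)
  have hac : Commute a c := d.commute_V hE₀ haV (hVE hcV)
  have hbc : Commute b c := d.commute_V hE₀ hbV (hVE hcV)
  have hbp := d.pow_V hE₀ hbV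
  have hcp := d.pow_V hE₀ hcV
  have hRa : ∀ r ∈ R, Commute r a := fun r hr => (d.commute_V hE₀ haV (hR₀ hr)).symm
  have hRb : ∀ r ∈ R, Commute r b := fun r hr => (d.commute_V hE₀ hbV (hR₀ hr)).symm
  have hxa : x * a * x⁻¹ = a * b := by rw [hb]; group
  have hxb : x * b * x⁻¹ = b * c := by rw [hc]; group
  have hxc : x * c * x⁻¹ = c := by rw [← (hRx c hcR).eq, mul_inv_cancel_right]
  have ha1 : a ≠ 1 := fun h => haE (h ▸ one_mem _)
  have hbE₁ : b ∈ E₁ := by
    haveI := d.normal E₁ hE₁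
    rw [hb, ← mul_assoc, ← mul_assoc]
    exact mul_mem (by simpa using (d.normal E₁ hE₁).conj_mem x hxE₁ a⁻¹) (inv_mem hxE₁)
  have hzpa : ∀ y ∈ Subgroup.zpowers a, y ∈ E₁ → y = 1 := by
    intro y hy hyE
    by_contra hy1
    obtain ⟨n, hn⟩ := Resist.exists_pow_eq hap hy hy1
    exact haE (hn ▸ pow_mem hyE n)
  have hb1 : b ≠ 1 := fun h => hbR (h ▸ one_mem _)
  have hba : b ∉ Subgroup.zpowers a := fun h => hb1 (hzpa b h hbE₁)
  obtain ⟨hab2, habc, habe⟩ := plane_elem hap ha1 hbp hba hab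
  -- `R` is cyclic and central
  have hPR : ∀ r ∈ R, r ∈ Subgroup.zpowers a ⊔ Subgroup.zpowers b → r = 1 := by
    intro r hr hr'
    letI : CommGroup (Subgroup.zpowers a ⊔ Subgroup.zpowers b : Subgroup S) :=
      { (inferInstance : Group _) with mul_comm := fun u w => Subtype.ext (habc u u.2 w w.2).eq }
    obtain ⟨y, hy, w, hw, hyw⟩ := Subgroup.mem_sup.1 (show (⟨r, hr'⟩ : (Subgroup.zpowers a ⊔ Subgroup.zpowers b : Subgroup S)) ∈
        Subgroup.zpowers (⟨a, Subgroup.mem_sup_left (Subgroup.mem_zpowers a)⟩ : (Subgroup.zpowers a ⊔ Subgroup.zpowers b : Subgroup S)) ⊔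
        Subgroup.zpowers ⟨b, Subgroup.mem_sup_right (Subgroup.mem_zpowers b)⟩ from by
      obtain ⟨z, hz, hzr⟩ : r ∈ (Subgroup.zpowers (⟨a, Subgroup.mem_sup_left (Subgroup.mem_zpowers a)⟩ : (Subgroup.zpowers a ⊔ Subgroup.zpowers b : Subgroup S)) ⊔
          Subgroup.zpowers ⟨b, Subgroup.mem_sup_right (Subgroup.mem_zpowers b)⟩).map (Subgroup.subtype _) := by
        rw [Subgroup.map_sup, MonoidHom.map_zpowers, MonoidHom.map_zpowers]
        exact hr'
      exact Subtype.ext (show ((z : S)) = ((⟨r, hr'⟩ : (Subgroup.zpowers a ⊔ Subgroup.zpowers b : Subgroup S)) : S) from hzr) ▸ hz)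
    obtain ⟨i, rfl⟩ := Subgroup.mem_zpowers_iff.1 hy
    obtain ⟨j, rfl⟩ := Subgroup.mem_zpowers_iff.1 hw
    have hr2 : a ^ i * b ^ j = r := by simpa using congrArg Subtype.val hyw
    have hai : a ^ i = 1 := hzpa _ (zpow_mem (Subgroup.mem_zpowers a) i) (by
      rw [← mul_inv_cancel_right (a ^ i) (b ^ j), hr2]
      exact mul_mem (hR₁ hr) (inv_mem (zpow_mem hbE₁ j)))
    rw [hai, one_mul] at hr2
    rw [← hr2]
    by_contra hne1
    obtain ⟨n, hn⟩ := Resist.exists_pow_eq hbp (zpow_mem (Subgroup.mem_zpowers b) j) hne1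
    exact hbR (hn ▸ pow_mem (hr2 ▸ hr) n)
  haveI hRcyc : IsCyclic R := isCyclic_of_centralized hp2 hS hsr habc habe hab2 hPR fun r hr t ht => by
    rw [Subgroup.sup_eq_closure] at ht
    induction ht using Subgroup.closure_induction with
    | mem w hw =>
      rcases hw with hw | hw <;> obtain ⟨i, rfl⟩ := Subgroup.mem_zpowers_iff.1 hw
      · exact (hRa r hr).zpow_right i
      · exact (hRb r hr).zpow_right i
    | one => exact Commute.one_right _
    | mul w w' _ _ h1 h2 => exact h1.mul_right h2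
    | inv w _ h1 => exact h1.inv_right
  obtain ⟨⟨ρ, hρR⟩, hρ⟩ := IsCyclic.exists_zpow_surjective (G := R)
  have hRρ : ∀ r ∈ R, ∃ i : ℤ, ρ ^ i = r := fun r hr => (hρ ⟨r, hr⟩).imp fun i h => by
    simpa using congrArg Subtype.val h
  have hS4 : Subgroup.closure ({a, x, b, ρ} : Set S) = ⊤ := (Subgroup.eq_top_iff' _).2 fun s => by
    obtain ⟨i, j, k, h⟩ := hgen s
    obtain ⟨l, hl⟩ := hRρ _ h
    have := mul_mem (mul_mem (mul_mem
      (pow_mem (Subgroup.subset_closure (show a ∈ ({a, x, b, ρ} : Set S) by simp)) i)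
      (pow_mem (Subgroup.subset_closure (show x ∈ ({a, x, b, ρ} : Set S) by simp)) j))
      (pow_mem (Subgroup.subset_closure (show b ∈ ({a, x, b, ρ} : Set S) by simp)) k))
      (zpow_mem (Subgroup.subset_closure (show ρ ∈ ({a, x, b, ρ} : Set S) by simp)) l)
    rwa [hl, mul_inv_cancel_left] at this
  have hρcen : ρ ∈ Subgroup.center S := Subgroup.mem_center_iff.2 fun s => by
    have : ∀ y ∈ Subgroup.closure ({a, x, b, ρ} : Set S), Commute y ρ := by
      intro y hy
      induction hy using Subgroup.closure_induction with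
      | mem w hw =>
        rcases hw with rfl | rfl | rfl | rfl
        exacts [(hRa _ hρR).symm, (hRx _ hρR).symm, (hRb _ hρR).symm, Commute.refl _]
      | one => exact Commute.one_left _
      | mul w w' _ _ h1 h2 => exact h1.mul_left h2
      | inv w _ h1 => exact h1.inv_left
    exact (this s (hS4 ▸ Subgroup.mem_top s)).eq
  have hRcen : ∀ r ∈ R, ∀ s : S, Commute s r := fun r hr s => by
    obtain ⟨i, rfl⟩ := hRρ r hr
    exact (show Commute s ρ from Subgroup.mem_center_iff.1 hρcen s).zpow_right i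
  have hρE : ∀ E ∈ d.ess, ρ ∈ E := fun E hE => d.centric E hE ρ fun e _ => (Subgroup.mem_center_iff.1 hρcen e).symm
  -- the powers
  set L := Subgroup.zpowers (ρ ^ p) with hL
  haveI hLn : L.Normal := ⟨fun l hl s => by
    obtain ⟨i, rfl⟩ := Subgroup.mem_zpowers_iff.1 hl
    have h : Commute s ((ρ ^ p) ^ i) := ((show Commute s ρ from Subgroup.mem_center_iff.1 hρcen s).pow_right p).zpow_right i
    rw [h.eq, mul_inv_cancel_right]
    exact zpow_mem (Subgroup.mem_zpowers _) i⟩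
  have hcL : ρ ^ p ≠ 1 → c ∈ L := by
    intro hρp
    obtain ⟨i, hi⟩ := hRρ c hcR
    by_cases hpi : (p : ℤ) ∣ i
    · obtain ⟨m, rfl⟩ := hpi
      rw [← hi, zpow_mul, zpow_natCast]
      exact zpow_mem (Subgroup.mem_zpowers _) m
    exfalso
    obtain ⟨n, hn⟩ := hS ρ
    have hcop : IsCoprime i ((p ^ n : ℕ) : ℤ) := by
      push_cast
      exact IsCoprime.pow_right (((Nat.prime_iff_prime_int.1 hp.out).coprime_iff_not_dvd.2 hpi).symm)
    obtain ⟨u, w, huw⟩ := hcop
    have h1 : ρ = c ^ u := by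
      conv_lhs => rw [← zpow_one ρ, ← huw, zpow_add, mul_comm u i, zpow_mul, hi, mul_comm w, zpow_mul,
        zpow_natCast, hn, one_zpow, mul_one]
    rw [h1, ← zpow_natCast, ← zpow_mul, mul_comm, zpow_mul, zpow_natCast, hcp, one_zpow] at hρp
    exact hρp rfl
  have hpowL : c ∈ L → ∀ s : S, s ^ p ∈ L := by
    intro hcL s
    have hπ : ∀ {u v : S}, ⁅u, v⁆ = 1 → ∀ w : S, ⁅⁅u, v⁆, w⁆ ∈ L := fun h w => by
      rw [h, commutatorElement_one_left]; exact one_mem _
    let Cb : Subgroup S := (Subgroup.center (S ⧸ L)).comap (QuotientGroup.mk' L)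
    haveI hCn : Cb.Normal := Subgroup.Normal.comap inferInstance _
    have hmemC : ∀ y : S, (∀ w, ⁅y, w⁆ ∈ L) → y ∈ Cb := fun y hy => Subgroup.mem_center_iff.2 fun q => by
      obtain ⟨q, rfl⟩ := QuotientGroup.mk'_surjective L q
      refine (commutatorElement_eq_one_iff_mul_comm.1 ?_).symm
      rw [← map_commutatorElement]
      exact (QuotientGroup.eq_one_iff _).2 (hy q)
    have hbC : b ∈ Cb := hmemC b fun w => by
      have : ∀ y ∈ Subgroup.closure ({a, x, b, ρ} : Set S), ⁅b, y⁆ ∈ L := by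
        intro y hy
        induction hy using Subgroup.closure_induction with
        | mem w hw =>
          rcases hw with rfl | rfl | rfl | rfl
          · rw [commutatorElement_eq_one_iff_commute.2 hab.symm]; exact one_mem _
          · rw [commutatorElement_def, show b * w * b⁻¹ * w⁻¹ = b * (b * c)⁻¹ by rw [← hxb]; group]
            rw [show b * (b * c)⁻¹ = b * c⁻¹ * b⁻¹ by group, hbc.inv_right.eq, mul_inv_cancel_right]
            exact inv_mem hcL
          · rw [commutatorElement_self]; exact one_mem _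
          · rw [commutatorElement_eq_one_iff_commute.2 (hRb _ hρR).symm]; exact one_mem _
        | one => rw [commutatorElement_one_right]; exact one_mem _
        | mul u v _ _ h1 h2 =>
          rw [show ⁅b, u * v⁆ = ⁅b, u⁆ * (u * ⁅b, v⁆ * u⁻¹) by simp only [commutatorElement_def]; group]
          exact mul_mem h1 (hLn.conj_mem _ h2 u)
        | inv u _ h1 =>
          rw [show ⁅b, u⁻¹⁆ = u⁻¹ * ⁅b, u⁆⁻¹ * u⁻¹⁻¹ by simp only [commutatorElement_def]; group]
          exact hLn.conj_mem _ (inv_mem h1) _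
      exact this w (hS4 ▸ Subgroup.mem_top w)
    refine pow_mem_of_gens hp2 hS4 ?_ (fun u v w => ?_) s
    · rintro u (rfl | rfl | rfl | rfl)
      · rw [hap]; exact one_mem _
      · rw [hxp]; exact one_mem _
      · rw [hbp]; exact one_mem _
      · exact Subgroup.mem_zpowers _
    · have h1 : ⁅u, v⁆ ∈ Cb := by
        refine commute_of_gens hS4 ?_ u v
        have hxaC : ⁅x, a⁆ ∈ Cb := by
          rw [commutatorElement_def, hxa, hab.eq, mul_inv_cancel_right]
          exact hbC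
        have hρc : ∀ y : S, ⁅ρ, y⁆ ∈ Cb ∧ ⁅y, ρ⁆ ∈ Cb := fun y => by
          have h : Commute y ρ := Subgroup.mem_center_iff.1 hρcen y
          rw [commutatorElement_eq_one_iff_commute.2 h, commutatorElement_eq_one_iff_commute.2 h.symm]
          exact ⟨one_mem _, one_mem _⟩
        have hbc' : ∀ y : S, ⁅b, y⁆ ∈ Cb ∧ ⁅y, b⁆ ∈ Cb := fun y => by
          have h : ⁅b, y⁆ ∈ Cb := by
            rw [commutatorElement_def, mul_assoc, mul_assoc]
            exact mul_mem hbC (by simpa [mul_assoc] using hCn.conj_mem _ (inv_mem hbC) y)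
          exact ⟨h, commutatorElement_inv b y ▸ inv_mem h⟩
        intro y hy y' hy'
        simp only [Set.mem_insert_iff, Set.mem_singleton_iff] at hy hy'
        rcases hy with h | h | h | h <;> rcases hy' with h' | h' | h' | h' <;> rw [h, h']
        all_goals first
          | (rw [commutatorElement_self]; exact one_mem _)
          | exact hxaC
          | exact commutatorElement_inv x a ▸ inv_mem hxaC
          | exact (hρc _).1
          | exact (hρc _).2
          | exact (hbc' _).1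
          | exact (hbc' _).2
      have h2 := Subgroup.mem_center_iff.1 h1 (w : S ⧸ L)
      refine (QuotientGroup.eq_one_iff _).1 ?_
      show QuotientGroup.mk' L ⁅⁅u, v⁆, w⁆ = 1
      rw [map_commutatorElement]
      exact commutatorElement_eq_one_iff_mul_comm.2 h2.symm
  by_cases hρp : ρ ^ p ≠ 1
  · exfalso
    have hLS := hpowL (hcL hρp)
    refine hρp (Subgroup.mem_bot.1 ((d.eq_bot L ?_ ?_).le (Subgroup.mem_zpowers _)))
    · intro σ hσ q hq
      obtain ⟨i, rfl⟩ := Subgroup.mem_zpowers_iff.1 hq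
      rw [map_zpow, map_pow]
      exact zpow_mem (hLS _) i
    · intro E hE
      refine ⟨Subgroup.zpowers_le.2 (pow_mem (hρE E hE) p), fun α hα => mem_keep_of_maps fun e he => ?_⟩
      obtain ⟨i, hi⟩ := Subgroup.mem_zpowers_iff.1 he
      have hEρ : e = (⟨ρ, hρE E hE⟩ ^ p) ^ i := Subtype.ext (by simpa using hi.symm)
      rw [hEρ, map_zpow, map_pow, Subgroup.coe_zpow, Subgroup.coe_pow]
      exact zpow_mem (hLS _) i
  push Not at hρp
  have hLbot : L = ⊥ := by rw [hL, hρp, Subgroup.zpowers_one_eq_bot]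
  have hxnot : x ∉ E₀ := hxE₀
  by_cases hc1 : c ≠ 1
  · -- the model
    have hρc : ρ ∈ Subgroup.zpowers c := by
      obtain ⟨i, hi⟩ := hRρ c hcR
      obtain ⟨n, hn⟩ := Resist.exists_pow_eq (c := ρ) hρp (hi ▸ zpow_mem (Subgroup.mem_zpowers ρ) i) hc1
      exact hn ▸ pow_mem (Subgroup.mem_zpowers c) n
    let M : SectionalThree.RegularModel.Data p S :=
      { a := a, b := b, c := c, x := x, a_pow := hap, b_pow := hbp, c_pow := hcp, x_pow := hxp
        ab := hab, ac := hac, bc := hbc, xa := hxa, xb := hxb, xc := hxc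
        gen := by
          refine top_le_iff.1 (hS4 ▸ (Subgroup.closure_le _).2 ?_)
          rintro y (rfl | rfl | rfl | rfl)
          · exact Subgroup.subset_closure (by simp)
          · exact Subgroup.subset_closure (by simp)
          · exact Subgroup.subset_closure (by simp)
          · exact Subgroup.zpowers_le.2 (Subgroup.subset_closure (by simp)) hρc }
    refine Or.inl ?_
    refine model_of_data hS M ha1 hba (fun h => hc1 (hPR c hcR h)) fun h => hxnot ?_
    exact (sup_le (sup_le (Subgroup.zpowers_le.2 (hVE haV)) (Subgroup.zpowers_le.2 (hVE hbV)))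
      (Subgroup.zpowers_le.2 (hVE hcV))) h
  push Not at hc1
  have hxb' : Commute x b := mul_inv_eq_iff_eq_mul.1 (by rw [hxb, hc1, mul_one])
  have hexpS : ∀ s : S, s ^ p = 1 := fun s => Subgroup.mem_bot.1 (hLbot ▸ hpowL (hc1 ▸ one_mem _) s)
  have hbcen : ∀ s : S, Commute s b := fun s => by
    have : ∀ y ∈ Subgroup.closure ({a, x, b, ρ} : Set S), Commute y b := by
      intro y hy
      induction hy using Subgroup.closure_induction with
      | mem w hw =>
        rcases hw with rfl | rfl | rfl | rfl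
        exacts [hab, hxb', Commute.refl _, hRb _ hρR]
      | one => exact Commute.one_left _
      | mul w w' _ _ h1 h2 => exact h1.mul_left h2
      | inv w _ h1 => exact h1.inv_left
    exact this s (hS4 ▸ Subgroup.mem_top s)
  haveI hBn : (Subgroup.zpowers b).Normal := ⟨fun q hq s => by
    obtain ⟨i, rfl⟩ := Subgroup.mem_zpowers_iff.1 hq
    rw [((hbcen s).zpow_right i).eq, mul_inv_cancel_right]
    exact zpow_mem (Subgroup.mem_zpowers b) i⟩
  have hcomm : ∀ u v : S, ⁅u, v⁆ ∈ Subgroup.zpowers b := by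
    refine commute_of_gens hS4 ?_
    have hxaB : ⁅x, a⁆ ∈ Subgroup.zpowers b := by
      rw [commutatorElement_def, hxa, hab.eq, mul_inv_cancel_right]
      exact Subgroup.mem_zpowers b
    have hcen : ∀ y z : S, Commute y z → ⁅y, z⁆ ∈ Subgroup.zpowers b := fun y z h => by
      rw [commutatorElement_eq_one_iff_commute.2 h]; exact one_mem _
    intro y hy y' hy'
    simp only [Set.mem_insert_iff, Set.mem_singleton_iff] at hy hy'
    rcases hy with h | h | h | h <;> rcases hy' with h' | h' | h' | h' <;> rw [h, h']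
    all_goals first
      | (rw [commutatorElement_self]; exact one_mem _)
      | exact hxaB
      | exact commutatorElement_inv x a ▸ inv_mem hxaB
      | exact hcen _ _ (hbcen _)
      | exact hcen _ _ (hbcen _).symm
      | exact hcen _ _ (Subgroup.mem_center_iff.1 hρcen _)
      | exact hcen _ _ (Subgroup.mem_center_iff.1 hρcen _).symm
  -- the counting
  by_cases hρ1 : ρ = 1
  · refine Or.inr ?_
    let f : ZMod p × ZMod p × ZMod p → S := fun t => a ^ t.1.val * x ^ t.2.1.val * b ^ t.2.2.val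
    refine (Nat.card_le_card_of_surjective f fun s => ?_).trans (le_of_eq ?_)
    · obtain ⟨i, j, k, h⟩ := hgen s
      obtain ⟨l, hl⟩ := hRρ _ h
      rw [hρ1, one_zpow] at hl
      refine ⟨((i : ZMod p), (j : ZMod p), (k : ZMod p)), ?_⟩
      show a ^ _ * x ^ _ * b ^ _ = s
      rw [ZMod.val_natCast, ZMod.val_natCast, ZMod.val_natCast,
        ← SectionalThree.RegularModel.Data.pow_mod hap, ← SectionalThree.RegularModel.Data.pow_mod hxp,
        ← SectionalThree.RegularModel.Data.pow_mod hbp]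
      exact inv_mul_eq_one.1 hl.symm
    · simp only [Nat.card_prod, Nat.card_zmod]; ring
  exfalso
  have hρb : ρ ∉ Subgroup.zpowers b := fun h => hρ1 (hPR ρ hρR (Subgroup.mem_sup_right h))
  obtain ⟨hZ2, hZc, hZe⟩ := plane_elem hbp hb1 hρp hρb ((hRb ρ hρR).symm)
  set Z := Subgroup.zpowers b ⊔ Subgroup.zpowers ρ with hZ
  have hZcen : ∀ z ∈ Z, ∀ s : S, Commute s z := by
    intro z hz s
    rw [hZ, Subgroup.sup_eq_closure] at hz
    induction hz using Subgroup.closure_induction with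
    | mem w hw =>
      rcases hw with hw | hw <;> obtain ⟨i, rfl⟩ := Subgroup.mem_zpowers_iff.1 hw
      · exact (hbcen s).zpow_right i
      · exact (show Commute s ρ from Subgroup.mem_center_iff.1 hρcen s).zpow_right i
    | one => exact Commute.one_right _
    | mul w w' _ _ h1 h2 => exact h1.mul_right h2
    | inv w _ h1 => exact h1.inv_right
  have hZcard : Nat.card Z = p ^ 2 := by
    refine le_antisymm ?_ hZ2
    haveI : (Subgroup.zpowers ρ).Normal := ⟨fun q hq s => by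
      obtain ⟨i, rfl⟩ := Subgroup.mem_zpowers_iff.1 hq
      rw [((show Commute s ρ from Subgroup.mem_center_iff.1 hρcen s).zpow_right i).eq, mul_inv_cancel_right]
      exact zpow_mem (Subgroup.mem_zpowers ρ) i⟩
    let f : Subgroup.zpowers b × Subgroup.zpowers ρ → Z := fun t =>
      ⟨t.1 * t.2, mul_mem (Subgroup.mem_sup_left t.1.2) (Subgroup.mem_sup_right t.2.2)⟩
    refine (Nat.card_le_card_of_surjective f fun z => ?_).trans (le_of_eq ?_)
    · obtain ⟨y, hy, w, hw, hyw⟩ := Subgroup.mem_sup_of_normal_right.1 z.2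
      exact ⟨(⟨y, hy⟩, ⟨w, hw⟩), Subtype.ext hyw⟩
    · rw [Nat.card_prod, card_zpowers_eq hbp hb1, card_zpowers_eq hρp hρ1, pow_two]
  -- the centre
  have hcenter : ∀ z : S, (∀ s, Commute s z) → z ∈ Z := by
    intro z hz
    obtain ⟨i, j, k, h⟩ := hgen z
    obtain ⟨l, hl⟩ := hRρ _ h
    set q := b ^ k * ρ ^ l with hq
    have hzq : z = a ^ i * x ^ j * q := by rw [hq, ← mul_assoc, hl, mul_inv_cancel_left]
    have hqZ : q ∈ Z := mul_mem (Subgroup.mem_sup_left (pow_mem (Subgroup.mem_zpowers b) k))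
      (Subgroup.mem_sup_right (zpow_mem (Subgroup.mem_zpowers ρ) l))
    have hax : ∀ n : ℕ, Commute x (a ^ n) → a ^ n = 1 := by
      intro n hn
      have h1 : x * a ^ n * x⁻¹ = a ^ n * b ^ n := by rw [← conj_pow, hxa, hab.mul_pow]
      rw [hn.eq, mul_inv_cancel_right, left_eq_mul] at h1
      rw [← orderOf_dvd_iff_pow_eq_one, orderOf_eq_prime hbp hb1] at h1
      exact SectionalThree.pow_eq_one_of_dvd hap h1
    have h2 : Commute x (a ^ i * x ^ j) := by
      have h3 := (hz x)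
      rw [hzq] at h3
      have h4 := h3.mul_right (hZcen q hqZ x).inv_right
      rwa [mul_inv_cancel_right] at h4
    have hai : a ^ i = 1 := hax i (by
      have h4 := h2.mul_right ((Commute.refl x).pow_right j).inv_right
      rwa [mul_inv_cancel_right] at h4)
    rw [hai, one_mul] at hzq
    have h5 : Commute a (x ^ j) := by
      have h3 := hz a
      rw [hzq] at h3
      have h4 := h3.mul_right (hZcen q hqZ a).inv_right
      rwa [mul_inv_cancel_right] at h4
    have hxj : x ^ j = 1 := by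
      by_contra hne1
      obtain ⟨n, hn⟩ := Resist.exists_pow_eq hxp (pow_mem (Subgroup.mem_zpowers x) j) hne1
      have h6 : Commute a x := hn ▸ h5.pow_right n
      apply hb1
      rw [hb, ← h6.eq, mul_inv_cancel_right, inv_mul_cancel]
    rw [hzq, hxj, one_mul]
    exact hqZ
  have hZA : ∀ σ ∈ d.Aut, ∀ z ∈ Z, σ z ∈ Z := fun σ hσ z hz => hcenter _ fun s => by
    obtain ⟨s, rfl⟩ := σ.surjective s
    exact (hZcen z hz s).map σ
  have hbA : ∀ σ ∈ d.Aut, σ b ∈ Subgroup.zpowers b := fun σ _ => by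
    have h : b = ⁅a⁻¹, x⁆ := by rw [hb, commutatorElement_def]; group
    rw [h, map_commutatorElement, ← h]
    exact hcomm _ _
  have hS4le : Nat.card S ≤ p ^ 4 := by
    let f : ZMod p × ZMod p × Z → S := fun t => a ^ t.1.val * x ^ t.2.1.val * t.2.2
    refine (Nat.card_le_card_of_surjective f fun s => ?_).trans (le_of_eq ?_)
    · obtain ⟨i, j, k, h⟩ := hgen s
      refine ⟨((i : ZMod p), (j : ZMod p),
        ⟨b ^ k * ((a ^ i * x ^ j * b ^ k)⁻¹ * s), mul_mem (Subgroup.mem_sup_left (pow_mem (Subgroup.mem_zpowers b) k))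
          (Subgroup.mem_sup_right (Subgroup.mem_zpowers_iff.2 (hRρ _ h)))⟩), ?_⟩
      show a ^ _ * x ^ _ * _ = s
      rw [ZMod.val_natCast, ZMod.val_natCast, ← SectionalThree.RegularModel.Data.pow_mod hap,
        ← SectionalThree.RegularModel.Data.pow_mod hxp]
      group
    · simp only [Nat.card_prod, Nat.card_zmod, hZcard]; ring
  -- each essential subgroup
  have hlines : ∀ E ∈ d.ess, Z ≤ E ∧ ∃ c₁ ∈ Z, c₁ ∉ Subgroup.zpowers b ∧
      (∀ σ ∈ d.Aut, σ c₁ ∈ Subgroup.zpowers c₁) ∧ d.A E ≤ keep E (Subgroup.zpowers c₁) ∧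
      ∀ e ∈ Z, e ∉ Subgroup.zpowers b → (∀ σ ∈ d.Aut, σ e ∈ Subgroup.zpowers e) →
        e ∈ Subgroup.zpowers c₁ := by
    intro E hE
    have hZE : Z ≤ E := fun z hz => d.centric E hE z fun e _ => (hZcen z hz e).symm
    refine ⟨hZE, ?_⟩
    obtain ⟨x₀, hx₀⟩ := d.exists_not_mem hE
    have hdispb : ∀ v : S, v⁻¹ * (x₀ * v * x₀⁻¹) ∈ Subgroup.zpowers b := fun v => by
      have h := hcomm v⁻¹ x₀
      rw [commutatorElement_def, inv_inv] at h
      simpa [mul_assoc] using h
    have hmove : ¬ d.A E ≤ keep E Z := by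
      intro hk
      refine d.false_of_invariant_chain hE hS hx₀
        (fun i => match i with | 0 => ⊥ | 1 => Z | _ => E) 2 rfl rfl ?_ ?_ ?_
      · intro i hi
        rcases i with _ | _ | i
        · exact bot_le
        · exact hZE
        · omega
      · intro i hi
        rcases i with _ | _ | _ | i
        · exact d.keep_bot hE
        · exact hk
        · exact fun α _ => mem_keep_of_maps fun e _ => (α e).2
        · omega
      · intro i hi u hu
        rcases i with _ | _ | i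
        · show _ ∈ (⊥ : Subgroup S)
          rw [Subgroup.mem_bot, (hZcen u hu x₀).eq, mul_inv_cancel_right, inv_mul_cancel]
        · exact Subgroup.mem_sup_left (hdispb u)
        · omega
    obtain ⟨e, heE, heZ⟩ : ∃ e ∈ E, e ∉ Z := by
      by_contra h
      push Not at h
      exact hmove fun α _ => mem_keep_of_maps fun e _ => h _ (α e).2
    obtain ⟨hT3, hTc, hTe⟩ := mul_card_le_of_commute hZc hZe heZ (hexpS e) fun z hz => hZcen z hz e
    have hTE : Z ⊔ Subgroup.zpowers e = E := by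
      refine Subgroup.eq_of_le_of_card_ge (sup_le hZE (Subgroup.zpowers_le.2 heE)) ?_
      refine le_trans ?_ ((le_of_eq (by rw [hZcard]; ring : p ^ 3 = p * Nat.card Z)).trans hT3)
      have h := E.card_mul_index
      rw [d.index E hE] at h
      refine Nat.le_of_mul_le_mul_right ?_ hp.out.pos
      rw [h, ← pow_succ]
      exact hS4le
    have hcardE : Nat.card E = p ^ 3 := le_antisymm
      (card_elem_le hsr (hTE ▸ hTc) fun u _ => hexpS u)
      (by rw [← hTE]; exact (le_of_eq (by rw [hZcard]; ring : p ^ 3 = p * Nat.card Z)).trans hT3)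
    exact d.exists_line hS three hE (V := E) le_rfl (fun v hv w hw => (hTE ▸ hTc) v hv w hw)
      (fun v _ => hexpS v) hcardE (fun α _ => mem_keep_of_maps fun e _ => (α e).2) hZE hZcard hZcen hZA hmove
      (Subgroup.mem_sup_left (Subgroup.mem_zpowers b)) hb1 hbA hx₀ fun v _ => hdispb v
  obtain ⟨hZE₁, c₁, hc₁Z, hc₁b, hc₁A, -, hc₁u⟩ := hlines E₁ hE₁
  have hbot := d.eq_bot (Subgroup.zpowers c₁) (fun σ hσ q hq => by
      obtain ⟨i, rfl⟩ := Subgroup.mem_zpowers_iff.1 hq
      rw [map_zpow]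
      exact zpow_mem (hc₁A σ hσ) i) fun E hE => by
    obtain ⟨hZE, c₂, hc₂Z, hc₂b, hc₂A, hc₂k, -⟩ := hlines E hE
    refine ⟨Subgroup.zpowers_le.2 (hZE hc₁Z), ?_⟩
    have h12 : Subgroup.zpowers c₂ = Subgroup.zpowers c₁ := by
      refine Subgroup.eq_of_le_of_card_ge (Subgroup.zpowers_le.2 (hc₁u c₂ hc₂Z hc₂b hc₂A)) ?_
      rw [card_zpowers_eq (hexpS c₂) fun h => hc₂b (h ▸ one_mem _), Nat.card_zpowers]
      exact orderOf_le_of_pow_eq_one hp.out.pos (hexpS c₁)
    exact h12 ▸ hc₂k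
  exact hc₁b (by
    have h : c₁ ∈ (⊥ : Subgroup S) := hbot ▸ Subgroup.mem_zpowers c₁
    rw [Subgroup.mem_bot.1 h]; exact one_mem _)

end Datum

end Cfsg.Agent.NormalEss
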