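import Cfsg.Agent.Lib.NormalEss.Common
import Cfsg.Agent.Lib.NormalEss.Line

/-!
# Second case: the moved centres lie in every essential subgroup, one image does not

`Datum.case_two_a` : if every `V E` lies in every essential subgroup and an image of some `V F` under `Aut(E₁)`
leaves some moving `E₀`, then `S` has the presentation `RegularModel p`.
-/

set_option autoImplicit false
set_option linter.unusedSectionVars false
set_option linter.style.haveILetI false
set_option maxHeartbeats 1600000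

namespace Cfsg.Agent.NormalEss

open scoped commutatorElement

universe u

variable {p : ℕ} [hp : Fact p.Prime] {S : Type u} [Group S] [Finite S]

/-- Twice a triangular number. -/
theorem two_mul_tri (n : ℕ) : 2 * SectionalThree.RegularModel.tri n + n = n * n := by
  induction n with
  | zero => rfl
  | succ n ih =>
    simp only [SectionalThree.RegularModel.tri]
    linarith

theorem dvd_tri (hp2 : p ≠ 2) : p ∣ SectionalThree.RegularModel.tri p := by
  have h : p ∣ 2 * SectionalThree.RegularModel.tri p := (Nat.dvd_add_left dvd_rfl).1 (two_mul_tri p ▸ dvd_mul_right p p)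
  exact (hp.out.dvd_mul.1 h).resolve_left fun h2 =>
    hp2 ((Nat.prime_dvd_prime_iff_eq hp.out Nat.prime_two).1 h2)

/-- A power of prime to `p` exponent gives back the element. -/
theorem mem_of_pow_mem {a : S} (ha : a ^ p = 1) {j : ℕ} (hj : ¬ p ∣ j) {K : Subgroup S} (h : a ^ j ∈ K) :
    a ∈ K := by
  obtain ⟨m, hm⟩ := exists_pow_eq_self_of_coprime (x := a) (n := j)
    (Nat.Coprime.coprime_dvd_right (orderOf_dvd_of_pow_eq_one ha) (hp.out.coprime_iff_not_dvd.2 hj).symm)
  exact hm ▸ pow_mem h m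

namespace Datum

variable (d : Datum p S)

/-- The subgroup `E₁` as found in the second case. -/
structure FrameA (d : Datum p S) (E₀ E₁ : Subgroup S) where
  y : S
  v : S
  r : S
  R : Subgroup S
  y_mem : y ∈ E₁
  y_not : y ∉ E₀
  y_pow : y ^ p = 1
  v_mem : v ∈ d.V E₀
  v_mem₁ : v ∈ E₁
  v_not : v ∉ R
  w_ne : ⁅v, y⁆ ≠ 1
  w_mem : ⁅v, y⁆ ∈ R
  w_cen : ∀ s : S, Commute s ⁅v, y⁆
  R_normal : R.Normal
  R_le₀ : R ≤ E₀
  R_le₁ : R ≤ E₁
  R_y : ∀ z ∈ R, Commute z y
  R_comm : ∀ z ∈ R, ∀ z' ∈ R, Commute z z'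
  r_mem : r ∈ R
  R_gen : ∀ z ∈ R, ∃ i j : ℤ, r ^ i * ⁅v, y⁆ ^ j = z
  R_char : ∀ α : MulAut E₁, α ∈ keep E₁ R
  gen₁ : ∀ e ∈ E₁, ∃ j k : ℕ, (y ^ j * v ^ k)⁻¹ * e ∈ R
  gen₀ : ∀ e ∈ E₁, e ∈ E₀ → ∃ k : ℕ, (v ^ k)⁻¹ * e ∈ R

include d

theorem exists_frameA (hp2 : p ≠ 2) (hS : IsPGroup p S) (hsr : Cfsg.SectionalPRankLE p 3 S)
    (hII : ∀ E ∈ d.ess, d.Moving E → ∀ E' ∈ d.ess, d.V E ≤ E')
    {E₀ : Subgroup S} (hE₀ : E₀ ∈ d.ess) (hM : d.Moving E₀) {F : Subgroup S} (hF : F ∈ d.ess) (hFM : d.Moving F)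
    {E₁ : Subgroup S} (hE₁ : E₁ ∈ d.ess) {α : MulAut E₁} (hα : α ∈ d.A E₁)
    (hout : ¬ imgOf α (d.V F) ≤ E₀) : Nonempty (FrameA d E₀ E₁) := by
  haveI := d.normal E₀ hE₀
  haveI := d.normal E₁ hE₁
  haveI := d.normal F hF
  obtain ⟨y, hy, hyE₀⟩ := SetLike.not_le_iff_exists.1 hout
  obtain ⟨f, hf, hfy⟩ := (mem_imgOf α _).1 hy
  have hyE₁ : y ∈ E₁ := imgOf_le α _ hy
  have hyp : y ^ p = 1 := by
    have h : f ^ p = 1 := Subtype.ext (by rw [Subgroup.coe_pow]; exact d.pow_V hF hf)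
    rw [← hfy, ← Subgroup.coe_pow, ← map_pow, h, map_one, Subgroup.coe_one]
  obtain ⟨v, hv, hvy⟩ := d.exists_not_commute hE₀ hS hM hyE₀
  have hvE₀ : v ∈ E₀ := d.V_le hE₀ hv
  have hvE₁ : v ∈ E₁ := hII E₀ hE₀ hM E₁ hE₁ hv
  set D := E₀ ⊓ E₁ with hD
  haveI hDn : D.Normal := Subgroup.normal_inf_normal _ _
  set D' := imgOf α (F ⊓ E₁) with hD'
  have hD'conj : ∀ {s e : S}, s ∈ D' → e ∈ E₁ → e * s * e⁻¹ ∈ D' := fun hs he =>
    imgOf_conj α (fun q hq e _ => (Subgroup.normal_inf_normal F E₁).conj_mem q hq e) hs he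
  have hVD' : imgOf α (d.V F) ≤ D' := fun s hs => by
    obtain ⟨g, hg, rfl⟩ := (mem_imgOf α _).1 hs
    exact (mem_imgOf α _).2 ⟨g, ⟨d.V_le hF hg, g.2⟩, rfl⟩
  have hyD' : ∀ s ∈ D', Commute s y := by
    intro s hs
    obtain ⟨g, hg, rfl⟩ := (mem_imgOf α _).1 hs
    have h : Commute g f := Subtype.ext ((d.commute_V hF hf hg.1).symm.eq)
    rw [← hfy]
    exact congrArg Subtype.val (h.map α).eq
  have hvD' : v ∉ D' := fun h => hvy (hyD' v h).symm
  have hFne : ¬ E₁ ≤ F := fun h => hvD' ((mem_imgOf α _).2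
    ⟨α⁻¹ ⟨v, hvE₁⟩, ⟨h (α⁻¹ ⟨v, hvE₁⟩).2, (α⁻¹ ⟨v, hvE₁⟩).2⟩, by simp⟩)
  set R := D ⊓ D' with hR
  set w := ⁅v, y⁆ with hw
  have hw1 : w ≠ 1 := fun h => hvy (commutatorElement_eq_one_iff_commute.1 h).symm
  have hwV : w ∈ d.V E₀ := by
    rw [hw, commutatorElement_def, mul_assoc, mul_assoc]
    exact mul_mem hv (by simpa [mul_assoc] using d.conj_V hE₀ (inv_mem hv) y)
  have hwD' : w ∈ D' := by
    rw [hw, commutatorElement_def]
    exact mul_mem (hD'conj (hVD' hy) hvE₁) (D'.inv_mem (hVD' hy))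
  have hwR : w ∈ R := Subgroup.mem_inf.2 ⟨Subgroup.mem_inf.2 ⟨d.V_le hE₀ hwV, hII E₀ hE₀ hM E₁ hE₁ hwV⟩, hwD'⟩
  have hwcen : ∀ s : S, Commute s w := fun s => by
    obtain ⟨i, hi⟩ := d.exists_pow hE₀ hyE₀ s
    rw [← mul_inv_cancel_left (y ^ i) s]
    exact ((hyD' w hwD').symm.pow_left i).mul_left (d.commute_V hE₀ hwV hi).symm
  have hRE₀ : R ≤ E₀ := inf_le_left.trans inf_le_left
  have hRE₁ : R ≤ E₁ := inf_le_left.trans inf_le_right
  have hRy : ∀ z ∈ R, Commute z y := fun z hz => hyD' z hz.2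
  have hRv : ∀ z ∈ R, Commute z v := fun z hz => (d.commute_V hE₀ hv (hRE₀ hz)).symm
  -- generation of `E₁`
  have hidxF : ((F ⊓ E₁).subgroupOf E₁).index = p := by
    rw [Subgroup.inf_subgroupOf_right]
    rcases (Nat.dvd_prime hp.out).1 (d.index F hF ▸ Subgroup.relIndex_dvd_index_of_normal F E₁) with h1 | h1
    · exact absurd (Subgroup.relIndex_eq_one.1 h1) hFne
    · exact h1
  have hidxD' : (D'.subgroupOf E₁).index = p := by
    have h : D'.subgroupOf E₁ = ((F ⊓ E₁).subgroupOf E₁).map α.toMonoidHom :=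
      Subgroup.comap_map_eq_self_of_injective E₁.subtype_injective _
    rw [h]
    exact (Subgroup.index_map_equiv _ α).trans hidxF
  haveI hD'n : (D'.subgroupOf E₁).Normal := ⟨fun e he g => hD'conj he g.2⟩
  have hgen₀ : ∀ e ∈ E₁, e ∈ E₀ → ∃ k : ℕ, (v ^ k)⁻¹ * e ∈ R := by
    intro e he he₀
    have hcard : Nat.card (E₁ ⧸ D'.subgroupOf E₁) = p := by rw [← Subgroup.index_eq_card]; exact hidxD'
    have htop : Subgroup.zpowers ((⟨v, hvE₁⟩ : E₁) : E₁ ⧸ D'.subgroupOf E₁) = ⊤ :=
      zpowers_eq_top_of_prime_card hcard fun h => hvD' (Subgroup.mem_subgroupOf.1 ((QuotientGroup.eq_one_iff _).1 h))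
    obtain ⟨k, hk⟩ := mem_powers_iff_mem_zpowers.2
      (htop ▸ Subgroup.mem_top ((⟨e, he⟩ : E₁) : E₁ ⧸ D'.subgroupOf E₁))
    have h1 : (⟨v, hvE₁⟩ ^ k : E₁)⁻¹ * ⟨e, he⟩ ∈ D'.subgroupOf E₁ :=
      QuotientGroup.eq.1 (by rw [QuotientGroup.mk_pow]; exact hk)
    exact ⟨k, Subgroup.mem_inf.2 ⟨Subgroup.mem_inf.2 ⟨mul_mem (E₀.inv_mem (pow_mem hvE₀ k)) he₀,
      mul_mem (E₁.inv_mem (pow_mem hvE₁ k)) he⟩, by simpa [Subgroup.mem_subgroupOf] using h1⟩⟩
  have hgen₁ : ∀ e ∈ E₁, ∃ j k : ℕ, (y ^ j * v ^ k)⁻¹ * e ∈ R := by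
    intro e he
    obtain ⟨j, hj⟩ := d.exists_pow hE₀ hyE₀ e
    obtain ⟨k, hk⟩ := hgen₀ _ (mul_mem (E₁.inv_mem (pow_mem hyE₁ j)) he) hj
    exact ⟨j, k, by rwa [mul_inv_rev, mul_assoc]⟩
  -- `R` is generated by `w` and one more element
  obtain ⟨r, hrR, hrgen⟩ : ∃ r ∈ R, ∀ z ∈ R, ∃ i j : ℤ, r ^ i * w ^ j = z := by
    have hRp := hS.to_subgroup R
    set wR : R := ⟨w, hwR⟩
    set M : Subgroup R := frattini R ⊔ Subgroup.zpowers wR with hMdef
    have hwcR : wR ∈ Subgroup.center R := Subgroup.mem_center_iff.2 fun z => Subtype.ext (hwcen z).eq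
    haveI hMn : M.Normal := by
      haveI : (Subgroup.zpowers wR).Normal := ⟨fun q hq z => by
        obtain ⟨i, rfl⟩ := Subgroup.mem_zpowers_iff.1 hq
        rw [((show Commute z wR from Subgroup.mem_center_iff.1 hwcR z).zpow_right i).eq, mul_inv_cancel_right]
        exact zpow_mem (Subgroup.mem_zpowers wR) i⟩
      exact Subgroup.sup_normal _ _
    -- the section `E₁ / M` is elementary of order at most `p ^ 3`
    let Q := R ⧸ M
    have hQ : Nat.card Q ≤ p := by
      have hRn₁ : (R.subgroupOf E₁).Normal := ⟨fun z hz g => Subgroup.mem_inf.2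
        ⟨hDn.conj_mem _ hz.1 _, hD'conj hz.2 g.2⟩⟩
      let M₁ : Subgroup E₁ := (M.map R.subtype).subgroupOf E₁
      haveI hM₁n : M₁.Normal := by
        refine ⟨fun z hz g => ?_⟩
        obtain ⟨m, hm, hmz⟩ := (hz : (z : S) ∈ M.map R.subtype)
        obtain ⟨j, k, hg⟩ := hgen₁ _ g.2
        set t := (y ^ j * v ^ k)⁻¹ * (g : S) with ht
        have hgt : (g : S) = y ^ j * v ^ k * t := by rw [ht, mul_inv_cancel_left]
        have hc : Commute (y ^ j * v ^ k) ((⟨t, hg⟩ * m * ⟨t, hg⟩⁻¹ : R) : S) :=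
          (((hRy _ (⟨t, hg⟩ * m * ⟨t, hg⟩⁻¹ : R).2).symm.pow_left j).mul_left
            ((hRv _ (⟨t, hg⟩ * m * ⟨t, hg⟩⁻¹ : R).2).symm.pow_left k))
        refine ⟨⟨t, hg⟩ * m * ⟨t, hg⟩⁻¹, hMn.conj_mem m hm _, ?_⟩
        show (((⟨t, hg⟩ * m * ⟨t, hg⟩⁻¹ : R)) : S) = (g : S) * z * (g : S)⁻¹
        rw [show (z : S) = (m : S) from hmz.symm]
        conv_lhs => rw [← mul_inv_cancel_right (((⟨t, hg⟩ * m * ⟨t, hg⟩⁻¹ : R)) : S) (y ^ j * v ^ k), ← hc.eq]
        rw [hgt]
        simp only [Subgroup.coe_mul, Subgroup.coe_inv, Subgroup.subtype_apply]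
        group
      let π := QuotientGroup.mk' M₁
      have hπ1 : ∀ z : E₁, π z = 1 ↔ (z : S) ∈ M.map R.subtype := fun z => QuotientGroup.eq_one_iff z
      have hMw : w ∈ M.map R.subtype := ⟨wR, Subgroup.mem_sup_right (Subgroup.mem_zpowers wR), rfl⟩
      have hMfr : ∀ z : R, z ∈ frattini R → (z : S) ∈ M.map R.subtype := fun z hz =>
        ⟨z, Subgroup.mem_sup_left hz, rfl⟩
      let s : Set E₁ := {⟨y, hyE₁⟩, ⟨v, hvE₁⟩} ∪ {z | (z : S) ∈ R}
      have hs : Subgroup.closure s = ⊤ := (Subgroup.eq_top_iff' _).2 fun e => by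
        obtain ⟨j, k, h⟩ := hgen₁ _ e.2
        have := mul_mem (mul_mem
          (pow_mem (Subgroup.subset_closure (show (⟨y, hyE₁⟩ : E₁) ∈ s from Or.inl (by simp))) j)
          (pow_mem (Subgroup.subset_closure (show (⟨v, hvE₁⟩ : E₁) ∈ s from Or.inl (by simp))) k))
          (Subgroup.subset_closure (show ((⟨y, hyE₁⟩ ^ j * ⟨v, hvE₁⟩ ^ k)⁻¹ * e : E₁) ∈ s from Or.inr h))
        rwa [mul_inv_cancel_left] at this
      have hcomm := SectionalThree.commute_of_closure π hs (by
        have hcz : ∀ a b : E₁, Commute (a : S) b → Commute (π a) (π b) := fun a b h =>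
          (show Commute a b from Subtype.ext h).map π
        have hvy' : Commute (π ⟨v, hvE₁⟩) (π ⟨y, hyE₁⟩) := by
          refine commutatorElement_eq_one_iff_commute.1 ?_
          rw [← map_commutatorElement, hπ1]
          exact hMw
        rintro a ((rfl | rfl) | ha) b ((rfl | rfl) | hb)
        · exact Commute.refl _
        · exact hvy'.symm
        · exact hcz _ _ (hRy _ hb).symm
        · exact hvy'
        · exact Commute.refl _
        · exact hcz _ _ (hRv _ hb).symm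
        · exact hcz _ _ (hRy _ ha)
        · exact hcz _ _ (hRv _ ha)
        · refine commutatorElement_eq_one_iff_commute.1 ?_
          rw [← map_commutatorElement, hπ1]
          exact hMfr ⁅⟨(a : S), ha⟩, ⟨(b : S), hb⟩⁆ (PGroup.commutatorElement_mem_frattini hRp _ _))
      have hexp : ∀ a : E₁, π a ^ p = 1 := fun a => by
        have ha : a ∈ Subgroup.closure s := hs ▸ Subgroup.mem_top a
        induction ha using Subgroup.closure_induction with
        | mem a ha =>
          rw [← map_pow]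
          rcases ha with (rfl | rfl) | ha
          · rw [show (⟨y, hyE₁⟩ : E₁) ^ p = 1 from Subtype.ext hyp, map_one]
          · rw [show (⟨v, hvE₁⟩ : E₁) ^ p = 1 from Subtype.ext (d.pow_V hE₀ hv), map_one]
          · rw [hπ1, Subgroup.coe_pow]
            exact hMfr (⟨(a : S), ha⟩ ^ p) (PGroup.pow_mem_frattini hRp _)
        | one => rw [map_one, one_pow]
        | mul a b _ _ h1 h2 => rw [map_mul, (hcomm a b).mul_pow, h1, h2, one_mul]
        | inv a _ h1 => rw [map_inv, inv_pow, h1, inv_one]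
      -- rank
      have hle := RankThreeEss.card_range_le hsr (U := E₁)
        π (fun a b => (hcomm a b).eq) hexp
      rw [MonoidHom.range_eq_top.2 (QuotientGroup.mk'_surjective M₁), Subgroup.card_top] at hle
      let f : ZMod p × ZMod p × Q → E₁ ⧸ M₁ := fun t =>
        π ⟨y, hyE₁⟩ ^ t.1.val * π ⟨v, hvE₁⟩ ^ t.2.1.val *
          QuotientGroup.lift M (π.comp (Subgroup.inclusion hRE₁)) (fun m hm => (hπ1 _).2 ⟨m, hm, rfl⟩) t.2.2
      have hf : Function.Injective f := by
        rintro ⟨j, k, q⟩ ⟨j', k', q'⟩ h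
        induction q using QuotientGroup.induction_on with | _ q => ?_
        induction q' using QuotientGroup.induction_on with | _ q' => ?_
        have h' : π (⟨y, hyE₁⟩ ^ j.val * ⟨v, hvE₁⟩ ^ k.val * Subgroup.inclusion hRE₁ q) =
            π (⟨y, hyE₁⟩ ^ j'.val * ⟨v, hvE₁⟩ ^ k'.val * Subgroup.inclusion hRE₁ q') := by
          simp only [map_mul, map_pow]
          exact h
        rw [← inv_mul_eq_one, ← map_inv, ← map_mul, hπ1] at h'
        have hin : (y ^ j.val * v ^ k.val * (q : S))⁻¹ * (y ^ j'.val * v ^ k'.val * (q' : S)) ∈ R := by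
          have h2 := Subgroup.map_subtype_le M h'
          simpa using h2
        -- the coordinates agree
        have hd : (y ^ j.val * v ^ k.val)⁻¹ * (y ^ j'.val * v ^ k'.val) ∈ R := by
          have h3 := mul_mem (mul_mem q.2 hin) (R.inv_mem q'.2)
          rw [mul_inv_rev] at h3
          convert h3 using 1
          group
        have hjE : (y ^ j.val)⁻¹ * y ^ j'.val ∈ E₀ := by
          have h4 := mul_mem (mul_mem (pow_mem hvE₀ k.val) (hRE₀ hd)) (E₀.inv_mem (pow_mem hvE₀ k'.val))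
          convert h4 using 1
          group
        have hpow : ∀ {g : S} {K : Subgroup S}, g ^ p = 1 → g ∉ K → ∀ n n' : ZMod p,
            (g ^ n.val)⁻¹ * g ^ n'.val ∈ K → n = n' := by
          intro g K hgp hgK n n' hn
          rw [show (g ^ n.val)⁻¹ = g ^ (p - n.val) from inv_eq_of_mul_eq_one_right (by
            rw [← pow_add, Nat.add_sub_cancel' (ZMod.val_lt n).le, hgp]), ← pow_add] at hn
          by_contra hne
          refine hgK (mem_of_pow_mem hgp (fun hdvd => hne ?_) hn)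
          rw [← ZMod.natCast_eq_zero_iff, Nat.cast_add, Nat.cast_sub (ZMod.val_lt _).le, ZMod.natCast_self,
            ZMod.natCast_zmod_val, ZMod.natCast_zmod_val, zero_sub, neg_add_eq_zero] at hdvd
          exact hdvd
        obtain rfl := hpow hyp hyE₀ j j' hjE
        obtain rfl := hpow (d.pow_V hE₀ hv) hvD' k k' (by
          have h5 : (v ^ k.val)⁻¹ * v ^ k'.val ∈ R := by
            convert hd using 1
            group
          exact h5.2)
        simp only [Prod.mk.injEq, true_and]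
        refine QuotientGroup.eq.2 ?_
        obtain ⟨m, hm, hmv⟩ := h'
        have hm2 : (m : S) = (q : S)⁻¹ * (q' : S) := by
          simpa [mul_assoc] using hmv
        have e : q⁻¹ * q' = m := Subtype.ext (by rw [Subgroup.coe_mul, Subgroup.coe_inv, hm2])
        rw [e]
        exact hm
      have h3 := (Nat.card_le_card_of_injective f hf).trans hle
      simp only [Nat.card_prod, Nat.card_zmod] at h3
      have h4 : p * p * Nat.card Q ≤ p * p * p := by
        calc p * p * Nat.card Q = p * (p * Nat.card Q) := by ring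
          _ ≤ p ^ 3 := h3
          _ = _ := by ring
      exact Nat.le_of_mul_le_mul_left h4 (Nat.mul_pos hp.out.pos hp.out.pos)
    obtain ⟨q, hq⟩ : ∃ q : Q, ∀ z : Q, z ∈ Subgroup.zpowers q := by
      rcases eq_or_ne (Nat.card Q) 1 with h1 | h1
      · haveI := (Nat.card_eq_one_iff_unique.1 h1).1
        exact ⟨1, fun z => Subsingleton.elim 1 z ▸ one_mem _⟩
      · obtain ⟨n, hn⟩ := IsPGroup.iff_card.1 (hRp.to_quotient M)
        have hn1 : n = 1 := by
          have h5 : p ^ n ≤ p ^ 1 := by rw [pow_one, ← hn]; exact hQ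
          have := (Nat.pow_le_pow_iff_right hp.out.one_lt).1 h5
          have : n ≠ 0 := fun h => h1 (by rw [show Nat.card Q = p ^ n from hn, h, pow_zero])
          omega
        haveI : IsCyclic Q := isCyclic_of_prime_card (p := p) (by rw [show Nat.card Q = p ^ n from hn, hn1, pow_one])
        exact IsCyclic.exists_generator
    obtain ⟨r, rfl⟩ := QuotientGroup.mk'_surjective M q
    refine ⟨r, r.2, ?_⟩
    -- `r, w` generate
    have htop : Subgroup.zpowers r ⊔ Subgroup.zpowers wR = ⊤ := by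
      refine frattini_nongenerating (top_le_iff.1 fun z _ => ?_)
      obtain ⟨i, hi⟩ := Subgroup.mem_zpowers_iff.1 (hq (QuotientGroup.mk' M z))
      rw [← map_zpow] at hi
      have hz : (r ^ i)⁻¹ * z ∈ M := QuotientGroup.eq.1 hi
      rw [← mul_inv_cancel_left (r ^ i) z]
      have hle : M ≤ (Subgroup.zpowers r ⊔ Subgroup.zpowers wR) ⊔ frattini R :=
        sup_le le_sup_right (le_sup_right.trans le_sup_left)
      exact mul_mem (Subgroup.mem_sup_left (Subgroup.mem_sup_left (zpow_mem (Subgroup.mem_zpowers r) i))) (hle hz)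
    intro z hz
    haveI : (Subgroup.zpowers wR).Normal := ⟨fun q hq z => by
      obtain ⟨i, rfl⟩ := Subgroup.mem_zpowers_iff.1 hq
      rw [((show Commute z wR from Subgroup.mem_center_iff.1 hwcR z).zpow_right i).eq, mul_inv_cancel_right]
      exact zpow_mem (Subgroup.mem_zpowers wR) i⟩
    obtain ⟨a, ha, b, hb, hab⟩ := Subgroup.mem_sup_of_normal_right.1 (htop.ge (Subgroup.mem_top (⟨z, hz⟩ : R)))
    obtain ⟨i, rfl⟩ := Subgroup.mem_zpowers_iff.1 ha
    obtain ⟨j, rfl⟩ := Subgroup.mem_zpowers_iff.1 hb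
    exact ⟨i, j, by simpa using congrArg Subtype.val hab⟩
  have hRc : ∀ z ∈ R, ∀ z' ∈ R, Commute z z' := by
    intro z hz z' hz'
    obtain ⟨i, j, rfl⟩ := hrgen z hz
    obtain ⟨i', j', rfl⟩ := hrgen z' hz'
    exact (((Commute.refl r).zpow_zpow i i').mul_right ((hwcen _).zpow_right j')).mul_left
      ((hwcen _).symm.zpow_left j)
  -- `R` is the centre of `E₁`
  have hchar : ∀ e ∈ E₁, Commute e v → Commute e y → e ∈ R := by
    intro e he hev hey
    obtain ⟨j, k, h⟩ := hgen₁ e he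
    set t := (y ^ j * v ^ k)⁻¹ * e with ht
    have het : e = y ^ j * v ^ k * t := by rw [ht, mul_inv_cancel_left]
    have hkey : ∀ {a b : S} (n : ℕ), a ^ p = 1 → Commute (a ^ n) b → ¬ Commute a b → a ^ n = 1 := by
      intro a b n hap hc hnc
      by_contra hne1
      obtain ⟨m, hm⟩ := Resist.exists_pow_eq hap (pow_mem (Subgroup.mem_zpowers a) n) hne1
      exact hnc (hm ▸ hc.pow_left m)
    have h1 : Commute (y ^ j) v := by
      have h2 : Commute (e * t⁻¹ * (v ^ k)⁻¹) v :=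
        (hev.mul_left (hRv t h).inv_left).mul_left (((Commute.refl v).pow_left k).inv_left)
      rwa [het, mul_inv_cancel_right, mul_inv_cancel_right] at h2
    have hj1 := hkey j hyp h1 hvy
    rw [hj1, one_mul] at het
    have h3 : Commute (v ^ k) y := by
      have h2 : Commute (e * t⁻¹) y := hey.mul_left (hRy t h).inv_left
      rwa [het, mul_inv_cancel_right] at h2
    rw [hkey k (d.pow_V hE₀ hv) h3 (fun h => hvy h.symm), one_mul] at het
    rw [het]
    exact h
  have hRcen₁ : ∀ z ∈ R, ∀ e ∈ E₁, Commute z e := fun z hz e he => by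
    obtain ⟨j, k, h⟩ := hgen₁ e he
    rw [← mul_inv_cancel_left (y ^ j * v ^ k) e]
    exact (((hRy z hz).pow_right j).mul_right ((hRv z hz).pow_right k)).mul_right (hRc z hz _ h)
  refine ⟨⟨y, v, r, R, hyE₁, hyE₀, hyp, hv, hvE₁, fun h => hvD' h.2, hw1, hwR, hwcen, ⟨fun z hz s => ?_⟩,
    hRE₀, hRE₁, hRy, hRc, hrR, hrgen, fun β => mem_keep_of_maps fun e he => ?_, hgen₁, hgen₀⟩⟩
  · have hsz : s * z * s⁻¹ ∈ E₁ := (d.normal E₁ hE₁).conj_mem z (hRE₁ hz) s
    have hc : ∀ e ∈ E₁, Commute (s * z * s⁻¹) e := fun e he => by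
      have h1 := (hRcen₁ z hz (s⁻¹ * e * s) (by simpa using (d.normal E₁ hE₁).conj_mem e he s⁻¹)).map (MulAut.conj s)
      simpa [mul_assoc] using h1
    exact hchar _ hsz (hc v hvE₁) (hc y hyE₁)
  · have hc : ∀ g : E₁, Commute ((β e : E₁) : S) g := fun g => by
      obtain ⟨g, rfl⟩ := β.surjective g
      exact congrArg Subtype.val ((show Commute e g from Subtype.ext (hRcen₁ _ he g g.2)).map β).eq
    exact hchar _ (β e).2 (hc ⟨v, hvE₁⟩) (hc ⟨y, hyE₁⟩)

theorem case_two_a (hp2 : p ≠ 2) (hS : IsPGroup p S) (hsr : Cfsg.SectionalPRankLE p 3 S)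
    (hII : ∀ E ∈ d.ess, d.Moving E → ∀ E' ∈ d.ess, d.V E ≤ E')
    {E₀ : Subgroup S} (hE₀ : E₀ ∈ d.ess) (hM : d.Moving E₀) {F : Subgroup S} (hF : F ∈ d.ess) (hFM : d.Moving F)
    {E₁ : Subgroup S} (hE₁ : E₁ ∈ d.ess) {α : MulAut E₁} (hα : α ∈ d.A E₁)
    (hout : ¬ imgOf α (d.V F) ≤ E₀) : Nonempty (SectionalThree.RegularModel p S) := by
  obtain ⟨Φ⟩ := d.exists_frameA hp2 hS hsr hII hE₀ hM hF hFM hE₁ hα hout
  obtain ⟨y, v, r, R, hyE₁, hyE₀, hyp, hv, hvE₁, hvR, hw1, hwR, hwcen, hRn, hRE₀, hRE₁, hRy, hRc, hrR, hrgen,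
    hRchar, hgen₁, hgen₀⟩ := Φ
  haveI := d.normal E₀ hE₀
  haveI := d.normal E₁ hE₁
  have three : 3 ≤ p := by
    have := hp.out.two_le
    omega
  set w := ⁅v, y⁆ with hw
  have hvE₀ : v ∈ E₀ := d.V_le hE₀ hv
  have hvp := d.pow_V hE₀ hv
  have hwp : w ^ p = 1 := by
    have hwV : w ∈ d.V E₀ := by
      rw [hw, commutatorElement_def, mul_assoc, mul_assoc]
      exact mul_mem hv (by simpa [mul_assoc] using d.conj_V hE₀ (inv_mem hv) y)
    exact d.pow_V hE₀ hwV
  have hRv : ∀ z ∈ R, Commute z v := fun z hz => (d.commute_V hE₀ hv (hRE₀ hz)).symm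
  haveI hWn : (Subgroup.zpowers w).Normal := ⟨fun q hq s => by
    obtain ⟨i, rfl⟩ := Subgroup.mem_zpowers_iff.1 hq
    rw [((hwcen s).zpow_right i).eq, mul_inv_cancel_right]
    exact zpow_mem (Subgroup.mem_zpowers w) i⟩
  -- the elements of order `p` of `R`
  let T : Subgroup S :=
    { carrier := {z | z ∈ R ∧ z ^ p = 1}
      one_mem' := ⟨one_mem _, one_pow p⟩
      mul_mem' := fun {a b} ha hb => ⟨mul_mem ha.1 hb.1, by
        rw [(hRc a ha.1 b hb.1).mul_pow, ha.2, hb.2, one_mul]⟩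
      inv_mem' := fun {a} ha => ⟨inv_mem ha.1, by rw [inv_pow, ha.2, inv_one]⟩ }
  haveI hTn : T.Normal := ⟨fun z hz s => ⟨hRn.conj_mem z hz.1 s, by rw [conj_pow, hz.2, mul_one, mul_inv_cancel]⟩⟩
  have hTcard : Nat.card T ≤ p * Nat.card (Subgroup.zpowers w) := by
    obtain ⟨h1, h2, h3⟩ := mul_card_le_of_commute (T := T) (fun a ha b hb => hRc a ha.1 b hb.1) (fun a ha => ha.2)
      (t := v) (fun h => hvR h.1) hvp (fun a ha => (hRv a ha.1).symm)
    rw [card_zpowers_eq hwp hw1]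
    refine Nat.le_of_mul_le_mul_left (h1.trans ((card_elem_le hsr h2 h3).trans (le_of_eq ?_))) hp.out.pos
    ring
  have hwT : Subgroup.zpowers w ≤ T := Subgroup.zpowers_le.2 ⟨hwR, hwp⟩
  -- an element of `E₀` outside `E₁`
  obtain ⟨e, heE₀, heE₁⟩ : ∃ e ∈ E₀, e ∉ E₁ := by
    by_contra h
    push Not at h
    have heq : E₀ = E₁ := Subgroup.eq_of_le_of_card_ge h (le_of_eq ?_)
    · exact hyE₀ (heq ▸ hyE₁)
    · have h1 := E₀.card_mul_index
      have h2 := E₁.card_mul_index
      rw [d.index E₀ hE₀] at h1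
      rw [d.index E₁ hE₁] at h2
      exact Nat.eq_of_mul_eq_mul_right hp.out.pos (h2.trans h1.symm)
  set q := ⁅e, y⁆ with hq
  have hqD : q ∈ E₁ ∧ q ∈ E₀ := by
    rw [hq, commutatorElement_def]
    refine ⟨mul_mem ((d.normal E₁ hE₁).conj_mem y hyE₁ e) (inv_mem hyE₁), ?_⟩
    rw [mul_assoc, mul_assoc]
    exact mul_mem heE₀ (by simpa [mul_assoc] using (d.normal E₀ hE₀).conj_mem e⁻¹ (inv_mem heE₀) y)
  obtain ⟨j, hj⟩ := hgen₀ q hqD.1 hqD.2
  set r₁ := (v ^ j)⁻¹ * q with hr₁
  have hq' : q = v ^ j * r₁ := by rw [hr₁, mul_inv_cancel_left]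
  have hey : e * y * e⁻¹ = q * y := by rw [hq, commutatorElement_def, inv_mul_cancel_right]
  have hev : Commute e v := (d.commute_V hE₀ hv heE₀).symm
  have hqy : ⁅y, q⁆ = (w ^ j)⁻¹ := by
    have hvj : ⁅v ^ j, y⁆ = w ^ j := PGroup.commutator_pow_left (hwcen v) j
    rw [← commutatorElement_inv, hq',
      show ⁅v ^ j * r₁, y⁆ = v ^ j * ⁅r₁, y⁆ * (v ^ j)⁻¹ * ⁅v ^ j, y⁆ by simp only [commutatorElement_def]; group,
      commutatorElement_eq_one_iff_commute.2 (hRy _ hj), mul_one, mul_inv_cancel, one_mul, hvj]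
  have hr₁p : r₁ ^ p = 1 := by
    have h1 : (q * y) ^ p = 1 := by rw [← hey, conj_pow, hyp, mul_one, mul_inv_cancel]
    rw [PGroup.mul_pow_prime_eq hp.out hp2 (hqy ▸ ((hwcen q).pow_right j).inv_right)
      (hqy ▸ ((hwcen y).pow_right j).inv_right)
      (by rw [hqy, inv_pow, ← pow_mul, mul_comm, pow_mul, hwp, one_pow, inv_one]), hyp, mul_one, hq',
      ((hRv _ hj).symm.pow_left j).mul_pow, ← pow_mul, mul_comm, pow_mul, hvp, one_pow, one_mul] at h1
    exact h1
  have hr₁T : r₁ ∈ T := ⟨hj, hr₁p⟩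
  -- the Frattini subgroup of `E₁` inside `R`
  set K := (frattini E₁).map E₁.subtype ⊓ R with hK
  haveI hKn : K.Normal := by
    haveI : ((frattini E₁).map E₁.subtype).Normal := inferInstance
    exact Subgroup.normal_inf_normal _ _
  have hwK : w ∈ K := ⟨⟨⁅⟨v, hvE₁⟩, ⟨y, hyE₁⟩⁆, PGroup.commutatorElement_mem_frattini (hS.to_subgroup E₁) _ _,
    by simp [hw]⟩, hwR⟩
  have hrpK : r ^ p ∈ K := ⟨⟨⟨r, hRE₁ hrR⟩ ^ p, PGroup.pow_mem_frattini (hS.to_subgroup E₁) _, by simp⟩,
    pow_mem hrR p⟩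
  have hRK : Nat.card R ≤ p * Nat.card K := by
    let f : ZMod p × K → R := fun t => ⟨r ^ t.1.val * t.2, mul_mem (pow_mem hrR _) t.2.2.2⟩
    refine (Nat.card_le_card_of_surjective f fun z => ?_).trans (le_of_eq ?_)
    · obtain ⟨i, l, hil⟩ := hrgen z z.2
      refine ⟨(((i : ℤ) : ZMod p), ⟨(r ^ p) ^ (i / p) * w ^ l,
        mul_mem (zpow_mem hrpK _) (zpow_mem hwK l)⟩), Subtype.ext ?_⟩
      show r ^ (((i : ℤ) : ZMod p)).val * ((r ^ p) ^ (i / (p : ℤ)) * w ^ l) = (z : S)
      rw [← hil, ← mul_assoc, ← zpow_natCast r p, ← zpow_natCast r, ← zpow_mul, ← zpow_add,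
        ZMod.val_intCast, Int.emod_add_mul_ediv]
    · rw [Nat.card_prod, Nat.card_zmod]
  -- `j` is prime to `p`
  have hpj : ¬ p ∣ j := by
    intro hdvd
    have hvj : v ^ j = 1 := SectionalThree.pow_eq_one_of_dvd hvp hdvd
    rw [hvj, one_mul] at hq'
    obtain ⟨g, hg, houtg⟩ := d.exists_conj_outside hE₁ heE₁
    have hdispS : ∀ u : E₁, ((u⁻¹ * d.cj hE₁ e u : E₁) : S) = (u : S)⁻¹ * (e * u * e⁻¹) := fun u => by
      rw [Subgroup.coe_mul, Subgroup.coe_inv, Pre.cj_apply]
    have h1 : ∀ u : E₁, u⁻¹ * d.cj hE₁ e u ∈ R.subgroupOf E₁ := by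
      intro u
      show ((u⁻¹ * d.cj hE₁ e u : E₁) : S) ∈ R
      rw [hdispS]
      obtain ⟨a, b, hu⟩ := hgen₁ _ u.2
      let π := QuotientGroup.mk' R
      refine (QuotientGroup.eq_one_iff _).1 ?_
      show π _ = 1
      have hπu : π (u : S) = π y ^ a * π v ^ b := by
        rw [← map_pow, ← map_pow, ← map_mul]
        exact (QuotientGroup.eq.2 hu).symm
      have hπy : π e * π y * (π e)⁻¹ = π y := by
        rw [← map_inv, ← map_mul, ← map_mul, hey, map_mul, show π q = 1 from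
          (QuotientGroup.eq_one_iff q).2 (hq' ▸ hj), one_mul]
      rw [map_mul, map_inv, map_mul, map_mul, map_inv, hπu, conj_mul.symm, ← conj_pow, hπy,
        ((hev.map π).pow_right b).eq, mul_inv_cancel_right, inv_mul_cancel]
    have h1' : ∀ u ∈ R.subgroupOf E₁, u⁻¹ * d.cj hE₁ e u ∈ frattini E₁ := by
      intro u hu
      have h := SectionalThree.commutator_mem_of_card_le hS (K := K) (M := R) inf_le_right hRK
        (inv_mem (show (u : S) ∈ R from hu)) e
      obtain ⟨z, hz, hze⟩ := h.1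
      have : u⁻¹ * d.cj hE₁ e u = z := Subtype.ext (by
        rw [hdispS, show (z : S) = _ from hze, commutatorElement_def, inv_inv]
        group)
      exact this ▸ hz
    refine d.false_of_frattini hE₁ hS heE₁ hg houtg (R.subgroupOf E₁) h1 h1' (fun u => ?_) fun u hu => ?_
    · have h := (hRchar g ((g⁻¹ u)⁻¹ * d.cj hE₁ e (g⁻¹ u))).2 (h1 (g⁻¹ u))
      rw [map_mul, map_inv g, MulAut.apply_inv_self] at h
      exact h
    · have h := h1' (g⁻¹ u) ((hRchar g⁻¹ u).2 hu)
      have h2 := Subgroup.mem_comap.1 ((Subgroup.characteristic_iff_comap_eq.1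
        (inferInstance : (frattini E₁).Characteristic) g).ge h)
      change g ((g⁻¹ u)⁻¹ * d.cj hE₁ e (g⁻¹ u)) ∈ frattini E₁ at h2
      rw [map_mul, map_inv g, MulAut.apply_inv_self] at h2
      exact h2
  -- the `p`-th power of `e`
  obtain ⟨k, hk⟩ : ∃ k : ℤ, w ^ k = ⁅r₁, e⁆ := Subgroup.mem_zpowers_iff.1
    (SectionalThree.commutator_mem_of_card_le hS hwT hTcard hr₁T e)
  have heq : e * q * e⁻¹ = q * w ^ (-k) := by
    have h1 : e * r₁ * e⁻¹ = r₁ * w ^ (-k) := by
      have h : ⁅r₁, e⁆⁻¹ = w ^ (-k) := by rw [← hk, zpow_neg]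
      rw [← (hwcen r₁).zpow_right (-k) |>.symm.eq, ← h, commutatorElement_def]
      group
    rw [hq', ← conj_mul, ← conj_pow, hev.eq, mul_inv_cancel_right, h1, mul_assoc]
    rw [hr₁]; group
  have hiter : ∀ n : ℕ, e ^ n * y * (e ^ n)⁻¹ =
      q ^ n * w ^ (-k * (SectionalThree.RegularModel.tri n : ℤ)) * y := by
    intro n
    induction n with
    | zero => simp [SectionalThree.RegularModel.tri]
    | succ n ih =>
      rw [pow_succ' e n, show e * e ^ n * y * (e * e ^ n)⁻¹ = e * (e ^ n * y * (e ^ n)⁻¹) * e⁻¹ by group, ih,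
        ← conj_mul, ← conj_mul, ← conj_pow, heq, hey, ((hwcen e).zpow_right _).eq, mul_inv_cancel_right,
        ((hwcen q).zpow_right (-k)).mul_pow, ← zpow_natCast (w ^ (-k)) n, ← zpow_mul]
      have hwq : ∀ i : ℤ, w ^ i * q = q * w ^ i := fun i => ((hwcen q).zpow_right i).symm.eq
      rw [mul_assoc (q ^ n) (w ^ _) (w ^ _), ← zpow_add, mul_assoc (q ^ n), ← mul_assoc (w ^ _) q y, hwq,
        ← mul_assoc, ← mul_assoc, ← pow_succ]
      congr 3
      simp only [SectionalThree.RegularModel.tri, Nat.cast_add]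
      ring
  have hqp : q ^ p = 1 := by
    rw [hq', ((hRv _ hj).symm.pow_left j).mul_pow, ← pow_mul, mul_comm, pow_mul, hvp, one_pow, one_mul, hr₁p]
  have hepy : Commute (e ^ p) y := by
    have h := hiter p
    obtain ⟨m, hm⟩ := dvd_tri (p := p) hp2
    rw [hqp, hm, Nat.cast_mul, mul_left_comm, zpow_mul, zpow_natCast, hwp, one_zpow, one_mul, one_mul] at h
    exact mul_inv_eq_iff_eq_mul.1 h
  have hepv : Commute (e ^ p) v := hev.pow_left p
  have hepR : e ^ p ∈ R := by
    obtain ⟨i, hi⟩ := hgen₀ (e ^ p) ((d.index E₁ hE₁) ▸ E₁.pow_index_mem e) (pow_mem heE₀ p)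
    have h1 : Commute (v ^ i) y := by
      have h2 := hepy.mul_left (hRy _ hi).inv_left
      rwa [mul_inv_rev, inv_inv, mul_inv_cancel_left] at h2
    by_cases hvi : v ^ i = 1
    · rwa [hvi, inv_one, one_mul] at hi
    · obtain ⟨m, hm⟩ := Resist.exists_pow_eq hvp (pow_mem (Subgroup.mem_zpowers v) i) hvi
      exact absurd (commutatorElement_eq_one_iff_commute.2 (hm ▸ h1.pow_left m)) hw1
  have hgenS : ∀ s : S, ∃ i a b : ℕ, (e ^ i * (y ^ a * v ^ b))⁻¹ * s ∈ R := fun s => by
    obtain ⟨i, hi⟩ := d.exists_pow hE₁ heE₁ s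
    obtain ⟨a, b, hab⟩ := hgen₁ _ hi
    exact ⟨i, a, b, by rwa [mul_inv_rev, mul_assoc]⟩
  have hgenE₀ : ∀ s ∈ E₀, ∃ i b : ℕ, (e ^ i * v ^ b)⁻¹ * s ∈ R := fun s hs => by
    obtain ⟨i, hi⟩ := d.exists_pow hE₁ heE₁ s
    obtain ⟨b, hb⟩ := hgen₀ _ hi (mul_mem (E₀.inv_mem (pow_mem heE₀ i)) hs)
    exact ⟨i, b, by rwa [mul_inv_rev, mul_assoc]⟩
  have hepcen : ∀ s : S, Commute s (e ^ p) := fun s => by
    obtain ⟨i, a, b, h⟩ := hgenS s
    rw [← mul_inv_cancel_left (e ^ i * (y ^ a * v ^ b)) s]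
    exact ((((Commute.refl e).pow_pow i p)).mul_left ((hepy.symm.pow_left a).mul_left
      (hepv.symm.pow_left b))).mul_left (hRc _ h _ hepR)
  by_cases hbig : ∃ u ∈ d.V E₀, u ∈ R ∧ u ∉ Subgroup.zpowers w
  · -- the plane
    exfalso
    obtain ⟨u, huV, huR, huw⟩ := hbig
    obtain ⟨h2, h2c, h2e⟩ := plane_elem hwp hw1 (d.pow_V hE₀ huV) huw (hwcen u).symm
    have hwV : w ∈ d.V E₀ := by
      rw [hw, commutatorElement_def, mul_assoc, mul_assoc]
      exact mul_mem hv (by simpa [mul_assoc] using d.conj_V hE₀ (inv_mem hv) y)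
    set Z := d.V E₀ ⊓ R with hZdef
    have hWU : Subgroup.zpowers w ⊔ Subgroup.zpowers u ≤ Z :=
      sup_le (Subgroup.zpowers_le.2 ⟨hwV, hwR⟩) (Subgroup.zpowers_le.2 ⟨huV, huR⟩)
    have hZ2 : p ^ 2 ≤ Nat.card Z := h2.trans (Subgroup.card_le_of_le hWU)
    have hV3 : Nat.card (d.V E₀) = p ^ 3 := by
      refine le_antisymm (d.card_V_le hE₀ hsr) ?_
      have hlt : Z.subgroupOf (d.V E₀) < ⊤ := lt_top_iff_ne_top.2 fun h =>
        hvR (Subgroup.subgroupOf_eq_top.1 h hv).2
      have h := PGroup.mul_card_le_of_lt (hS.to_subgroup (d.V E₀)) hlt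
      rw [Subgroup.card_top, Nat.card_congr (Subgroup.subgroupOfEquivOfLe (inf_le_left : Z ≤ d.V E₀)).toEquiv] at h
      rw [pow_succ']
      exact (Nat.mul_le_mul le_rfl hZ2).trans h
    have hZcard : Nat.card Z = p ^ 2 := by
      refine le_antisymm ?_ hZ2
      have hlt : Z.subgroupOf (d.V E₀) < ⊤ := lt_top_iff_ne_top.2 fun h =>
        hvR (Subgroup.subgroupOf_eq_top.1 h hv).2
      have h := PGroup.mul_card_le_of_lt (hS.to_subgroup (d.V E₀)) hlt
      rw [Subgroup.card_top, Nat.card_congr (Subgroup.subgroupOfEquivOfLe (inf_le_left : Z ≤ d.V E₀)).toEquiv,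
        hV3, pow_succ'] at h
      exact Nat.le_of_mul_le_mul_left h hp.out.pos
    have hVgen : ∀ t ∈ d.V E₀, ∃ b : ℕ, (v ^ b)⁻¹ * t ∈ Z := fun t ht => by
      obtain ⟨b, hb⟩ := hgen₀ t (hII E₀ hE₀ hM E₁ hE₁ ht) (d.V_le hE₀ ht)
      exact ⟨b, mul_mem ((d.V E₀).inv_mem (pow_mem hv b)) ht, hb⟩
    have hZcen : ∀ z ∈ Z, ∀ s : S, Commute s z := fun z hz s => by
      obtain ⟨i, a, b, h⟩ := hgenS s
      rw [← mul_inv_cancel_left (e ^ i * (y ^ a * v ^ b)) s]
      exact ((((d.commute_V hE₀ hz.1 heE₀).symm.pow_left i)).mul_left (((hRy z hz.2).symm.pow_left a).mul_left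
        ((hRv z hz.2).symm.pow_left b))).mul_left (hRc _ h z hz.2)
    have hZeq : ∀ z, z ∈ omegaZ p S ↔ z ∈ Z := fun z => by
      refine ⟨fun hz => ?_, fun hz => ⟨Subgroup.mem_center_iff.2 fun s => (hZcen z hz s).eq, d.pow_V hE₀ hz.1⟩⟩
      obtain ⟨b, hb⟩ := hVgen z (d.omegaZ_le_V hE₀ hz)
      by_cases hvb : v ^ b = 1
      · rwa [hvb, inv_one, one_mul] at hb
      exfalso
      obtain ⟨m, hm⟩ := Resist.exists_pow_eq hvp (pow_mem (Subgroup.mem_zpowers v) b) hvb
      refine hw1 (commutatorElement_eq_one_iff_commute.2 (hm ▸ ?_))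
      have h3 := (commute_omegaZ hz y).symm.mul_left (hRy _ hb.2).inv_left
      rw [mul_inv_rev, inv_inv, mul_inv_cancel_left] at h3
      exact h3.pow_left m
    have hZle : omegaZ p S = Z := Subgroup.ext hZeq
    -- a unique moving subgroup
    have huniq : ∀ E ∈ d.ess, d.Moving E → E = E₀ := by
      intro E hE hME
      haveI := d.normal E hE
      have hVV : ∀ t ∈ d.V E, t ∈ d.V E₀ := fun t ht =>
        mem_of_commute_cube hsr (fun a ha b hb => d.commute_V hE₀ ha (d.V_le hE₀ hb)) (fun a ha => d.pow_V hE₀ ha)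
          hV3.ge (d.pow_V hE ht) fun a ha => d.commute_V hE ht (hII E₀ hE₀ hM E hE ha)
      have hle : E₀ ≤ E := fun s hs =>
        d.mem_of_commute_V hE hS hME fun t ht => (d.commute_V hE₀ (hVV t ht) hs).symm
      refine (Subgroup.eq_of_le_of_card_ge hle (le_of_eq ?_)).symm
      have h1 := E₀.card_mul_index
      have h3 := E.card_mul_index
      rw [d.index E₀ hE₀] at h1
      rw [d.index E hE] at h3
      exact Nat.eq_of_mul_eq_mul_right hp.out.pos (h3.trans h1.symm)
    have hVA : ∀ σ ∈ d.Aut, ∀ t ∈ d.V E₀, σ t ∈ d.V E₀ := fun σ hσ t ht => by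
      obtain ⟨E', hE', hM', -, hiff⟩ := d.V_transport hE₀ hσ hM
      obtain rfl := huniq E' hE' hM'
      exact (hiff t).1 ht
    have hdispw : ∀ t ∈ d.V E₀, ∀ s : S, ⁅t, s⁆ ∈ Subgroup.zpowers w := by
      intro t ht s
      obtain ⟨i, hi⟩ := d.exists_pow hE₀ hyE₀ s
      obtain ⟨b, hb⟩ := hVgen t ht
      rw [← mul_inv_cancel_left (y ^ i) s,
        show ⁅t, y ^ i * ((y ^ i)⁻¹ * s)⁆ = ⁅t, y ^ i⁆ * (y ^ i * ⁅t, (y ^ i)⁻¹ * s⁆ * (y ^ i)⁻¹) by
          simp only [commutatorElement_def]; group,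
        commutatorElement_eq_one_iff_commute.2 (d.commute_V hE₀ ht hi), mul_one, mul_inv_cancel, mul_one]
      have h1 : ∀ n : ℕ, ⁅t, y ^ n⁆ ∈ Subgroup.zpowers w := by
        intro n
        induction n with
        | zero => rw [pow_zero, commutatorElement_one_right]; exact one_mem _
        | succ n ih =>
          rw [pow_succ, show ⁅t, y ^ n * y⁆ = ⁅t, y ^ n⁆ * (y ^ n * ⁅t, y⁆ * (y ^ n)⁻¹) by
            simp only [commutatorElement_def]; group]
          refine mul_mem ih (hWn.conj_mem _ ?_ _)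
          rw [← mul_inv_cancel_left (v ^ b) t,
            show ⁅v ^ b * ((v ^ b)⁻¹ * t), y⁆ = v ^ b * ⁅(v ^ b)⁻¹ * t, y⁆ * (v ^ b)⁻¹ * ⁅v ^ b, y⁆ by
              simp only [commutatorElement_def]; group,
            commutatorElement_eq_one_iff_commute.2 (hRy _ hb.2), mul_one, mul_inv_cancel, one_mul,
            PGroup.commutator_pow_left (hwcen v) b]
          exact pow_mem (Subgroup.mem_zpowers w) b
      exact h1 i
    have hwA : ∀ σ ∈ d.Aut, σ w ∈ Subgroup.zpowers w := fun σ hσ => by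
      rw [hw, map_commutatorElement, ← hw]
      exact hdispw _ (hVA σ hσ v hv) _
    obtain ⟨c, hcZ, hcw, hcA, hck, -⟩ := d.exists_line hS three hE₀ (V := d.V E₀) (Z := Z) (d.V_le hE₀)
      (fun t ht s hs => d.commute_V hE₀ ht hs) (fun t ht => d.pow_V hE₀ ht) hV3 (d.keep_V hE₀) inf_le_left hZcard
      hZcen (fun σ hσ z hz => (hZeq _).1 (d.aut_omegaZ σ hσ z ((hZeq z).2 hz)))
      (fun h => hM (hZle ▸ h)) (show w ∈ Z from ⟨hwV, hwR⟩) hw1 hwA hyE₀
      (fun t ht => by
        have h := hdispw t⁻¹ (inv_mem ht) y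
        rw [commutatorElement_def, inv_inv] at h
        simpa [mul_assoc] using h)
    have hcA' : ∀ σ ∈ d.Aut, ∀ z ∈ Subgroup.zpowers c, σ z ∈ Subgroup.zpowers c := fun σ hσ z hz => by
      obtain ⟨i, rfl⟩ := Subgroup.mem_zpowers_iff.1 hz
      rw [map_zpow]
      exact zpow_mem (hcA σ hσ) i
    have hbot := d.eq_bot (Subgroup.zpowers c) hcA' fun E hE => by
      have hcZ' : c ∈ omegaZ p S := (hZeq c).2 hcZ
      refine ⟨Subgroup.zpowers_le.2 (d.omegaZ_le hE hcZ'), ?_⟩
      by_cases hME : d.Moving E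
      · obtain rfl := huniq E hE hME
        exact hck
      · exact d.keep_of_not_moving hE hS hME (Subgroup.zpowers_le.2 hcZ') hcA'
    exact hcw (Subgroup.mem_bot.1 (hbot ▸ Subgroup.mem_zpowers c) ▸ one_mem _)
  · -- `R` has order `p`
    push Not at hbig
    have hwV : w ∈ d.V E₀ := by
      rw [hw, commutatorElement_def, mul_assoc, mul_assoc]
      exact mul_mem hv (by simpa [mul_assoc] using d.conj_V hE₀ (inv_mem hv) y)
    have hwZ : w ∈ omegaZ p S := ⟨Subgroup.mem_center_iff.2 fun s => (hwcen s).eq, hwp⟩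
    have hZw : omegaZ p S = Subgroup.zpowers w := by
      refine le_antisymm (fun z hz => ?_) (Subgroup.zpowers_le.2 hwZ)
      have hzV := d.omegaZ_le_V hE₀ hz
      obtain ⟨b, hb⟩ := hgen₀ z (hII E₀ hE₀ hM E₁ hE₁ hzV) (d.V_le hE₀ hzV)
      by_cases hvb : v ^ b = 1
      · rw [hvb, inv_one, one_mul] at hb
        exact hbig z hzV hb
      exfalso
      obtain ⟨m, hm⟩ := Resist.exists_pow_eq hvp (pow_mem (Subgroup.mem_zpowers v) b) hvb
      refine hw1 (commutatorElement_eq_one_iff_commute.2 (hm ▸ ?_))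
      have h3 := (commute_omegaZ hz y).symm.mul_left (hRy _ hb).inv_left
      rw [mul_inv_rev, inv_inv, mul_inv_cancel_left] at h3
      exact h3.pow_left m
    -- `w` is not in the Frattini subgroup of `E₀`
    have hE₀p := hS.to_subgroup E₀
    have hwF : (⟨w, d.V_le hE₀ hwV⟩ : E₀) ∉ frattini E₀ := by
      intro hwF
      refine hM fun β hβ => mem_keep_of_maps fun t ht => ?_
      rw [hZw] at ht ⊢
      obtain ⟨i, hi⟩ := Subgroup.mem_zpowers_iff.1 ht
      have hwW : ((β ⟨w, d.V_le hE₀ hwV⟩ : E₀) : S) ∈ Subgroup.zpowers w := by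
        refine hbig _ ((d.keep_V hE₀ hβ _).2 hwV) ?_
        have hfR : frattini E₀ ≤ R.subgroupOf E₀ := by
          haveI : (R.subgroupOf E₀).Normal := inferInstance
          refine PGroup.frattini_le_of_quotient_elementary (p := p) ?_ ?_
          · rw [_root_.commutator_def, Subgroup.commutator_le]
            intro s _ t _
            refine (QuotientGroup.eq_one_iff _).1 ?_
            show QuotientGroup.mk' _ ⁅s, t⁆ = 1
            rw [map_commutatorElement]
            refine commutatorElement_eq_one_iff_commute.2 (SectionalThree.commute_of_closure (QuotientGroup.mk' _)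
              (s := {⟨e, heE₀⟩, ⟨v, hvE₀⟩} ∪ {z : E₀ | (z : S) ∈ R}) ?_ ?_ s t)
            · refine (Subgroup.eq_top_iff' _).2 fun z => ?_
              obtain ⟨a, b, h⟩ := hgenE₀ z z.2
              have := mul_mem (mul_mem
                (pow_mem (Subgroup.subset_closure (show (⟨e, heE₀⟩ : E₀) ∈ ({⟨e, heE₀⟩, ⟨v, hvE₀⟩} ∪ {z : E₀ | (z : S) ∈ R} : Set E₀) from Or.inl (by simp))) a)
                (pow_mem (Subgroup.subset_closure (show (⟨v, hvE₀⟩ : E₀) ∈ ({⟨e, heE₀⟩, ⟨v, hvE₀⟩} ∪ {z : E₀ | (z : S) ∈ R} : Set E₀) from Or.inl (by simp))) b))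
                (Subgroup.subset_closure (show ((⟨e, heE₀⟩ ^ a * ⟨v, hvE₀⟩ ^ b)⁻¹ * z : E₀) ∈ ({⟨e, heE₀⟩, ⟨v, hvE₀⟩} ∪ {z : E₀ | (z : S) ∈ R} : Set E₀) from Or.inr h))
              rwa [mul_inv_cancel_left] at this
            · have hz1 : ∀ a : E₀, (a : S) ∈ R → QuotientGroup.mk' (R.subgroupOf E₀) a = 1 := fun a ha =>
                (QuotientGroup.eq_one_iff a).2 ha
              have hev' : Commute (⟨e, heE₀⟩ : E₀) ⟨v, hvE₀⟩ := Subtype.ext hev
              rintro a ((rfl | rfl) | ha) b ((rfl | rfl) | hb)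
              all_goals first
                | exact Commute.refl _
                | exact hev'.map _
                | exact hev'.symm.map _
                | (rw [hz1 _ hb]; exact Commute.one_right _)
                | (rw [hz1 _ ha]; exact Commute.one_left _)
          · intro z
            obtain ⟨a, b, h⟩ := hgenE₀ z z.2
            show ((z ^ p : E₀) : S) ∈ R
            rw [Subgroup.coe_pow]
            refine (QuotientGroup.eq_one_iff (N := R) _).1 ?_
            show QuotientGroup.mk' R ((z : S) ^ p) = 1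
            have hz' : QuotientGroup.mk' R (z : S) = QuotientGroup.mk' R (e ^ a) * QuotientGroup.mk' R (v ^ b) := by
              rw [← map_mul]
              exact (QuotientGroup.eq.2 h).symm
            rw [map_pow, hz', ((hev.pow_pow a b).map _).mul_pow, ← map_pow, ← map_pow, ← pow_mul e, ← pow_mul v,
              mul_comm a, mul_comm b, pow_mul, pow_mul, hvp, one_pow, map_one, mul_one]
            exact (QuotientGroup.eq_one_iff _).2 (pow_mem hepR a)
        exact hfR (Subgroup.mem_comap.1 ((Subgroup.characteristic_iff_comap_eq.1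
          (inferInstance : (frattini E₀).Characteristic) β).ge hwF))
      rw [show t = ⟨w, d.V_le hE₀ hwV⟩ ^ i from Subtype.ext (by simpa using hi.symm), map_zpow, Subgroup.coe_zpow]
      exact zpow_mem hwW i
    -- `R` is generated by `w` and the `p`-th power of `e`
    let RF : Subgroup R := frattini R
    set M' : Subgroup S := RF.map R.subtype ⊔ Subgroup.closure {w, e ^ p} with hM'
    haveI hcl : (Subgroup.closure ({w, e ^ p} : Set S)).Normal := ⟨fun z hz s => by
      have hc : ∀ t ∈ Subgroup.closure ({w, e ^ p} : Set S), Commute s t := by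
        intro t ht
        induction ht using Subgroup.closure_induction with
        | mem t ht => rcases ht with rfl | rfl; exacts [hwcen s, hepcen s]
        | one => exact Commute.one_right _
        | mul a b _ _ h1 h2 => exact h1.mul_right h2
        | inv a _ h1 => exact h1.inv_right
      rw [(hc z hz).eq, mul_inv_cancel_right]
      exact hz⟩
    haveI : M'.Normal := Subgroup.sup_normal _ _
    have hM'R : M' ≤ R := sup_le (Subgroup.map_subtype_le _) ((Subgroup.closure_le _).2 (by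
      rintro z (rfl | rfl); exacts [hwR, hepR]))
    have hwM : w ∈ M' := Subgroup.mem_sup_right (Subgroup.subset_closure (by simp))
    have hepM : e ^ p ∈ M' := Subgroup.mem_sup_right (Subgroup.subset_closure (by simp))
    have hrpM : r ^ p ∈ M' := Subgroup.mem_sup_left ⟨⟨r, hrR⟩ ^ p, PGroup.pow_mem_frattini (hS.to_subgroup R) _, by simp⟩
    have hRM : Nat.card R ≤ p * Nat.card M' := by
      let f : ZMod p × M' → R := fun t => ⟨r ^ t.1.val * t.2, mul_mem (pow_mem hrR _) (hM'R t.2.2)⟩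
      refine (Nat.card_le_card_of_surjective f fun z => ?_).trans (le_of_eq ?_)
      · obtain ⟨i, l, hil⟩ := hrgen z z.2
        refine ⟨(((i : ℤ) : ZMod p), ⟨(r ^ p) ^ (i / p) * w ^ l,
          mul_mem (zpow_mem hrpM _) (zpow_mem hwM l)⟩), Subtype.ext ?_⟩
        show r ^ (((i : ℤ) : ZMod p)).val * ((r ^ p) ^ (i / (p : ℤ)) * w ^ l) = (z : S)
        rw [← hil, ← mul_assoc, ← zpow_natCast r p, ← zpow_natCast r, ← zpow_mul, ← zpow_add,
          ZMod.val_intCast, Int.emod_add_mul_ediv]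
      · rw [Nat.card_prod, Nat.card_zmod]
    have hRM' : R ≤ M' := by
      -- the section `E₀ / M'`
      let π := (QuotientGroup.mk' M').comp E₀.subtype
      have hπ1 : ∀ z : S, z ∈ M' → QuotientGroup.mk' M' z = 1 := fun z hz => (QuotientGroup.eq_one_iff z).2 hz
      have hRcomm : ∀ z ∈ R, ∀ s : S, Commute (QuotientGroup.mk' M' z) (QuotientGroup.mk' M' s) := fun z hz s => by
        refine commutatorElement_eq_one_iff_commute.1 ?_
        rw [← map_commutatorElement]
        exact hπ1 _ (SectionalThree.commutator_mem_of_card_le hS hM'R hRM hz s)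
      have hcommq : ∀ a b : E₀, π a * π b = π b * π a := by
        intro a b
        obtain ⟨i, k, hik⟩ := hgenE₀ a a.2
        obtain ⟨i', k', hik'⟩ := hgenE₀ b b.2
        have hee : Commute (e ^ i * v ^ k) (e ^ i' * v ^ k') :=
          (((Commute.refl e).pow_pow i i').mul_right (hev.pow_pow i k')).mul_left
            ((hev.symm.pow_pow k i').mul_right ((Commute.refl v).pow_pow k k'))
        have key := (((hee.map (QuotientGroup.mk' M')).mul_right (hRcomm _ hik' _).symm).mul_left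
          ((hRcomm _ hik _).mul_right (hRcomm _ hik _))).eq
        simp only [← map_mul, mul_inv_cancel_left] at key
        show QuotientGroup.mk' M' (a : S) * QuotientGroup.mk' M' (b : S) =
          QuotientGroup.mk' M' (b : S) * QuotientGroup.mk' M' (a : S)
        rw [← map_mul, ← map_mul]
        exact key
      have hexpq : ∀ a : E₀, π a ^ p = 1 := by
        intro a
        obtain ⟨i, k, hik⟩ := hgenE₀ a a.2
        show QuotientGroup.mk' M' (a : S) ^ p = 1
        rw [← mul_inv_cancel_left (e ^ i * v ^ k) (a : S), map_mul, (hRcomm _ hik _).symm.mul_pow, map_mul,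
          ((hev.pow_pow i k).map _).mul_pow, ← map_pow, ← map_pow, ← map_pow, ← pow_mul, ← pow_mul, mul_comm i,
          mul_comm k, pow_mul, pow_mul, hvp, one_pow, map_one, mul_one, hπ1 _ (pow_mem hepM i), one_mul]
        obtain ⟨l, l', hll⟩ := hrgen _ hik
        rw [← hll, ((hwcen r).zpow_zpow l l').mul_pow]
        refine hπ1 _ (mul_mem ?_ (pow_mem (zpow_mem hwM l') p))
        rw [← zpow_natCast, ← zpow_mul, mul_comm, zpow_mul, zpow_natCast]
        exact zpow_mem hrpM l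
      have hker : frattini E₀ ≤ π.ker := PGroup.frattini_le_of_quotient_elementary (p := p) (by
          rw [_root_.commutator_def, Subgroup.commutator_le]
          intro a _ b _
          rw [MonoidHom.mem_ker, map_commutatorElement]
          exact commutatorElement_eq_one_iff_mul_comm.2 (hcommq a b))
        fun a => by rw [MonoidHom.mem_ker, map_pow]; exact hexpq a
      -- counting in `E₀ / Φ(E₀)`
      intro z hz
      by_contra hzM
      set Φ₀ := frattini E₀
      let c₀ := QuotientGroup.mk' Φ₀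
      have hle := RankThreeEss.card_range_le hsr (U := E₀) c₀
        (fun a b => by
          refine commutatorElement_eq_one_iff_mul_comm.1 ?_
          rw [← map_commutatorElement]
          exact (QuotientGroup.eq_one_iff _).2 (PGroup.commutatorElement_mem_frattini hE₀p a b))
        (fun a => by rw [← map_pow]; exact (QuotientGroup.eq_one_iff _).2 (PGroup.pow_mem_frattini hE₀p a))
      rw [MonoidHom.range_eq_top.2 (QuotientGroup.mk'_surjective Φ₀), Subgroup.card_top] at hle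
      let f : ZMod p × ZMod p × ZMod p × ZMod p → E₀ ⧸ Φ₀ := fun t =>
        c₀ (⟨e, heE₀⟩ ^ t.1.val * ⟨v, hvE₀⟩ ^ t.2.1.val * ⟨z, hRE₀ hz⟩ ^ t.2.2.1.val *
          ⟨w, d.V_le hE₀ hwV⟩ ^ t.2.2.2.val)
      have hf : Function.Injective f := by
        rintro ⟨a, b, c, l⟩ ⟨a', b', c', l'⟩ h
        have h1 : (⟨e, heE₀⟩ ^ a.val * ⟨v, hvE₀⟩ ^ b.val * ⟨z, hRE₀ hz⟩ ^ c.val * ⟨w, d.V_le hE₀ hwV⟩ ^ l.val : E₀)⁻¹ *
            (⟨e, heE₀⟩ ^ a'.val * ⟨v, hvE₀⟩ ^ b'.val * ⟨z, hRE₀ hz⟩ ^ c'.val * ⟨w, d.V_le hE₀ hwV⟩ ^ l'.val) ∈ Φ₀ :=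
          QuotientGroup.eq.1 h
        have h2 := hker h1
        rw [MonoidHom.mem_ker] at h2
        simp only [map_mul, map_inv, map_pow, inv_mul_eq_one] at h2
        have hw0 : π ⟨w, d.V_le hE₀ hwV⟩ = 1 := hπ1 w hwM
        simp only [hw0, one_pow, mul_one] at h2
        -- coordinates in `E₀ / R`
        have h3 : (e ^ a.val * v ^ b.val * z ^ c.val)⁻¹ * (e ^ a'.val * v ^ b'.val * z ^ c'.val) ∈ M' := by
          refine (QuotientGroup.eq_one_iff _).1 ?_
          show QuotientGroup.mk' M' _ = 1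
          simp only [map_mul, map_inv, map_pow, inv_mul_eq_one]
          exact h2
        have h4 : (e ^ a.val * v ^ b.val)⁻¹ * (e ^ a'.val * v ^ b'.val) ∈ R := by
          have := mul_mem (mul_mem (pow_mem hz c.val) (hM'R h3)) (R.inv_mem (pow_mem hz c'.val))
          convert this using 1
          group
        have hpow : ∀ {g : S} {K : Subgroup S}, g ∉ K → g ^ p ∈ K → ∀ n n' : ZMod p,
            (g ^ n.val)⁻¹ * g ^ n'.val ∈ K → n = n' := by
          intro g K hgK hgp n n' hn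
          by_contra hne
          obtain ⟨m, hm⟩ : ∃ m : ℕ, (g ^ n.val)⁻¹ * g ^ n'.val * (g ^ p) = g ^ m ∧ ¬ p ∣ m := by
            refine ⟨p - n.val + n'.val, ?_, fun hdvd => hne ?_⟩
            · rw [pow_add, pow_sub _ (ZMod.val_lt n).le]
              group
            · rw [← ZMod.natCast_eq_zero_iff, Nat.cast_add, Nat.cast_sub (ZMod.val_lt _).le, ZMod.natCast_self,
                ZMod.natCast_zmod_val, ZMod.natCast_zmod_val, zero_sub, neg_add_eq_zero] at hdvd
              exact hdvd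
          obtain ⟨k, hk⟩ := hS g
          obtain ⟨u, hu⟩ := exists_pow_eq_self_of_coprime (x := g) (n := m)
            (Nat.Coprime.coprime_dvd_right (orderOf_dvd_of_pow_eq_one hk)
              ((hp.out.coprime_iff_not_dvd.2 hm.2).symm.pow_right k))
          exact hgK (hu ▸ pow_mem (hm.1 ▸ mul_mem hn hgp) u)
        have hav : (e ^ a.val)⁻¹ * e ^ a'.val ∈ E₁ := by
          have h5 := mul_mem (mul_mem (pow_mem hvE₁ b.val) (hRE₁ h4)) (E₁.inv_mem (pow_mem hvE₁ b'.val))
          convert h5 using 1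
          group
        obtain rfl := hpow heE₁ (hRE₁ hepR) a a' hav
        obtain rfl := hpow hvR (by rw [hvp]; exact one_mem _) b b' (by
          convert h4 using 1; group)
        obtain rfl := hpow hzM (by
          obtain ⟨l, l', hll⟩ := hrgen z hz
          rw [← hll, ((hwcen r).zpow_zpow l l').mul_pow]
          refine mul_mem ?_ (pow_mem (zpow_mem hwM l') p)
          rw [← zpow_natCast, ← zpow_mul, mul_comm, zpow_mul, zpow_natCast]
          exact zpow_mem hrpM l) c c' (by convert h3 using 1; group)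
        have h6 : ((⟨w, d.V_le hE₀ hwV⟩ : E₀) ^ l.val)⁻¹ * ⟨w, d.V_le hE₀ hwV⟩ ^ l'.val ∈ Φ₀ := by
          convert h1 using 1; group
        simp only [Prod.mk.injEq, true_and]
        by_contra hne
        rw [show ((⟨w, d.V_le hE₀ hwV⟩ : E₀) ^ l.val)⁻¹ = ⟨w, d.V_le hE₀ hwV⟩ ^ (p - l.val) from
          inv_eq_of_mul_eq_one_right (by
            rw [← pow_add, Nat.add_sub_cancel' (ZMod.val_lt l).le]
            exact Subtype.ext (by rw [Subgroup.coe_pow]; exact hwp)), ← pow_add] at h6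
        refine hwF (mem_of_pow_mem (S := E₀) (Subtype.ext (by rw [Subgroup.coe_pow]; exact hwp)) (fun hdvd => hne ?_) h6)
        rw [← ZMod.natCast_eq_zero_iff, Nat.cast_add, Nat.cast_sub (ZMod.val_lt _).le, ZMod.natCast_self,
          ZMod.natCast_zmod_val, ZMod.natCast_zmod_val, zero_sub, neg_add_eq_zero] at hdvd
        exact hdvd
      have h5 := (Nat.card_le_card_of_injective f hf).trans hle
      simp only [Nat.card_prod, Nat.card_zmod] at h5
      have h6 : p ^ 4 ≤ p ^ 3 := le_trans (le_of_eq (by ring)) h5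
      exact absurd ((Nat.pow_le_pow_iff_right hp.out.one_lt).1 h6) (by norm_num)
    have hRgen : R ≤ Subgroup.closure {w, e ^ p} := by
      intro z hz
      have htop : (Subgroup.closure ({w, e ^ p} : Set S)).subgroupOf R = ⊤ := by
        refine frattini_nongenerating (top_le_iff.1 fun x _ => ?_)
        have h := hRM' x.2
        rw [hM', sup_comm] at h
        obtain ⟨a, ha, b, ⟨m, hm, hmb⟩, hab⟩ := Subgroup.mem_sup_of_normal_left.1 h
        have haR : a ∈ R := (Subgroup.closure_le _).2 (by rintro z (rfl | rfl); exacts [hwR, hepR]) ha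
        rw [show x = ⟨a, haR⟩ * m from Subtype.ext (by rw [Subgroup.coe_mul, ← hab, ← hmb]; rfl)]
        exact mul_mem (Subgroup.mem_sup_left ha) (Subgroup.mem_sup_right hm)
      exact Subgroup.subgroupOf_eq_top.1 htop hz
    -- `e` has order `p`
    have hep : e ^ p = 1 := by
      by_contra hne
      obtain ⟨n, hn⟩ := hS (e ^ p)
      obtain ⟨m, hm, hm'⟩ : ∃ m : ℕ, (e ^ p) ^ m ≠ 1 ∧ ((e ^ p) ^ m) ^ p = 1 := by
        obtain ⟨i, -, hi⟩ := (Nat.dvd_prime_pow hp.out).1 (orderOf_dvd_of_pow_eq_one hn)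
        rcases i with _ | i
        · exact absurd (orderOf_eq_one_iff.1 (by simpa using hi)) hne
        refine ⟨p ^ i, fun h => ?_, ?_⟩
        · have h1 := orderOf_dvd_of_pow_eq_one h
          rw [hi, Nat.pow_dvd_pow_iff_le_right hp.out.one_lt] at h1
          omega
        · rw [← pow_mul, ← pow_succ, ← hi, pow_orderOf_eq_one]
      have hmem : (e ^ p) ^ m ∈ Subgroup.zpowers w := hZw ▸
        ⟨Subgroup.mem_center_iff.2 fun s => ((hepcen s).pow_right m).eq, hm'⟩
      obtain ⟨u, hu⟩ := Resist.exists_pow_eq hwp hmem hm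
      refine hwF ?_
      rw [show (⟨w, d.V_le hE₀ hwV⟩ : E₀) = ((⟨e, heE₀⟩ ^ p) ^ m) ^ u from
        Subtype.ext (by simp only [Subgroup.coe_pow]; exact hu.symm)]
      exact pow_mem (pow_mem (PGroup.pow_mem_frattini hE₀p _) m) u
    have hRw : ∀ z ∈ R, z ∈ Subgroup.zpowers w := fun z hz => by
      have h := hRgen hz
      rw [hep] at h
      refine (Subgroup.closure_le (K := Subgroup.zpowers w)).2 ?_ h
      rintro t (rfl | rfl)
      exacts [Subgroup.mem_zpowers _, one_mem _]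
    -- the model
    set b := e⁻¹ * (y * e * y⁻¹) with hb
    set c := b⁻¹ * (y * b * y⁻¹) with hc
    obtain ⟨i₁, hi₁⟩ := Subgroup.mem_zpowers_iff.1 (hRw r₁ hj)
    have hbq : b = (v ^ j)⁻¹ * w ^ (-i₁) := by
      have h1 : y * e * y⁻¹ = q⁻¹ * e := by rw [hq, commutatorElement_def]; group
      rw [hb, h1, hq', mul_inv_rev, ← hi₁, ← zpow_neg, ((hwcen _).zpow_right (-i₁)).symm.eq, ← mul_assoc, ← mul_assoc,
        show e⁻¹ * (v ^ j)⁻¹ = (v ^ j)⁻¹ * e⁻¹ from ((hev.pow_right j).inv_inv).eq, mul_assoc, mul_assoc,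
        ← mul_assoc e⁻¹, ((hwcen e⁻¹).zpow_right (-i₁)).eq, inv_mul_cancel_right]
    have hcw : c = w ^ j := by
      have hyv : y * (v ^ j)⁻¹ * y⁻¹ = (v ^ j)⁻¹ * w ^ j := by
        rw [← PGroup.commutator_pow_left (hwcen v) j, commutatorElement_def]
        group
      rw [hc, hbq, ← conj_mul, hyv, ((hwcen y).zpow_right _).eq, mul_inv_cancel_right]
      group
    have hcv : ∀ t ∈ E₀, Commute t b := fun t ht => hbq ▸
      (((d.commute_V hE₀ hv ht).symm.pow_right j).inv_right).mul_right ((hwcen t).zpow_right _)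
    have hbp : b ^ p = 1 := by
      rw [hbq, ((hwcen _).zpow_right _).mul_pow, inv_pow, ← pow_mul, mul_comm, pow_mul, hvp, one_pow, inv_one,
        one_mul, ← zpow_natCast, ← zpow_mul, mul_comm, zpow_mul, zpow_natCast, hwp, one_zpow]
    let Mdl : SectionalThree.RegularModel.Data p S :=
      { a := e, b := b, c := c, x := y, a_pow := hep, b_pow := hbp
        c_pow := by rw [hcw, ← pow_mul, mul_comm, pow_mul, hwp, one_pow]
        x_pow := hyp
        ab := hcv e heE₀
        ac := hcw ▸ (hwcen e).pow_right j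
        bc := hcw ▸ (hwcen b).pow_right j
        xa := by rw [hb]; group
        xb := by rw [hc]; group
        xc := by rw [hcw, ((hwcen y).pow_right j).eq, mul_inv_cancel_right]
        gen := by
          set G := Subgroup.closure ({e, b, c, y} : Set S)
          have hw' : w ∈ G := mem_of_pow_mem hwp hpj (hcw ▸ Subgroup.subset_closure (by simp))
          have hv' : v ∈ G := mem_of_pow_mem hvp hpj (by
            have h := mul_mem (Subgroup.subset_closure (show b ∈ ({e, b, c, y} : Set S) by simp) : b ∈ G)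
              (zpow_mem hw' i₁)
            have h' : (v ^ j)⁻¹ ∈ G := by
              have e' : b * w ^ i₁ = (v ^ j)⁻¹ := by rw [hbq, zpow_neg, inv_mul_cancel_right]
              exact e' ▸ h
            exact inv_inv (v ^ j) ▸ G.inv_mem h')
          refine (Subgroup.eq_top_iff' G).2 fun s => ?_
          obtain ⟨i, a, b', h⟩ := hgenS s
          rw [← mul_inv_cancel_left (e ^ i * (y ^ a * v ^ b')) s]
          refine mul_mem (mul_mem (pow_mem (Subgroup.subset_closure (by simp)) i)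
            (mul_mem (pow_mem (Subgroup.subset_closure (by simp)) a) (pow_mem hv' b'))) ?_
          exact Subgroup.zpowers_le.2 hw' (hRw _ h) }
    have hbE₁ : b ∈ E₁ := hbq ▸ mul_mem (inv_mem (pow_mem hvE₁ j)) (zpow_mem (hRE₁ hwR) _)
    have hze : ∀ t ∈ Subgroup.zpowers e, t ∈ E₁ → t = 1 := fun t ht htE => by
      by_contra hne
      obtain ⟨n, hn⟩ := Resist.exists_pow_eq hep ht hne
      exact heE₁ (hn ▸ pow_mem htE n)
    have he1 : e ≠ 1 := fun h => heE₁ (h ▸ one_mem _)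
    have hbR : b ∉ R := fun h => hvR (mem_of_pow_mem hvp hpj (by
      have h2 := mul_mem h (zpow_mem hwR i₁)
      rw [hbq, zpow_neg, inv_mul_cancel_right] at h2
      simpa using inv_mem h2))
    refine model_of_data hS Mdl he1 (fun h => hbR (hze b h hbE₁ ▸ one_mem _)) (fun h => ?_) fun h => hyE₀ ?_
    · change c ∈ Subgroup.zpowers e ⊔ Subgroup.zpowers b at h
      obtain ⟨s, hs, t, ht, hst⟩ : ∃ s ∈ Subgroup.zpowers e, ∃ t ∈ Subgroup.zpowers b, s * t = c := by
        have hle : Subgroup.zpowers b ≤ Subgroup.normalizer (Subgroup.zpowers e : Set S) := by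
          refine Subgroup.zpowers_le.2 (Subgroup.mem_normalizer_iff.2 fun x => ?_)
          constructor
          · intro hx
            obtain ⟨i, rfl⟩ := Subgroup.mem_zpowers_iff.1 hx
            rw [((hcv e heE₀).symm.zpow_right i).eq, mul_inv_cancel_right]
            exact zpow_mem (Subgroup.mem_zpowers e) i
          · intro hx
            obtain ⟨i, hi⟩ := Subgroup.mem_zpowers_iff.1 hx
            refine Subgroup.mem_zpowers_iff.2 ⟨i, ?_⟩
            rw [show x = b⁻¹ * (b * x * b⁻¹) * b by group, ← hi, ((hcv e heE₀).symm.inv_left.zpow_right i).eq,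
              inv_mul_cancel_right]
        exact (Set.ext_iff.1 (Subgroup.coe_mul_of_right_le_normalizer_left _ _ hle) c).1 h
      have hcE₁ : c ∈ E₁ := hcw ▸ pow_mem (hRE₁ hwR) j
      have hs1 : s = 1 := hze s hs (by
        rw [← mul_inv_cancel_right s t, hst]
        exact mul_mem hcE₁ (inv_mem (Subgroup.zpowers_le.2 hbE₁ ht)))
      rw [hs1, one_mul] at hst
      by_cases hc1 : c = 1
      · exact hw1 (Subgroup.mem_bot.1 (mem_of_pow_mem hwp hpj (K := (⊥ : Subgroup S))
          (Subgroup.mem_bot.2 (hcw ▸ hc1))))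
      obtain ⟨n, hn⟩ := Resist.exists_pow_eq hbp (hst ▸ ht) hc1
      exact hbR (hn ▸ pow_mem (hcw ▸ pow_mem hwR j) n)
    · refine (sup_le (sup_le (Subgroup.zpowers_le.2 heE₀) (Subgroup.zpowers_le.2 ?_)) (Subgroup.zpowers_le.2 ?_)) h
      · show b ∈ E₀
        exact hbq ▸ mul_mem (inv_mem (pow_mem hvE₀ j)) (zpow_mem (hRE₀ hwR) _)
      · show c ∈ E₀
        exact hcw ▸ pow_mem (hRE₀ hwR) j

end Datum

end Cfsg.Agent.NormalEss
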