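import Cfsg.Agent.Lib.NormalEss.Tame

/-!
# Second case: all the images of the moved centres commute

* `Datum.exists_frame` : one essential subgroup moves the centre and its `V` has order `p ^ 2`;
* `Datum.false_of_moving_tame` : no essential subgroup moves the tame subgroup;
* `Datum.case_two_b` : the case is impossible.
-/

set_option autoImplicit false
set_option linter.unusedSectionVars false
set_option linter.style.haveILetI false
set_option maxHeartbeats 1600000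

namespace Cfsg.Agent.NormalEss

open scoped commutatorElement

universe u

variable {p : ℕ} [hp : Fact p.Prime] {S : Type u} [Group S] [Finite S]

/-- Commuting with a fixed element of `X`, modulo a central subgroup, as a homomorphism. -/
def modHom {Z : Subgroup S} [Z.Normal] (hZ : ∀ z ∈ Z, ∀ s : S, Commute s z) {X : Set S} {x : S} (hx : x ∈ X) :
    cenMod Z X →* Z :=
  MonoidHom.mk' (fun k => ⟨⁅(k : S), x⁆, mem_cenMod.1 k.2 x hx⟩) fun a b => Subtype.ext (by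
    show ⁅(a : S) * b, x⁆ = ⁅(a : S), x⁆ * ⁅(b : S), x⁆
    rw [comm_mul_left (hZ _ (mem_cenMod.1 b.2 x hx) a), (hZ _ (mem_cenMod.1 a.2 x hx) ⁅(b : S), x⁆).eq])

namespace Datum

variable (d : Datum p S)
include d

theorem exists_zpow_omegaZ (hZ : Nat.card (omegaZ p S) = p) {a : S} (ha : a ∈ omegaZ p S) (ha1 : a ≠ 1) {z : S}
    (hz : z ∈ omegaZ p S) : ∃ i : ℤ, a ^ i = z := by
  refine Subgroup.mem_zpowers_iff.1 ((Subgroup.eq_of_le_of_card_ge (Subgroup.zpowers_le.2 ha) ?_).ge hz)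
  rw [hZ, card_zpowers_eq ha.2 ha1]

theorem exists_frame (hS : IsPGroup p S) (hsr : Cfsg.SectionalPRankLE p 3 S) [Nontrivial S]
    (hII : ∀ E ∈ d.ess, d.Moving E → ∀ E' ∈ d.ess, d.V E ≤ E')
    (hB : ∀ E₀ ∈ d.ess, d.Moving E₀ → ∀ F ∈ d.ess, d.Moving F → ∀ E ∈ d.ess, ∀ α ∈ d.A E,
      imgOf α (d.V F) ≤ E₀) : ∃ E₀, Frame d E₀ := by
  obtain ⟨E₀, hE₀, hM⟩ := d.exists_moving hS
  set W : Subgroup S := Subgroup.closure {s | ∃ F ∈ d.ess, d.Moving F ∧ s ∈ d.V F} with hW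
  have hgen : ∀ a ∈ {s | ∃ F ∈ d.ess, d.Moving F ∧ s ∈ d.V F}, ∀ b ∈ {s | ∃ F ∈ d.ess, d.Moving F ∧ s ∈ d.V F},
      Commute a b := by
    rintro a ⟨F, hF, hFM, ha⟩ b ⟨F', hF', hFM', hb⟩
    exact d.commute_V hF ha (hII F' hF' hFM' F hF hb)
  have hWc : ∀ a ∈ W, ∀ b ∈ W, Commute a b := by
    intro a ha b hb
    induction ha using Subgroup.closure_induction with
    | mem y hy =>
      induction hb using Subgroup.closure_induction with
      | mem w hw => exact hgen y hy w hw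
      | one => exact Commute.one_right _
      | mul w w' _ _ h1 h2 => exact h1.mul_right h2
      | inv w _ h1 => exact h1.inv_right
    | one => exact Commute.one_left _
    | mul y y' _ _ h1 h2 => exact h1.mul_left h2
    | inv y _ h1 => exact h1.inv_left
  have hWe : ∀ a ∈ W, a ^ p = 1 := by
    intro a ha
    induction ha using Subgroup.closure_induction with
    | mem y hy => obtain ⟨F, hF, -, hy⟩ := hy; exact d.pow_V hF hy
    | one => exact one_pow p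
    | mul y y' hy hy' h1 h2 => rw [(hWc y hy y' hy').mul_pow, h1, h2, one_mul]
    | inv y _ h1 => rw [inv_pow, h1, inv_one]
  have hVW : ∀ F ∈ d.ess, d.Moving F → d.V F ≤ W := fun F hF hFM v hv =>
    Subgroup.subset_closure ⟨F, hF, hFM, hv⟩
  have hWE : ∀ E ∈ d.ess, W ≤ E := fun E hE => (Subgroup.closure_le _).2 (by
    rintro v ⟨F, hF, hFM, hv⟩
    exact hII F hF hFM E hE hv)
  haveI := hS.center_nontrivial
  have hZne : omegaZ p S ≠ ⊥ := by
    obtain ⟨k, hk, hc⟩ := (hS.to_subgroup (Subgroup.center S)).nontrivial_iff_card.1 ‹_›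
    obtain ⟨z, hz⟩ := exists_prime_orderOf_dvd_card' p (hc ▸ dvd_pow_self p hk.ne')
    intro hbot
    have hzZ : (z : S) ∈ omegaZ p S := ⟨z.2, by rw [← hz, ← Subgroup.orderOf_coe, pow_orderOf_eq_one]⟩
    rw [hbot, Subgroup.mem_bot, OneMemClass.coe_eq_one] at hzZ
    rw [hzZ, orderOf_one] at hz
    exact hp.out.ne_one hz.symm
  -- `W` is small
  have hWsmall : Nat.card W ≤ p ^ 2 := by
    obtain ⟨n, hn⟩ := PGroup.exists_subgroup_card_eq_pow hS W
    rw [hn]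
    refine Nat.pow_le_pow_right hp.out.pos ?_
    by_contra hbig
    have h3 : p ^ 3 ≤ Nat.card W := hn ▸ Nat.pow_le_pow_right hp.out.pos (by omega)
    have hkeep : ∀ E ∈ d.ess, d.A E ≤ keep E W := by
      intro E hE α hα
      haveI := d.finiteAut hE
      let P : Subgroup E := (W.comap E.subtype).comap α.toMonoidHom
      have key : W ≤ P.map E.subtype := (Subgroup.closure_le _).2 (by
        rintro v ⟨F, hF, hFM, hv⟩
        refine ⟨⟨v, hII F hF hFM E hE hv⟩, ?_, rfl⟩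
        show ((α ⟨v, _⟩ : E) : S) ∈ W
        refine mem_of_commute_cube hsr hWc hWe h3 ?_ fun w hw => ?_
        · rw [← Subgroup.coe_pow, ← map_pow, show (⟨v, hII F hF hFM E hE hv⟩ : E) ^ p = 1 from
            Subtype.ext (by simpa using d.pow_V hF hv), map_one, Subgroup.coe_one]
        · induction hw using Subgroup.closure_induction with
          | mem y hy =>
            obtain ⟨E', hE', hM', hy⟩ := hy
            exact (d.commute_V hE' hy (hB E' hE' hM' F hF hFM E hE α hα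
              ((mem_imgOf α _).2 ⟨⟨v, hII F hF hFM E hE hv⟩, hv, rfl⟩))).symm
          | one => exact Commute.one_right _
          | mul y y' _ _ h1 h2 => exact h1.mul_right h2
          | inv y _ h1 => exact h1.inv_right)
      refine mem_keep_of_maps fun e he => ?_
      obtain ⟨f, hf, hfe⟩ := key he
      obtain rfl : f = e := Subtype.ext hfe
      exact hf
    have hAut : ∀ σ ∈ d.Aut, ∀ w ∈ W, σ w ∈ W := by
      intro σ hσ w hw
      induction hw using Subgroup.closure_induction with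
      | mem y hy =>
        obtain ⟨F, hF, hFM, hy⟩ := hy
        obtain ⟨F', hF', hM', -, h2⟩ := d.V_transport hF hσ hFM
        exact hVW F' hF' hM' ((h2 y).1 hy)
      | one => rw [map_one]; exact one_mem _
      | mul y y' _ _ h1 h2 => rw [map_mul]; exact mul_mem h1 h2
      | inv y _ h1 => rw [map_inv]; exact inv_mem h1
    have hbot := d.eq_bot W hAut fun E hE => ⟨hWE E hE, hkeep E hE⟩
    exact hZne (le_bot_iff.1 ((d.omegaZ_le_V hE₀).trans ((hVW E₀ hE₀ hM).trans hbot.le)))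
  have hcard : ∀ F ∈ d.ess, d.Moving F → Nat.card (d.V F) = p ^ 2 ∧ Nat.card (omegaZ p S) = p ∧ d.V F = W := by
    intro F hF hFM
    have h0 := Subgroup.card_le_of_le (hVW F hF hFM)
    have h1 := PGroup.mul_card_le_of_lt hS (d.omegaZ_lt_V hF hFM)
    have h2 := PGroup.mul_card_le_of_lt hS (bot_lt_iff_ne_bot.2 hZne)
    rw [Subgroup.card_bot, mul_one] at h2
    have h3 : p ^ 2 ≤ Nat.card (d.V F) := by
      rw [pow_two]
      exact (Nat.mul_le_mul le_rfl h2).trans h1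
    refine ⟨le_antisymm (h0.trans hWsmall) h3, le_antisymm ?_ h2,
      Subgroup.eq_of_le_of_card_ge (hVW F hF hFM) (hWsmall.trans h3)⟩
    refine Nat.le_of_mul_le_mul_left ((h1.trans (h0.trans hWsmall)).trans (le_of_eq (pow_two p))) hp.out.pos
  obtain ⟨hV, hZ, hVeq⟩ := hcard E₀ hE₀ hM
  refine ⟨E₀, hE₀, hM, hV, hZ, fun E hE hEM => ?_, fun E hE => hII E₀ hE₀ hM E hE, fun E hE α hα e he =>
    hB E₀ hE₀ hM E₀ hE₀ hM E hE α hα ((mem_imgOf α _).2 ⟨e, he, rfl⟩)⟩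
  have heq : d.V E = d.V E₀ := (hcard E hE hEM).2.2.trans hVeq.symm
  refine le_antisymm (fun s hs => d.mem_of_commute_V hE₀ hS hM fun v hv => ?_)
    fun s hs => d.mem_of_commute_V hE hS hEM fun v hv => ?_
  · exact (d.commute_V hE (heq ▸ hv) hs).symm
  · exact (d.commute_V hE₀ (heq ▸ hv) hs).symm

variable {E₀ : Subgroup S}

/-- No essential subgroup fixing `V E₀` moves the tame subgroup. -/
theorem false_of_moving_tame (hp2 : p ≠ 2) (hS : IsPGroup p S) (hsr : Cfsg.SectionalPRankLE p 3 S)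
    (hf : Frame d E₀) {T : Subgroup S} (hT : Tame d E₀ T) (hTaut : ∀ σ ∈ d.Aut, ∀ q ∈ T, σ q ∈ T)
    {E₁ : Subgroup S} (hE₁ : E₁ ∈ d.ess) (hE₁k : d.A E₁ ≤ keep E₁ T)
    (hchar : ∀ s : S, (∀ t ∈ T, ⁅t, s⁆ ∈ omegaZ p S) → s ∈ E₁)
    {E : Subgroup S} (hE : E ∈ d.ess) (hTE : T ≤ E) (hVk : d.A E ≤ keep E (d.V E₀))
    (hmove : ¬ d.A E ≤ keep E T) : False := by
  haveI := d.finiteAut hE
  haveI := d.V_normal hf
  haveI := hT.normal
  haveI := d.normal E hE
  haveI := d.normal E₀ hf.mem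
  set Z := omegaZ p S with hZdef
  set V := d.V E₀ with hVdef
  have hE₀ := hf.mem
  have hne : E ≠ E₀ := fun h => hmove (by subst h; exact (d.tame_keep hp2 hS hsr hf hT).2)
  have hZk : d.A E ≤ keep E Z := not_not.1 fun h => hne (hf.uniq E hE h)
  have hVT : V ≤ T := hT.V_le
  have hVE : V ≤ E := hf.V_mem E hE
  have hE₁ne : ¬ E ≤ E₁ := fun h => hmove (by
    have heq : E = E₁ := Subgroup.eq_of_le_of_card_ge h (le_of_eq ?_)
    · subst heq; exact hE₁k
    · have h1 := E.card_mul_index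
      have h2 := E₁.card_mul_index
      rw [d.index E hE] at h1
      rw [d.index E₁ hE₁] at h2
      exact Nat.eq_of_mul_eq_mul_right hp.out.pos (h2.trans h1.symm))
  obtain ⟨e₀, he₀, he₀'⟩ : ∃ e ∈ E, e ∉ E₀ := by
    by_contra h
    push Not at h
    refine hne (Subgroup.eq_of_le_of_card_ge h (le_of_eq ?_))
    have h1 := E.card_mul_index
    have h2 := E₀.card_mul_index
    rw [d.index E hE] at h1
    rw [d.index E₀ hE₀] at h2
    exact Nat.eq_of_mul_eq_mul_right hp.out.pos (h2.trans h1.symm)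
  have hZc : ∀ z ∈ Z, ∀ s : S, Commute s z := fun z hz s => commute_omegaZ hz s
  -- the orbit of `T`
  set W := d.orb E (T : Set S) with hWdef
  have hWE : W ≤ E := d.orb_le hE _
  have hWk := d.keep_orb hE (T : Set S)
  haveI hWn : W.Normal := d.orb_normal hE _
  have hTW : T ≤ W := fun t ht => d.subset_orb hE hTE ht
  have himg₀ : ∀ α ∈ d.A E, ∀ f : E, (f : S) ∈ T → ((α f : E) : S) ∈ E₀ := by
    intro α hα f hf'
    refine d.mem_of_commute_V hE₀ hS hf.moving fun v hv => ?_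
    obtain ⟨w, hw⟩ := α.surjective ⟨v, hVE hv⟩
    have hwV : (w : S) ∈ V := (hVk hα w).1 (hw ▸ hv)
    have h := (show Commute f w from Subtype.ext (d.commute_V hE₀ hwV (hT.le hf')).symm.eq).map α
    rw [hw] at h
    exact congrArg Subtype.val h.eq
  have himgV : ∀ α ∈ d.A E, ∀ f : E, (f : S) ∈ T → ∀ e ∈ E, ⁅((α f : E) : S), e⁆ ∈ V := by
    intro α hα f hf' e he
    obtain ⟨g, hg⟩ := α.surjective ⟨e, he⟩
    have h := d.comm_image_mem hE hVk hα (g := g) (d.comm_tame_mem hS hf hT hf' g)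
    rwa [hg] at h
  have hW₀ : W ≤ E₀ := (Subgroup.closure_le _).2 (by
    rintro _ ⟨α, hα, f, hf', rfl⟩; exact himg₀ α hα f hf')
  have hWV : ∀ a ∈ W, ∀ e ∈ E, ⁅a, e⁆ ∈ V := fun a ha => mem_cenMod.1
    ((Subgroup.closure_le (cenMod V (E : Set S))).2 (by
      rintro _ ⟨α, hα, f, hf', rfl⟩; exact mem_cenMod.2 (himgV α hα f hf')) ha)
  have hVc : ∀ a ∈ W, ∀ v ∈ V, Commute a v := fun a ha v hv => (d.commute_V hE₀ hv (hW₀ ha)).symm
  have hWexp : ∀ a ∈ W, a ^ p = 1 := fun a ha => pow_of_gens hp2 (by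
      rintro _ ⟨α, -, f, hf', rfl⟩
      rw [← Subgroup.coe_pow, ← map_pow, show f ^ p = 1 from Subtype.ext (by
        rw [Subgroup.coe_pow]; exact hT.exp _ hf'), map_one, Subgroup.coe_one])
    (fun x hx y hy c hc => hVc c hc _ (hWV x hx y (hWE hy))) ha
  have himgT : ∀ α ∈ d.A E, ∀ f : E, (f : S) ∈ T → ∀ t ∈ T, ⁅((α f : E) : S), t⁆ ∈ Z := by
    intro α hα f hf' t ht
    set x := ((α f : E) : S) with hx
    have hxW : x ∈ W := d.image_mem_orb hE hα hf'
    have hγ : ⁅x, t⁆ ∈ V := himgV α hα f hf' t (hTE ht)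
    refine ⟨Subgroup.mem_center_iff.2 fun s => ?_, d.pow_V hE₀ hγ⟩
    have he : Commute e₀ ⁅x, t⁆ := by
      have hv₁ : ⁅t⁻¹, e₀⁆ ∈ V := d.comm_tame_mem hS hf hT (inv_mem ht) e₀
      have hv₂ : ⁅x⁻¹, e₀⁆ ∈ V := hWV _ (inv_mem hxW) e₀ he₀
      have h1 : e₀ * ⁅x, t⁆ * e₀⁻¹ = ⁅x * ⁅x⁻¹, e₀⁆, t * ⁅t⁻¹, e₀⁆⁆ := by
        simp only [commutatorElement_def]; group
      have ht₀ : t ∈ E₀ := hT.le ht
      have hy : t * ⁅t⁻¹, e₀⁆ ∈ E₀ := mul_mem ht₀ (d.V_le hE₀ hv₁)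
      have h2 : ⁅x * ⁅x⁻¹, e₀⁆, t * ⁅t⁻¹, e₀⁆⁆ = ⁅x, t⁆ := by
        rw [comm_mul_left (by rw [commutatorElement_eq_one_iff_commute.2 (d.commute_V hE₀ hv₂ hy)]
                              exact Commute.one_right _),
          commutatorElement_eq_one_iff_commute.2 (d.commute_V hE₀ hv₂ hy), one_mul, ← commutatorElement_inv,
          comm_mul_left (by rw [commutatorElement_eq_one_iff_commute.2 (d.commute_V hE₀ hv₁ (hW₀ hxW))]
                            exact Commute.one_right _),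
          commutatorElement_eq_one_iff_commute.2 (d.commute_V hE₀ hv₁ (hW₀ hxW)), one_mul, commutatorElement_inv]
      rw [h2] at h1
      exact (mul_inv_eq_iff_eq_mul.1 h1)
    obtain ⟨i, hi⟩ := d.exists_pow hE₀ he₀' s
    rw [← mul_inv_cancel_left (e₀ ^ i) s]
    exact ((he.pow_left i).mul_left (d.commute_V hE₀ hγ hi).symm).eq
  have hWT : ∀ a ∈ W, ∀ t ∈ T, ⁅a, t⁆ ∈ Z := fun a ha => mem_cenMod.1
    ((Subgroup.closure_le (cenMod Z (T : Set S))).2 (by
      rintro _ ⟨α, hα, f, hf', rfl⟩; exact mem_cenMod.2 (himgT α hα f hf')) ha)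
  -- a moved element and one not commuting with it
  obtain ⟨t', ht'W, ht'T⟩ : ∃ t', t' ∈ W ∧ t' ∉ T := by
    by_contra h
    push Not at h
    exact hmove fun α hα => mem_keep_of_maps fun e he => h _ (d.image_mem_orb hE hα he)
  obtain ⟨t, htT, htt'⟩ : ∃ t ∈ T, ¬ Commute t' t := by
    by_contra h
    push Not at h
    exact ht'T (mem_of_commute_cube hsr hT.comm hT.exp hT.card.ge (hWexp _ ht'W) h)
  set γ := ⁅t', t⁆ with hγdef
  have hγZ : γ ∈ Z := hWT t' ht'W t htT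
  have hγ1 : γ ≠ 1 := fun h => htt' (commutatorElement_eq_one_iff_commute.1 h)
  have htV : t ∉ V := fun h => htt' (hVc t' ht'W t h)
  obtain ⟨v, hvV, hvZ⟩ := SetLike.exists_of_lt (d.omegaZ_lt_V hE₀ hf.moving)
  have hsupV : ∀ a ∈ V, a ∉ Z → V = Z ⊔ Subgroup.zpowers a := fun a ha haZ => by
    refine (Subgroup.eq_of_le_of_card_ge (sup_le (d.omegaZ_le_V hE₀) (Subgroup.zpowers_le.2 ha)) ?_).symm
    have h := PGroup.mul_card_le_of_lt hS (show Z < Z ⊔ Subgroup.zpowers a from SetLike.lt_iff_le_and_exists.2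
      ⟨le_sup_left, a, Subgroup.mem_sup_right (Subgroup.mem_zpowers a), haZ⟩)
    rw [hf.cardZ, ← pow_two] at h
    rw [hf.cardV]
    exact h
  have hkill : ∀ a ∈ V, a ∉ Z → ∀ b ∈ V, ∃ m : ℤ, b * a ^ m ∈ Z := fun a ha haZ b hb => by
    obtain ⟨z, hz, q, hq, rfl⟩ := Subgroup.mem_sup_of_normal_left.1 ((hsupV a ha haZ).le hb)
    obtain ⟨i, rfl⟩ := Subgroup.mem_zpowers_iff.1 hq
    exact ⟨-i, by rw [zpow_neg, mul_inv_cancel_right]; exact hz⟩
  have hsupT : T = V ⊔ Subgroup.zpowers t := by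
    refine (Subgroup.eq_of_le_of_card_ge (sup_le hVT (Subgroup.zpowers_le.2 htT)) ?_).symm
    have h := PGroup.mul_card_le_of_lt hS (show V < V ⊔ Subgroup.zpowers t from SetLike.lt_iff_le_and_exists.2
      ⟨le_sup_left, t, Subgroup.mem_sup_right (Subgroup.mem_zpowers t), htV⟩)
    rw [hf.cardV] at h
    rw [hT.card]
    calc p ^ 3 = p * p ^ 2 := by ring
      _ ≤ _ := h
  -- homomorphisms given by commutators
  let χ : ∀ e ∈ E, W →* S := fun e he => MonoidHom.mk' (fun a => ⁅(a : S), e⁆) fun a b => by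
    show ⁅(a : S) * b, e⁆ = ⁅(a : S), e⁆ * ⁅(b : S), e⁆
    rw [comm_mul_left (hVc a a.2 _ (hWV b b.2 e he)),
      (d.commute_V hE₀ (hWV b b.2 e he) (d.V_le hE₀ (hWV a a.2 e he))).eq]
  have hχz : ∀ e ∈ E, ∀ a ∈ W, ∀ b ∈ W, ∀ m : ℤ, ⁅a * b ^ m, e⁆ = ⁅a, e⁆ * ⁅b, e⁆ ^ m := by
    intro e he a ha b hb m
    have h := map_mul (χ e he) ⟨a, ha⟩ (⟨b, hb⟩ ^ m)
    rw [map_zpow] at h
    simpa [χ] using h
  -- every element of `W` lies in `T⟨t'⟩`
  have hgenW : ∀ x ∈ W, ∃ i : ℤ, x * t' ^ i ∈ T := by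
    intro x hx
    obtain ⟨i, hi⟩ := d.exists_zpow_omegaZ hf.cardZ hγZ hγ1 (hWT x hx t htT)
    refine ⟨-i, mem_of_commute_cube hsr hT.comm hT.exp hT.card.ge
      (hWexp _ (mul_mem hx (zpow_mem ht'W _))) fun a ha => ?_⟩
    have hxt : Commute (x * t' ^ (-i)) t := commutatorElement_eq_one_iff_commute.1 (by
      rw [hχz t (hTE htT) x hx t' ht'W, ← hi, zpow_neg, mul_inv_cancel])
    obtain ⟨c, hc, q, hq, rfl⟩ := Subgroup.mem_sup_of_normal_left.1 (hsupT.le ha)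
    obtain ⟨j, rfl⟩ := Subgroup.mem_zpowers_iff.1 hq
    exact (hVc _ (mul_mem hx (zpow_mem ht'W _)) c hc).mul_right (hxt.zpow_right j)
  have hWcard : Nat.card W ≤ p * Nat.card T := by
    let f : T × Subgroup.zpowers t' → W := fun ab => ⟨ab.1 * ab.2,
      mul_mem (hTW ab.1.2) ((Subgroup.zpowers_le.2 ht'W) ab.2.2)⟩
    refine (Nat.card_le_card_of_surjective f fun x => ?_).trans (le_of_eq ?_)
    · obtain ⟨i, hi⟩ := hgenW x x.2
      exact ⟨(⟨_, hi⟩, ⟨t' ^ (-i), zpow_mem (Subgroup.mem_zpowers t') _⟩),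
        Subtype.ext (show (x : S) * t' ^ i * t' ^ (-i) = x by rw [zpow_neg, mul_inv_cancel_right])⟩
    · rw [Nat.card_prod, card_zpowers_eq (hWexp _ ht'W) (fun h => ht'T (h ▸ one_mem _)), mul_comm]
  -- elements commuting with an invariant subgroup modulo `Z`
  have hsmall : ∀ X : Subgroup S, X ≤ E → d.A E ≤ keep E X → (∃ w ∈ W, w ∉ cenMod Z (X : Set S)) →
      ∀ w ∈ W, w ∈ cenMod Z (X : Set S) → w ∈ V := by
    intro X hXE hXk ⟨w₀, hw₀, hw₀'⟩ w hw hw'
    by_contra hwV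
    set U := W ⊓ cenMod Z (X : Set S) with hU
    have hVU : V ≤ U := fun a ha =>
      Subgroup.mem_inf.2 ⟨hTW (hVT ha), mem_cenMod.2 fun x _ => d.comm_V_mem hS hf ha x⟩
    have hUk : d.A E ≤ keep E U := fun α hα => mem_keep_of_maps fun e he => by
      refine Subgroup.mem_inf.2 ⟨(hWk hα e).2 he.1, mem_cenMod.2 fun x hx => ?_⟩
      obtain ⟨g, hg⟩ := α.surjective ⟨x, hXE hx⟩
      have hgX : (g : S) ∈ X := (hXk hα g).1 (hg ▸ hx)
      have h := d.comm_image_mem hE hZk hα (g := g) (mem_cenMod.1 he.2 g hgX)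
      rwa [hg] at h
    haveI : U.Normal := d.normal_of_keep hE (inf_le_left.trans hWE) hUk
    have hVU' : V < U := lt_of_le_not_ge hVU fun h => hwV (h (Subgroup.mem_inf.2 ⟨hw, hw'⟩))
    have hUW : U < W := lt_of_le_not_ge inf_le_left fun h => hw₀' (h hw₀).2
    have hc1 := PGroup.mul_card_le_of_lt hS hVU'
    have hc2 := (PGroup.mul_card_le_of_lt hS hUW).trans hWcard
    rw [hf.cardV] at hc1
    rw [hT.card] at hc2
    let U' : ℕ → Subgroup S := fun i => match i with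
      | 0 => ⊥
      | 1 => Z
      | 2 => V
      | 3 => U
      | _ => W
    refine hmove (d.keep_of_series hE hS (T := W) hTW hWE hTaut U' 4 rfl rfl ?_ ?_ ?_)
    · intro i hi
      match i, hi with
      | 0, _ => exact bot_le
      | 1, _ => exact d.omegaZ_le_V hE₀
      | 2, _ => exact hVU
      | 3, _ => exact inf_le_left
    · intro i hi
      match i, hi with
      | 0, _ => exact d.keep_bot hE
      | 1, _ => exact hZk
      | 2, _ => exact hVk
      | 3, _ => exact hUk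
      | 4, _ => exact hWk
    · suffices h : ∀ s : S, ∀ i < 4, ∀ u ∈ U' (i + 1), ⁅u⁻¹, s⁆ ∈ U' i by
        intro s i hi u hu
        have e : u⁻¹ * (s * u * s⁻¹) = ⁅u⁻¹, s⁆ := by simp only [commutatorElement_def]; group
        exact e.symm ▸ h s i hi u hu
      intro s i hi u hu
      obtain rfl | rfl | rfl | rfl : i = 0 ∨ i = 1 ∨ i = 2 ∨ i = 3 := by omega
      ·
        show ⁅u⁻¹, s⁆ ∈ (⊥ : Subgroup S)
        rw [Subgroup.mem_bot, commutatorElement_eq_one_iff_commute]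
        exact (hZc _ (inv_mem (show u ∈ Z from hu)) s).symm
      · exact d.comm_V_mem hS hf (inv_mem (show u ∈ V from hu)) s
      · show ⁅u⁻¹, s⁆ ∈ V
        replace hu : u ∈ U := hu
        refine SectionalThree.commutator_mem_of_card_le hS hVU ?_ (inv_mem hu) s
        rw [hf.cardV]
        refine (Nat.le_of_mul_le_mul_left ?_ hp.out.pos)
        exact hc2.trans (le_of_eq (by ring))
      · show ⁅u⁻¹, s⁆ ∈ U
        replace hu : u ∈ W := hu
        refine SectionalThree.commutator_mem_of_card_le hS inf_le_left ?_ (inv_mem hu) s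
        refine hWcard.trans (Nat.mul_le_mul le_rfl ?_)
        rw [hT.card]
        exact le_trans (le_of_eq (by ring)) hc1
  -- the kernel of the action on `V`
  set D := E₀ ⊓ E with hDdef
  have hDk : d.A E ≤ keep E D := fun α hα => mem_keep_of_maps fun e he => by
    refine Subgroup.mem_inf.2 ⟨d.mem_of_commute_V hE₀ hS hf.moving fun a ha => ?_, (α e).2⟩
    obtain ⟨w, hw⟩ := α.surjective ⟨a, hVE ha⟩
    have hwV : (w : S) ∈ V := (hVk hα w).1 (hw ▸ ha)
    have h := (show Commute e w from Subtype.ext (d.commute_V hE₀ hwV he.1).symm.eq).map α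
    rw [hw] at h
    exact congrArg Subtype.val h.eq
  have hUE : ∀ w ∈ W, w ∈ cenMod Z (E : Set S) → w ∈ V := by
    refine hsmall E le_rfl (fun α _ => mem_keep_of_maps fun e _ => (α e).2) ⟨t, hTW htT, fun h => hE₁ne fun e he => ?_⟩
    refine hchar e fun a ha => ?_
    have hle : T ≤ cenMod Z (E : Set S) := hsupT.le.trans (sup_le
      (fun b hb => mem_cenMod.2 fun x _ => d.comm_V_mem hS hf hb x) (Subgroup.zpowers_le.2 h))
    exact mem_cenMod.1 (hle ha) e he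
  -- `V` is cut out by `D`
  have hUD : ∀ w ∈ W, w ∈ cenMod Z (D : Set S) → w ∈ V := by
    refine hsmall D inf_le_right hDk ?_
    by_contra hall
    push Not at hall
    have hext : ∀ w ∈ W, ⁅w, e₀⁆ ∈ Z → w ∈ cenMod Z (E : Set S) := fun w hw h => mem_cenMod.2 fun x hx => by
      obtain ⟨i, hi⟩ := d.exists_pow hE₀ he₀' x
      have hd : (e₀ ^ i)⁻¹ * x ∈ cenMod Z ({w} : Set S) := mem_cenMod.2 (by
        intro y hy
        rw [Set.mem_singleton_iff.1 hy]
        exact comm_swap (mem_cenMod.1 (hall w hw) _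
          (Subgroup.mem_inf.2 ⟨hi, mul_mem (inv_mem (pow_mem he₀ i)) hx⟩)))
      have he : e₀ ∈ cenMod Z ({w} : Set S) := mem_cenMod.2 (fun y hy => (Set.mem_singleton_iff.1 hy).symm ▸ comm_swap h)
      have h2 := mul_mem (pow_mem he i) hd
      rw [mul_inv_cancel_left] at h2
      exact comm_swap (mem_cenMod.1 h2 w rfl)
    have haZ : ⁅t, e₀⁆ ∉ Z := fun h => htV (hUE t (hTW htT) (hext t (hTW htT) h))
    obtain ⟨m, hm⟩ := hkill _ (hWV t (hTW htT) e₀ he₀) haZ _ (hWV t' ht'W e₀ he₀)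
    rw [← hχz e₀ he₀ t' ht'W t (hTW htT)] at hm
    have hmem := hVT (hUE _ (mul_mem ht'W (zpow_mem (hTW htT) m)) (hext _ (mul_mem ht'W (zpow_mem (hTW htT) m)) hm))
    exact ht'T ((mul_mem_cancel_right (zpow_mem htT m)).1 hmem)
  -- an element outside `E₀` commuting with `W` modulo `Z`
  obtain ⟨d₁, hd₁, hd₁t⟩ : ∃ x ∈ D, ⁅t, x⁆ ∉ Z := by
    by_contra h
    push Not at h
    exact htV (hUD t (hTW htT) (mem_cenMod.2 h))
  obtain ⟨m, hm⟩ := hkill _ (hWV t (hTW htT) d₁ (Subgroup.mem_inf.1 hd₁).2) hd₁t _ (hWV t' ht'W d₁ (Subgroup.mem_inf.1 hd₁).2)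
  rw [← hχz d₁ (Subgroup.mem_inf.1 hd₁).2 t' ht'W t (hTW htT)] at hm
  set w₁ := t' * t ^ m with hw₁
  have hw₁W : w₁ ∈ W := mul_mem ht'W (zpow_mem (hTW htT) m)
  obtain ⟨d₂, hd₂, hd₂w⟩ : ∃ x ∈ D, ⁅w₁, x⁆ ∉ Z := by
    by_contra h
    push Not at h
    exact ht'T ((mul_mem_cancel_right (zpow_mem htT m)).1 (hVT (hUD w₁ hw₁W (mem_cenMod.2 h))))
  have hright : ∀ x ∈ W, ∀ f ∈ E, ∀ c ∈ D, ∀ j : ℤ, ⁅x, f⁆ * ⁅x, c⁆ ^ j ∈ Z → ⁅x, f * c ^ j⁆ ∈ Z := by
    intro x hx f hf' c hc j h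
    let φ : D →* S := MonoidHom.mk' (fun a => ⁅x, (a : S)⁆) fun a b => by
      show ⁅x, (a : S) * b⁆ = ⁅x, (a : S)⁆ * ⁅x, (b : S)⁆
      rw [show ⁅x, (a : S) * b⁆ = ⁅x, (a : S)⁆ * ((a : S) * ⁅x, (b : S)⁆ * (a : S)⁻¹) by
        simp only [commutatorElement_def]; group,
        (d.commute_V hE₀ (hWV x hx b b.2.2) a.2.1).symm.eq, mul_inv_cancel_right]
    have hj : ⁅x, c ^ j⁆ = ⁅x, c⁆ ^ j := by simpa [φ] using map_zpow φ ⟨c, hc⟩ j
    have hcj : c ^ j ∈ E := zpow_mem (Subgroup.mem_inf.1 hc).2 j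
    have e : ⁅x, f * c ^ j⁆ = (⁅x, f⁆ * ⁅x, c⁆ ^ j) * ⁅(⁅x, c ^ j⁆)⁻¹, f⁆ := by
      rw [← hj]; simp only [commutatorElement_def]; group
    rw [e]
    exact mul_mem h (d.comm_V_mem hS hf (inv_mem (hWV x hx _ hcj)) f)
  obtain ⟨j₂, hj₂⟩ := hkill _ (hWV w₁ hw₁W d₂ (Subgroup.mem_inf.1 hd₂).2) hd₂w _ (hWV w₁ hw₁W e₀ he₀)
  set e₁ := e₀ * d₂ ^ j₂ with he₁def
  have he₁ : e₁ ∈ E := mul_mem he₀ (zpow_mem (Subgroup.mem_inf.1 hd₂).2 _)
  have hw₁e₁ : ⁅w₁, e₁⁆ ∈ Z := hright w₁ hw₁W e₀ he₀ d₂ hd₂ j₂ hj₂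
  obtain ⟨j₁, hj₁⟩ := hkill _ (hWV t (hTW htT) d₁ (Subgroup.mem_inf.1 hd₁).2) hd₁t _ (hWV t (hTW htT) e₁ he₁)
  set e := e₁ * d₁ ^ j₁ with hedef
  have heE : e ∈ E := mul_mem he₁ (zpow_mem (Subgroup.mem_inf.1 hd₁).2 _)
  have heE₀ : e ∉ E₀ := fun h => he₀' ((mul_mem_cancel_right (zpow_mem (Subgroup.mem_inf.1 hd₂).1 j₂)).1
    ((mul_mem_cancel_right (zpow_mem (Subgroup.mem_inf.1 hd₁).1 j₁)).1 h))
  have hte : ⁅t, e⁆ ∈ Z := hright t (hTW htT) e₁ he₁ d₁ hd₁ j₁ hj₁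
  have hw₁e : ⁅w₁, e⁆ ∈ Z := comm_swap (mem_cenMod.1 (mul_mem
    (mem_cenMod.2 (fun y hy => (Set.mem_singleton_iff.1 hy).symm ▸ comm_swap hw₁e₁) : e₁ ∈ cenMod Z ({w₁} : Set S))
    (zpow_mem (mem_cenMod.2 (fun y hy => (Set.mem_singleton_iff.1 hy).symm ▸ comm_swap hm) : d₁ ∈ cenMod Z ({w₁} : Set S)) j₁)) w₁ rfl)
  have ht'e : ⁅t', e⁆ ∈ Z := by
    rw [hw₁, hχz e heE t' ht'W t (hTW htT)] at hw₁e
    exact (mul_mem_cancel_right (zpow_mem hte m)).1 hw₁e
  have hev : ⁅e, v⁆ ∈ Z := comm_swap (d.comm_V_mem hS hf hvV e)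
  have hev1 : ⁅e, v⁆ ≠ 1 := fun h => heE₀ (d.mem_of_commute_V hE₀ hS hf.moving fun a ha => by
    obtain ⟨z, hz, q, hq, rfl⟩ := Subgroup.mem_sup_of_normal_left.1 ((hsupV v hvV hvZ).le ha)
    obtain ⟨i, rfl⟩ := Subgroup.mem_zpowers_iff.1 hq
    exact (hZc z hz e).mul_right ((commutatorElement_eq_one_iff_commute.1 h).zpow_right i))
  -- four independent commuting elements in a section
  have ht'v : Commute t' v := hVc t' ht'W v hvV
  have htv : Commute t v := hVc t (hTW htT) v hvV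
  set X : Set S := {v, t, t', e} with hXdef
  have hmemX : ∀ y : S, ⁅y, v⁆ ∈ Z → ⁅y, t⁆ ∈ Z → ⁅y, t'⁆ ∈ Z → ⁅y, e⁆ ∈ Z → y ∈ cenMod Z X := by
    intro y h1 h2 h3 h4
    refine mem_cenMod.2 ?_
    rintro _ (rfl | rfl | rfl | rfl)
    exacts [h1, h2, h3, h4]
  have h0 : ∀ {a b : S}, Commute a b → ⁅a, b⁆ ∈ Z := fun h => by
    rw [commutatorElement_eq_one_iff_commute.2 h]; exact one_mem _
  have hv' : v ∈ cenMod Z X := hmemX v (h0 (Commute.refl v)) (h0 htv.symm) (h0 ht'v.symm) (comm_swap hev)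
  have ht₁ : t ∈ cenMod Z X := hmemX t (h0 htv) (h0 (Commute.refl t)) (comm_swap hγZ) hte
  have ht₂ : t' ∈ cenMod Z X := hmemX t' (h0 ht'v) hγZ (h0 (Commute.refl t')) ht'e
  have he' : e ∈ cenMod Z X := hmemX e hev (comm_swap hte) (comm_swap ht'e) (h0 (Commute.refl e))
  let φv := modHom hZc (show v ∈ X by simp [hXdef])
  let φt := modHom hZc (show t ∈ X by simp [hXdef])
  let φt' := modHom hZc (show t' ∈ X by simp [hXdef])
  let φe := modHom hZc (show e ∈ X by simp [hXdef])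
  let δ : cenMod Z X →* Z × Z × Z × Z := φv.prod (φt.prod (φt'.prod φe))
  have hcomm : ∀ a b : Z, a * b = b * a := fun a b => Subtype.ext (hZc b b.2 a).eq
  have hrange := RankThreeEss.card_range_le hsr δ (fun a b => by
      refine Prod.ext (hcomm _ _) (Prod.ext (hcomm _ _) (Prod.ext (hcomm _ _) (hcomm _ _))))
    fun a => by
      have h : ∀ z : Z, z ^ p = 1 := fun z => Subtype.ext (by rw [Subgroup.coe_pow]; exact z.2.2)
      exact Prod.ext (h _) (Prod.ext (h _) (Prod.ext (h _) (h _)))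
  have hspan : ∀ {a : Z}, a ≠ 1 → ∀ z : Z, ∃ i : ℤ, a ^ i = z := by
    intro a ha z
    obtain ⟨i, hi⟩ := d.exists_zpow_omegaZ hf.cardZ a.2 (fun h => ha (Subtype.ext h)) z.2
    exact ⟨i, Subtype.ext (by rw [Subgroup.coe_zpow]; exact hi)⟩
  have hsurj : Function.Surjective δ := by
    have hone : ∀ {a b : S} (x : cenMod Z X) (hb : b ∈ X), (x : S) = a → Commute a b → modHom hZc hb x = 1 :=
      fun x hb hxa hc => Subtype.ext (show ⁅(x : S), _⁆ = 1 by
        rw [hxa]; exact commutatorElement_eq_one_iff_commute.2 hc)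
    rintro ⟨z₁, z₂, z₃, z₄⟩
    have n1 : φv ⟨e, he'⟩ ≠ 1 := fun h => hev1 (congrArg Subtype.val h)
    have n2 : φt ⟨t', ht₂⟩ ≠ 1 := fun h => hγ1 (congrArg Subtype.val h)
    have n3 : φt' ⟨t, ht₁⟩ ≠ 1 := fun h => htt' (commutatorElement_eq_one_iff_commute.1
      (congrArg Subtype.val h)).symm
    have n4 : φe ⟨v, hv'⟩ ≠ 1 := fun h => hev1 (by
      rw [← commutatorElement_inv, show ⁅v, e⁆ = 1 from congrArg Subtype.val h, inv_one])
    obtain ⟨i, hi⟩ := hspan n1 z₁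
    obtain ⟨j, hj⟩ := hspan n2 ((φt ⟨e, he'⟩ ^ i)⁻¹ * z₂)
    obtain ⟨k, hk⟩ := hspan n3 ((φt' ⟨e, he'⟩ ^ i)⁻¹ * z₃)
    obtain ⟨l, hl⟩ := hspan n4 ((φe ⟨e, he'⟩ ^ i * φe ⟨t', ht₂⟩ ^ j * φe ⟨t, ht₁⟩ ^ k)⁻¹ * z₄)
    refine ⟨⟨e, he'⟩ ^ i * ⟨t', ht₂⟩ ^ j * ⟨t, ht₁⟩ ^ k * ⟨v, hv'⟩ ^ l, Prod.ext ?_ (Prod.ext ?_ (Prod.ext ?_ ?_))⟩
    · show φv _ = z₁
      simp only [map_mul, map_zpow]
      rw [hone ⟨t', ht₂⟩ _ rfl ht'v, hone ⟨t, ht₁⟩ _ rfl htv, hone ⟨v, hv'⟩ _ rfl (Commute.refl v), one_zpow,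
        one_zpow, one_zpow, mul_one, mul_one, mul_one, hi]
    · show φt _ = z₂
      simp only [map_mul, map_zpow]
      rw [hone ⟨t, ht₁⟩ _ rfl (Commute.refl t), hone ⟨v, hv'⟩ _ rfl htv.symm, one_zpow, one_zpow, mul_one,
        mul_one, hj, mul_inv_cancel_left]
    · show φt' _ = z₃
      simp only [map_mul, map_zpow]
      rw [hone ⟨t', ht₂⟩ _ rfl (Commute.refl t'), hone ⟨v, hv'⟩ _ rfl ht'v.symm, one_zpow, one_zpow, mul_one,
        mul_one, hk, mul_inv_cancel_left]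
    · show φe _ = z₄
      simp only [map_mul, map_zpow]
      rw [hl, mul_inv_cancel_left]
  rw [MonoidHom.range_eq_top.2 hsurj, Subgroup.card_top, Nat.card_prod, Nat.card_prod, Nat.card_prod,
    hf.cardZ] at hrange
  have h4 : p ^ 4 ≤ p ^ 3 := le_trans (le_of_eq (by ring)) hrange
  exact absurd ((Nat.pow_le_pow_iff_right hp.out.one_lt).1 h4) (by norm_num)

/-- The second case is impossible when all the images stay in the moving essential subgroups. -/
theorem case_two_b (hp2 : p ≠ 2) (hS : IsPGroup p S) (hsr : Cfsg.SectionalPRankLE p 3 S) [Nontrivial S]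
    (hII : ∀ E ∈ d.ess, d.Moving E → ∀ E' ∈ d.ess, d.V E ≤ E')
    (hB : ∀ E₀ ∈ d.ess, d.Moving E₀ → ∀ F ∈ d.ess, d.Moving F → ∀ E ∈ d.ess, ∀ α ∈ d.A E,
      imgOf α (d.V F) ≤ E₀) : False := by
  obtain ⟨E₀, hf⟩ := d.exists_frame hS hsr hII hB
  have hE₀ := hf.mem
  haveI := d.V_normal hf
  have hVaut : ∀ σ ∈ d.Aut, ∀ v ∈ d.V E₀, σ v ∈ d.V E₀ := fun σ hσ v hv => ((d.aut_fix_E₀ hf hσ).2 v).1 hv
  have hVne : d.V E₀ ≠ ⊥ := fun h => by
    have := hf.cardV
    rw [h, Subgroup.card_bot] at this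
    exact absurd this (Nat.one_lt_pow two_ne_zero hp.out.one_lt).ne
  obtain ⟨E₁, hE₁, hmove₁⟩ : ∃ E ∈ d.ess, ¬ d.A E ≤ keep E (d.V E₀) := by
    by_contra h
    push Not at h
    exact hVne (d.eq_bot _ hVaut fun E hE => ⟨hf.V_mem E hE, h E hE⟩)
  have hne₁ : E₁ ≠ E₀ := fun h => hmove₁ (by subst h; exact d.keep_V hE₀)
  have hZk : d.A E₁ ≤ keep E₁ (omegaZ p S) := not_not.1 fun h => hne₁ (hf.uniq E₁ hE₁ h)
  set T := d.orb E₁ (d.V E₀) with hTdef
  have hT : Tame d E₀ T := d.tame_orb hS hsr hf hE₁ hmove₁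
  haveI := hT.normal
  obtain ⟨hTaut, hTk₀⟩ := d.tame_keep hp2 hS hsr hf hT
  have hTE₁ : T ≤ E₁ := d.orb_le hE₁ _
  have hTk₁ : d.A E₁ ≤ keep E₁ T := d.keep_orb hE₁ _
  have hTZ : ∀ t ∈ T, ∀ e ∈ E₁, ⁅t, e⁆ ∈ omegaZ p S := fun t ht => mem_cenMod.1
    ((Subgroup.closure_le (cenMod (omegaZ p S) (E₁ : Set S))).2 (by
      rintro _ ⟨α, hα, f, hf', rfl⟩
      refine mem_cenMod.2 fun e he => ?_
      obtain ⟨g, hg⟩ := α.surjective ⟨e, he⟩
      have h := d.comm_image_mem hE₁ hZk hα (g := g) (d.comm_V_mem hS hf hf' g)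
      rwa [hg] at h) ht)
  have hchar : ∀ s : S, (∀ t ∈ T, ⁅t, s⁆ ∈ omegaZ p S) → s ∈ E₁ := by
    intro s hs
    by_contra hs₁
    have hall : ∀ t ∈ T, ∀ g : S, ⁅t, g⁆ ∈ omegaZ p S := by
      intro t ht g
      obtain ⟨i, hi⟩ := d.exists_pow hE₁ hs₁ g
      have h1 : s ∈ cenMod (omegaZ p S) ({t} : Set S) :=
        mem_cenMod.2 (fun y hy => (Set.mem_singleton_iff.1 hy).symm ▸ comm_swap (hs t ht))
      have h2 : (s ^ i)⁻¹ * g ∈ cenMod (omegaZ p S) ({t} : Set S) :=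
        mem_cenMod.2 (fun y hy => (Set.mem_singleton_iff.1 hy).symm ▸ comm_swap (hTZ t ht _ hi))
      have h3 := mul_mem (pow_mem h1 i) h2
      rw [mul_inv_cancel_left] at h3
      exact comm_swap (mem_cenMod.1 h3 t rfl)
    let U : ℕ → Subgroup S := fun i => match i with
      | 0 => ⊥
      | 1 => omegaZ p S
      | _ => T
    refine hmove₁ (d.keep_of_series hE₁ hS (T := T) hT.V_le hTE₁ hVaut U 2 rfl rfl ?_ ?_ ?_)
    · intro i hi
      match i, hi with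
      | 0, _ => exact bot_le
      | 1, _ => exact (d.omegaZ_le_V hE₀).trans hT.V_le
    · intro i hi
      match i, hi with
      | 0, _ => exact d.keep_bot hE₁
      | 1, _ => exact hZk
      | 2, _ => exact hTk₁
    · suffices h : ∀ g : S, ∀ i < 2, ∀ u ∈ U (i + 1), ⁅u⁻¹, g⁆ ∈ U i by
        intro g i hi u hu
        have e : u⁻¹ * (g * u * g⁻¹) = ⁅u⁻¹, g⁆ := by simp only [commutatorElement_def]; group
        exact e.symm ▸ h g i hi u hu
      intro g i hi u hu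
      obtain rfl | rfl : i = 0 ∨ i = 1 := by omega
      ·
        show ⁅u⁻¹, g⁆ ∈ (⊥ : Subgroup S)
        rw [Subgroup.mem_bot, commutatorElement_eq_one_iff_commute]
        exact (commute_omegaZ (inv_mem (show u ∈ omegaZ p S from hu)) g).symm
      · exact hall _ (inv_mem (show u ∈ T from hu)) g
  have hTle : ∀ E ∈ d.ess, T ≤ E := by
    intro E hE
    haveI := d.normal E hE
    by_cases hkeep : d.A E ≤ keep E (d.V E₀)
    swap
    · rw [← (d.tame_facts hp2 hS hsr hf hT (d.tame_orb hS hsr hf hE hkeep)).1]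
      exact d.orb_le hE _
    by_cases hEE : E = E₀
    · subst hEE; exact hT.le
    intro t ht
    by_contra htE
    have hTV : T ⊓ E = d.V E₀ := by
      refine (Subgroup.eq_of_le_of_card_ge (le_inf hT.V_le (hf.V_mem E hE)) ?_).symm
      have h := PGroup.mul_card_le_of_lt hS (show T ⊓ E < T from SetLike.lt_iff_le_and_exists.2
        ⟨inf_le_left, t, ht, fun h => htE h.2⟩)
      rw [hT.card] at h
      rw [hf.cardV]
      exact Nat.le_of_mul_le_mul_left (h.trans (le_of_eq (by ring))) hp.out.pos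
    let U : ℕ → Subgroup S := fun i => match i with
      | 0 => ⊥
      | 1 => d.V E₀
      | _ => E
    refine d.false_of_invariant_chain hE hS htE U 2 rfl rfl ?_ ?_ ?_
    · intro i hi
      match i, hi with
      | 0, _ => exact bot_le
      | 1, _ => exact hf.V_mem E hE
    · intro i hi
      match i, hi with
      | 0, _ => exact d.keep_bot hE
      | 1, _ => exact hkeep
      | 2, _ => exact fun α _ => mem_keep_of_maps fun e _ => (α e).2
    · intro i hi u hu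
      match i, hi, hu with
      | 0, _, hu =>
        show u⁻¹ * (t * u * t⁻¹) ∈ (⊥ : Subgroup S)
        rw [Subgroup.mem_bot, (hT.comm t ht u (hT.V_le hu)).eq, mul_inv_cancel_right, inv_mul_cancel]
      | 1, _, hu =>
        show u⁻¹ * (t * u * t⁻¹) ∈ d.V E₀
        rw [← hTV]
        refine Subgroup.mem_inf.2 ⟨?_, mul_mem (inv_mem hu) ((d.normal E hE).conj_mem u hu t)⟩
        have h := mul_mem (hT.normal.conj_mem t ht u⁻¹) (inv_mem ht)
        convert h using 1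
        group
  by_cases hall : ∀ E ∈ d.ess, d.A E ≤ keep E T
  · exact hVne (le_bot_iff.1 (hT.V_le.trans (d.eq_bot T hTaut fun E hE => ⟨hTle E hE, hall E hE⟩).le))
  push Not at hall
  obtain ⟨E, hE, hmove⟩ := hall
  have hkeep : d.A E ≤ keep E (d.V E₀) := by
    by_contra h
    refine hmove ?_
    rw [← (d.tame_facts hp2 hS hsr hf hT (d.tame_orb hS hsr hf hE h)).1]
    exact d.keep_orb hE _
  exact d.false_of_moving_tame hp2 hS hsr hf hT hTaut hE₁ hTk₁ hchar hE (hTle E hE) hkeep hmove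

end Datum

end Cfsg.Agent.NormalEss
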