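import Cfsg.Agent.Lib.NormalEss.Moving
import Cfsg.Agent.Lib.SectionalThree.RegularModel
import Cfsg.Agent.Lib.PGroup.UniqueOrderP
import Cfsg.Agent.Lib.PGroup.Omega

/-!
# Common lemmas for the case analysis

* `isCyclic_of_centralized` : a subgroup centralized by an elementary abelian subgroup of order `p ^ 2` meeting
  it trivially is cyclic;
* `model_of_data` : the relations of `RegularModel` together with `x ∉ ⟨a, b, c⟩` give the model;
* `commute_of_gens`, `mul_pow_mem` : commutators and powers modulo a subgroup;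
* `imgOf` : the image of a subgroup under an automorphism of `E`.
-/

set_option autoImplicit false
set_option linter.unusedSectionVars false
set_option linter.style.haveILetI false
set_option maxHeartbeats 1000000

namespace Cfsg.Agent.NormalEss

open scoped commutatorElement

universe u

variable {p : ℕ} [hp : Fact p.Prime] {S : Type u} [Group S] [Finite S]

theorem card_zpowers_eq {a : S} (ha : a ^ p = 1) (ha1 : a ≠ 1) : Nat.card (Subgroup.zpowers a) = p := by
  rw [Nat.card_zpowers, orderOf_eq_prime ha ha1]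

theorem zpowers_elem {a : S} (ha : a ^ p = 1) :
    (∀ x ∈ Subgroup.zpowers a, ∀ y ∈ Subgroup.zpowers a, Commute x y) ∧
      ∀ x ∈ Subgroup.zpowers a, x ^ p = 1 := by
  refine ⟨fun x hx y hy => ?_, fun x hx => ?_⟩
  · obtain ⟨i, rfl⟩ := Subgroup.mem_zpowers_iff.1 hx
    obtain ⟨j, rfl⟩ := Subgroup.mem_zpowers_iff.1 hy
    exact (Commute.refl a).zpow_zpow i j
  · obtain ⟨i, rfl⟩ := Subgroup.mem_zpowers_iff.1 hx
    rw [← zpow_natCast, ← zpow_mul, mul_comm, zpow_mul, zpow_natCast, ha, one_zpow]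

/-- The plane on two commuting independent elements of order `p`. -/
theorem plane_elem {a b : S} (ha : a ^ p = 1) (ha1 : a ≠ 1) (hb : b ^ p = 1) (hba : b ∉ Subgroup.zpowers a)
    (hab : Commute a b) :
    p ^ 2 ≤ Nat.card (Subgroup.zpowers a ⊔ Subgroup.zpowers b : Subgroup S) ∧
      (∀ x ∈ Subgroup.zpowers a ⊔ Subgroup.zpowers b, ∀ y ∈ Subgroup.zpowers a ⊔ Subgroup.zpowers b, Commute x y) ∧
      ∀ x ∈ Subgroup.zpowers a ⊔ Subgroup.zpowers b, x ^ p = 1 := by
  obtain ⟨h1, h2, h3⟩ := mul_card_le_of_commute (zpowers_elem ha).1 (zpowers_elem ha).2 hba hb fun x hx => by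
    obtain ⟨i, rfl⟩ := Subgroup.mem_zpowers_iff.1 hx
    exact hab.symm.zpow_right i
  rw [card_zpowers_eq ha ha1, ← pow_two] at h1
  exact ⟨h1, h2, h3⟩

/-- A subgroup centralized by an elementary abelian subgroup of order `p ^ 2` meeting it trivially. -/
theorem isCyclic_of_centralized (hp2 : p ≠ 2) (hS : IsPGroup p S) (hsr : Cfsg.SectionalPRankLE p 3 S)
    {R T : Subgroup S} (hTc : ∀ a ∈ T, ∀ b ∈ T, Commute a b) (hTe : ∀ a ∈ T, a ^ p = 1)
    (hT : p ^ 2 ≤ Nat.card T) (hTR : ∀ r ∈ R, r ∈ T → r = 1) (hRT : ∀ r ∈ R, ∀ t ∈ T, Commute r t) :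
    IsCyclic R := by
  by_contra hnc
  have htop : ¬ IsCyclic (⊤ : Subgroup R) := fun h => hnc (Subgroup.topEquiv.isCyclic.1 h)
  obtain ⟨A, -, -, ⟨hAc, hAe⟩, hA⟩ := PGroup.exists_normal_elementary_sq hp2 (hS.to_subgroup R) htop
  let A' := A.map R.subtype
  have hA'c : ∀ a ∈ A', ∀ b ∈ A', Commute a b := by
    rintro _ ⟨a, ha, rfl⟩ _ ⟨b, hb, rfl⟩
    exact congrArg Subtype.val (congrArg Subtype.val (hAc.is_comm.comm ⟨a, ha⟩ ⟨b, hb⟩))
  have hA'e : ∀ a ∈ A', a ^ p = 1 := by
    rintro _ ⟨a, ha, rfl⟩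
    rw [← map_pow, hAe a ha, map_one]
  have hA'card : Nat.card A' = p ^ 2 := by rw [Subgroup.card_map_of_injective R.subtype_injective, hA]
  have hA'R : A' ≤ R := Subgroup.map_subtype_le A
  set U := A' ⊔ T with hU
  have hcom : ∀ a ∈ U, ∀ b ∈ U, Commute a b := by
    rw [hU, Subgroup.sup_eq_closure]
    intro a ha b hb
    have hgen : ∀ a ∈ (A' : Set S) ∪ T, ∀ b ∈ (A' : Set S) ∪ T, Commute a b := by
      rintro a (ha | ha) b (hb | hb)
      exacts [hA'c a ha b hb, hRT a (hA'R ha) b hb, (hRT b (hA'R hb) a ha).symm, hTc a ha b hb]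
    induction ha using Subgroup.closure_induction with
    | mem y hy =>
      induction hb using Subgroup.closure_induction with
      | mem w hw => exact hgen y hy w hw
      | one => exact Commute.one_right _
      | mul w w' _ _ h1 h2 => exact h1.mul_right h2
      | inv w _ h1 => exact h1.inv_right
    | one => exact Commute.one_left _
    | mul y y' _ _ h1 h2 => exact h1.mul_left h2
    | inv y _ h1 => exact h1.inv_left
  have hexp : ∀ a ∈ U, a ^ p = 1 := by
    intro a ha
    have : ∀ y ∈ Subgroup.closure ((A' : Set S) ∪ T), y ^ p = 1 := by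
      intro y hy
      induction hy using Subgroup.closure_induction with
      | mem w hw => exact hw.elim (hA'e w) (hTe w)
      | one => exact one_pow p
      | mul w w' hw hw' h1 h2 =>
        rw [(hcom w (by rwa [hU, Subgroup.sup_eq_closure]) w' (by rwa [hU, Subgroup.sup_eq_closure])).mul_pow,
          h1, h2, one_mul]
      | inv w _ h1 => rw [inv_pow, h1, inv_one]
    rw [hU, Subgroup.sup_eq_closure] at ha
    exact this a ha
  let f : A' × T → U := fun at' => ⟨at'.1 * at'.2,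
    mul_mem (Subgroup.mem_sup_left at'.1.2) (Subgroup.mem_sup_right at'.2.2)⟩
  have hf : Function.Injective f := by
    rintro ⟨⟨a, ha⟩, ⟨t, ht⟩⟩ ⟨⟨a', ha'⟩, ⟨t', ht'⟩⟩ h
    have h' : a * t = a' * t' := congrArg Subtype.val h
    have e : a'⁻¹ * a = t' * t⁻¹ := by
      rw [eq_mul_inv_iff_mul_eq, mul_assoc, h', inv_mul_cancel_left]
    have h1 := hTR _ (mul_mem (inv_mem (hA'R ha')) (hA'R ha)) (e ▸ mul_mem ht' (inv_mem ht))
    rw [inv_mul_eq_one] at h1
    subst h1
    have h2 := mul_left_cancel h'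
    subst h2
    rfl
  have h4 := (Nat.card_le_card_of_injective f hf).trans (card_elem_le hsr hcom hexp)
  rw [Nat.card_prod, hA'card] at h4
  have h5 : p ^ 2 * p ^ 2 ≤ p ^ 3 := le_trans (Nat.mul_le_mul le_rfl hT) h4
  rw [← pow_add] at h5
  exact absurd ((Nat.pow_le_pow_iff_right hp.out.one_lt).1 h5) (by norm_num)

/-- The model from its relations. -/
theorem model_of_data (hS : IsPGroup p S) (M : SectionalThree.RegularModel.Data p S) (ha : M.a ≠ 1)
    (hb : M.b ∉ Subgroup.zpowers M.a) (hc : M.c ∉ Subgroup.zpowers M.a ⊔ Subgroup.zpowers M.b)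
    (hx : M.x ∉ Subgroup.zpowers M.a ⊔ Subgroup.zpowers M.b ⊔ Subgroup.zpowers M.c) :
    Nonempty (SectionalThree.RegularModel p S) := by
  obtain ⟨h2, h2c, h2e⟩ := plane_elem M.a_pow ha M.b_pow hb M.ab
  obtain ⟨h3, -, -⟩ := mul_card_le_of_commute h2c h2e hc M.c_pow fun y hy => by
    rw [Subgroup.sup_eq_closure] at hy
    induction hy using Subgroup.closure_induction with
    | mem w hw =>
      rcases hw with hw | hw <;> obtain ⟨i, rfl⟩ := Subgroup.mem_zpowers_iff.1 hw
      · exact M.ac.symm.zpow_right i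
      · exact M.bc.symm.zpow_right i
    | one => exact Commute.one_right _
    | mul w w' _ _ h1 h2 => exact h1.mul_right h2
    | inv w _ h1 => exact h1.inv_right
  have h4 := PGroup.mul_card_le_of_lt hS (H := Subgroup.zpowers M.a ⊔ Subgroup.zpowers M.b ⊔ Subgroup.zpowers M.c)
    (K := ⊤) (lt_top_iff_ne_top.2 fun h => hx (h ▸ Subgroup.mem_top M.x))
  rw [Subgroup.card_top] at h4
  refine ⟨{ M with card := le_antisymm M.card_le ?_ }⟩
  calc p ^ 4 = p * (p * p ^ 2) := by ring
    _ ≤ _ := (Nat.mul_le_mul le_rfl ((Nat.mul_le_mul le_rfl h2).trans h3)).trans h4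

/-- Commutators lie in a normal subgroup as soon as generators commute modulo it. -/
theorem commute_of_gens {K : Subgroup S} [K.Normal] {s : Set S} (hs : Subgroup.closure s = ⊤)
    (h : ∀ u ∈ s, ∀ v ∈ s, ⁅u, v⁆ ∈ K) (u v : S) : ⁅u, v⁆ ∈ K := by
  refine (QuotientGroup.eq_one_iff _).1 ?_
  show QuotientGroup.mk' K ⁅u, v⁆ = 1
  rw [map_commutatorElement]
  refine commutatorElement_eq_one_iff_commute.2 (SectionalThree.commute_of_closure (QuotientGroup.mk' K) hs ?_ u v)
  intro a ha b hb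
  refine commutatorElement_eq_one_iff_commute.1 ?_
  rw [← map_commutatorElement]
  exact (QuotientGroup.eq_one_iff _).2 (h a ha b hb)

/-- Powers lie in `L` when `S` has class two modulo `L` and is generated by elements with powers in `L`. -/
theorem pow_mem_of_gens (hp2 : p ≠ 2) {L : Subgroup S} [L.Normal] {s : Set S} (hs : Subgroup.closure s = ⊤)
    (hpow : ∀ u ∈ s, u ^ p ∈ L) (hclass : ∀ u v w : S, ⁅⁅u, v⁆, w⁆ ∈ L) (u : S) : u ^ p ∈ L := by
  set π := QuotientGroup.mk' L
  have hsurj : Function.Surjective π := QuotientGroup.mk'_surjective L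
  refine (QuotientGroup.eq_one_iff _).1 ?_
  show π (u ^ p) = 1
  rw [map_pow]
  refine PGroup.exponent_omega_classTwo hp.out hp2 (fun a b => ?_) ?_
  · obtain ⟨a, rfl⟩ := hsurj a
    obtain ⟨b, rfl⟩ := hsurj b
    refine Subgroup.mem_center_iff.2 fun c => ?_
    obtain ⟨c, rfl⟩ := hsurj c
    refine (commutatorElement_eq_one_iff_mul_comm.1 ?_).symm
    rw [← map_commutatorElement, ← map_commutatorElement]
    exact (QuotientGroup.eq_one_iff _).2 (hclass a b c)
  · have h := Subgroup.mem_map_of_mem π (hs ▸ Subgroup.mem_top u : u ∈ Subgroup.closure s)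
    rw [MonoidHom.map_closure] at h
    refine Subgroup.closure_mono ?_ h
    rintro _ ⟨w, hw, rfl⟩
    show π w ^ p = 1
    rw [← map_pow]
    exact (QuotientGroup.eq_one_iff _).2 (hpow w hw)

/-- The image of a subgroup of `E` under an automorphism of `E`. -/
def imgOf {E : Subgroup S} (g : MulAut E) (D : Subgroup S) : Subgroup S :=
  ((D.subgroupOf E).map g.toMonoidHom).map E.subtype

theorem mem_imgOf {E : Subgroup S} (g : MulAut E) (D : Subgroup S) {s : S} :
    s ∈ imgOf g D ↔ ∃ f : E, (f : S) ∈ D ∧ ((g f : E) : S) = s :=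
  ⟨fun ⟨_, ⟨f, hf, hg⟩, hs⟩ => ⟨f, hf, by rw [show g f = _ from hg]; exact hs⟩,
    fun ⟨f, hf, hs⟩ => ⟨g f, ⟨f, hf, rfl⟩, hs⟩⟩

theorem imgOf_le {E : Subgroup S} (g : MulAut E) (D : Subgroup S) : imgOf g D ≤ E := fun s hs => by
  obtain ⟨f, -, rfl⟩ := (mem_imgOf g D).1 hs
  exact (g f).2

theorem imgOf_conj {E : Subgroup S} (g : MulAut E) {D : Subgroup S} (hD : ∀ d ∈ D, ∀ e ∈ E, e * d * e⁻¹ ∈ D)
    {s : S} (hs : s ∈ imgOf g D) {e : S} (he : e ∈ E) : e * s * e⁻¹ ∈ imgOf g D := by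
  obtain ⟨f, hf, rfl⟩ := (mem_imgOf g D).1 hs
  obtain ⟨e', he'⟩ := g.surjective ⟨e, he⟩
  refine (mem_imgOf g D).2 ⟨e' * f * e'⁻¹, hD _ hf e' e'.2, ?_⟩
  rw [map_mul, map_mul, map_inv, he']
  rfl

end Cfsg.Agent.NormalEss
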