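import Cfsg.Agent.Lib.FusionChain.Stabilizer
import Cfsg.Agent.Lib.SectionalThree.Step
import Cfsg.Agent.Lib.SectionalThree.TwoEss

/-!
# Saturated systems whose essential subgroups are all normal, as data on the group `S`

* `Pre p S`, `Datum p S` : the automorphisms of `S`, the essential subgroups (normal of index `p`) with their
  automorphism groups, and the facts used about them;
* `Pre.false_of_pgroup` : a `p`-subgroup does not contain an outer element and a conjugate outside `Aut_S(E)`;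
* `Pre.keep_of_conjugates`, `Pre.keep_of_series` : criteria for invariance under `Aut(E)`.
-/

set_option autoImplicit false
set_option linter.unusedSectionVars false
set_option linter.style.haveILetI false
set_option maxHeartbeats 1000000

namespace Cfsg.Agent.NormalEss

open scoped commutatorElement

universe u

variable {S : Type u} [Group S]

/-- The automorphisms of a subgroup induced by elements of the group. -/
def conjSub (E : Subgroup S) : Subgroup (MulAut E) where
  carrier := {α | ∃ s : S, ∀ e : E, ((α e : E) : S) = s * e * s⁻¹}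
  one_mem' := ⟨1, fun e => by simp⟩
  mul_mem' := by
    rintro α β ⟨s, hs⟩ ⟨t, ht⟩
    exact ⟨s * t, fun e => by rw [MulAut.mul_apply, hs, ht]; simp [mul_assoc]⟩
  inv_mem' := by
    rintro α ⟨s, hs⟩
    refine ⟨s⁻¹, fun e => ?_⟩
    have h := hs (α⁻¹ e)
    rw [MulAut.apply_inv_self] at h
    rw [h]
    group

/-- The automorphisms of `E` fixing `X` as a set. -/
def keep (E X : Subgroup S) : Subgroup (MulAut E) where
  carrier := {α | ∀ e : E, ((α e : E) : S) ∈ X ↔ (e : S) ∈ X}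
  one_mem' := fun e => Iff.rfl
  mul_mem' := fun {α β} hα hβ e => (hα (β e)).trans (hβ e)
  inv_mem' := fun {α} hα e => by
    have h := hα (α⁻¹ e)
    rw [MulAut.apply_inv_self] at h
    exact h.symm

theorem mem_keep_of_maps {E X : Subgroup S} [Finite E] {α : MulAut E}
    (h : ∀ e : E, (e : S) ∈ X → ((α e : E) : S) ∈ X) : α ∈ keep E X := by
  let f : {e : E // (e : S) ∈ X} → {e : E // (e : S) ∈ X} := fun e => ⟨α e.1, h e.1 e.2⟩
  have hf : Function.Surjective f := Finite.surjective_of_injective fun a b hab =>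
    Subtype.ext (α.injective (congrArg Subtype.val hab))
  refine fun e => ⟨fun he => ?_, h e⟩
  obtain ⟨e', he'⟩ := hf ⟨α e, he⟩
  exact α.injective (congrArg Subtype.val he') ▸ e'.2

/-- Displacements and the set they lie in: `α` stabilizes the chain `U`. -/
def Stabilizes {H : Type*} [Group H] (U : ℕ → Subgroup H) (n : ℕ) (α : MulAut H) : Prop :=
  ∀ i < n, ∀ x ∈ U (i + 1), x⁻¹ * α x ∈ U i

theorem stabilizes_mul {H : Type*} [Group H] {U : ℕ → Subgroup H} {n : ℕ} (h0 : U 0 = ⊥)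
    (hmono : ∀ i < n, U i ≤ U (i + 1)) {α β : MulAut H} (hα : Stabilizes U n α) (hβ : Stabilizes U n β) :
    Stabilizes U n (α * β) := by
  intro i hi x hx
  have h1 := hβ i hi x hx
  have h2 : α (x⁻¹ * β x) ∈ U i := by
    rcases i with _ | i
    · rw [h0, Subgroup.mem_bot] at h1 ⊢
      rw [h1, map_one]
    · have h3 := mul_mem h1 ((hmono i (by omega)) (hα i (by omega) _ h1))
      rwa [mul_inv_cancel_left] at h3
  rw [map_mul, map_inv] at h2
  have := mul_mem (hα i hi x hx) h2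
  rwa [mul_assoc, mul_inv_cancel_left] at this

/-- The subgroup of the automorphisms stabilizing a chain. -/
def stab {H : Type*} [Group H] [Finite H] (U : ℕ → Subgroup H) (n : ℕ) (h0 : U 0 = ⊥)
    (hmono : ∀ i < n, U i ≤ U (i + 1)) : Subgroup (MulAut H) where
  carrier := {α | Stabilizes U n α}
  one_mem' := fun i _ x _ => by simp
  mul_mem' := stabilizes_mul h0 hmono
  inv_mem' := fun {α} hα => by
    haveI : Finite (MulAut H) := Finite.of_injective (fun β : MulAut H => (β : H → H)) fun a b h =>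
      MulEquiv.ext (congrFun h)
    have hpow : ∀ k : ℕ, Stabilizes U n (α ^ k) := fun k => by
      induction k with
      | zero => exact fun i _ x _ => by simp
      | succ k ih => rw [pow_succ]; exact stabilizes_mul h0 hmono ih hα
    have h := hpow (orderOf α - 1)
    rw [Set.mem_ofPred_eq, inv_eq_of_mul_eq_one_right (show α * α ^ (orderOf α - 1) = 1 by
      rw [← pow_succ', Nat.sub_add_cancel (orderOf_pos α), pow_orderOf_eq_one])]
    exact h

/-- The facts used about a saturated system and some normal essential subgroups of index `p`. -/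
structure Pre (p : ℕ) (S : Type u) [Group S] where
  Aut : Subgroup (MulAut S)
  ess : Set (Subgroup S)
  A : (E : Subgroup S) → Subgroup (MulAut E)
  conj_mem : ∀ s : S, MulAut.conj s ∈ Aut
  pfix : ∀ σ ∈ Aut, (∃ k : ℕ, σ ^ p ^ k = 1) → ∃ s : S, σ = MulAut.conj s
  normal : ∀ E ∈ ess, E.Normal
  index : ∀ E ∈ ess, E.index = p
  centric : ∀ E ∈ ess, ∀ s : S, (∀ e ∈ E, Commute s e) → s ∈ E
  conj_le : ∀ E ∈ ess, conjSub E ≤ A E
  sylow : ∀ E ∈ ess, ∀ Q : Subgroup (MulAut E), conjSub E ≤ Q → Q ≤ A E → IsPGroup p Q → Q = conjSub E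
  notnormal : ∀ E ∈ ess, ∃ g ∈ A E, ∃ α ∈ conjSub E, g * α * g⁻¹ ∉ conjSub E
  extend : ∀ E ∈ ess, ∀ g ∈ A E, (∀ α ∈ conjSub E, g * α * g⁻¹ ∈ conjSub E) →
    ∃ σ ∈ Aut, ∀ e : E, σ e = ((g e : E) : S)
  transport : ∀ σ ∈ Aut, ∀ E ∈ ess, ∃ E' ∈ ess, (∀ s, s ∈ E ↔ σ s ∈ E') ∧
    ∀ β ∈ A E', ∃ α ∈ A E, ∀ (e : E) (e' : E'), (e' : S) = σ e → ((β e' : E') : S) = σ ((α e : E) : S)

/-- The facts used about a saturated system with all essential subgroups normal of index `p`. -/
structure Datum (p : ℕ) (S : Type u) [Group S] extends Pre p S where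
  eq_bot : ∀ Q : Subgroup S, (∀ σ ∈ Aut, ∀ q ∈ Q, σ q ∈ Q) →
    (∀ E ∈ ess, Q ≤ E ∧ A E ≤ keep E Q) → Q = ⊥

namespace Pre

variable {p : ℕ} [hp : Fact p.Prime] [Finite S] (d : Pre p S)

include d

/-- Conjugation on an essential subgroup. -/
def cj {E : Subgroup S} (hE : E ∈ d.ess) : S →* MulAut E :=
  haveI := d.normal E hE
  MulAut.conjNormal

/-- The normal closure of `Aut_S(E)` in `Aut(E)`. -/
def closureB (E : Subgroup S) : Subgroup (MulAut E) :=
  Subgroup.closure {β | ∃ g ∈ d.A E, ∃ α ∈ conjSub E, β = g * α * g⁻¹}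

variable {E : Subgroup S} (hE : E ∈ d.ess)
include hE

@[simp] theorem cj_apply (s : S) (e : E) : ((d.cj hE s e : E) : S) = s * e * s⁻¹ := by
  haveI := d.normal E hE
  exact MulAut.conjNormal_apply s e

theorem mem_conjSub_iff {α : MulAut E} : α ∈ conjSub E ↔ ∃ s, d.cj hE s = α :=
  ⟨fun ⟨s, hs⟩ => ⟨s, MulEquiv.ext fun e => Subtype.ext (by rw [cj_apply, hs])⟩,
    fun ⟨s, hs⟩ => ⟨s, fun e => by rw [← hs, cj_apply]⟩⟩

theorem cj_mem (s : S) : d.cj hE s ∈ d.A E := d.conj_le E hE ((d.mem_conjSub_iff hE).2 ⟨s, rfl⟩)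

theorem finiteAut : Finite (MulAut E) :=
  Finite.of_injective (fun β : MulAut E => (β : E → E)) fun a b h => MulEquiv.ext (congrFun h)

theorem pgroup_conjSub (hS : IsPGroup p S) : IsPGroup p (conjSub E) := by
  rintro ⟨α, hα⟩
  obtain ⟨s, rfl⟩ := (d.mem_conjSub_iff hE).1 hα
  obtain ⟨k, hk⟩ := hS s
  exact ⟨k, Subtype.ext (show d.cj hE s ^ p ^ k = 1 by rw [← map_pow, hk, map_one])⟩

/-- Every element of `S` is a power of a given outer one modulo `E`. -/
theorem exists_pow {x : S} (hx : x ∉ E) (s : S) : ∃ i : ℕ, (x ^ i)⁻¹ * s ∈ E := by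
  haveI := d.normal E hE
  have hcard : Nat.card (S ⧸ E) = p := by rw [← Subgroup.index_eq_card]; exact d.index E hE
  have htop : Subgroup.zpowers (x : S ⧸ E) = ⊤ :=
    zpowers_eq_top_of_prime_card hcard fun h => hx ((QuotientGroup.eq_one_iff x).1 h)
  obtain ⟨i, hi⟩ := mem_powers_iff_mem_zpowers.2 (htop ▸ Subgroup.mem_top (s : S ⧸ E))
  exact ⟨i, QuotientGroup.eq.1 (by rw [QuotientGroup.mk_pow]; exact hi)⟩

theorem exists_not_mem : ∃ x : S, x ∉ E := by
  by_contra h
  push Not at h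
  have := d.index E hE
  rw [(Subgroup.eq_top_iff' E).2 h, Subgroup.index_top] at this
  exact hp.out.ne_one this.symm

theorem cj_self (e f : E) : d.cj hE (e : S) f = MulAut.conj e f := Subtype.ext (by simp [MulAut.conj_apply])

theorem conj_conj (α : MulAut E) (e : E) : α * d.cj hE (e : S) * α⁻¹ = d.cj hE ((α e : E) : S) :=
  MulEquiv.ext fun f => by
    rw [MulAut.mul_apply, MulAut.mul_apply, d.cj_self hE, d.cj_self hE, MulAut.conj_apply,
      MulAut.conj_apply, map_mul, map_mul, map_inv, MulAut.apply_inv_self]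

/-- A conjugate of an outer element outside `Aut_S(E)`. -/
theorem exists_conj_outside {x : S} (hx : x ∉ E) :
    ∃ g ∈ d.A E, g * d.cj hE x * g⁻¹ ∉ conjSub E := by
  obtain ⟨g, hg, α, hα, hout⟩ := d.notnormal E hE
  refine ⟨g, hg, fun hin => hout ?_⟩
  obtain ⟨s, rfl⟩ := (d.mem_conjSub_iff hE).1 hα
  obtain ⟨i, hi⟩ := d.exists_pow hE hx s
  have h1 : d.cj hE s = d.cj hE x ^ i * d.cj hE ((x ^ i)⁻¹ * s) := by
    rw [← map_pow, ← map_mul, mul_inv_cancel_left]
  rw [h1, ← conj_mul]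
  refine mul_mem ?_ ?_
  · rw [← conj_pow]
    exact pow_mem hin i
  · rw [d.conj_conj hE g ⟨_, hi⟩]
    exact (d.mem_conjSub_iff hE).2 ⟨_, rfl⟩

/-- A `p`-group of automorphisms does not contain an outer element and its conjugate outside. -/
theorem false_of_pgroup (hS : IsPGroup p S) {x : S} (hx : x ∉ E) {g : MulAut E} (hg : g ∈ d.A E)
    (hout : g * d.cj hE x * g⁻¹ ∉ conjSub E) (K : Subgroup (MulAut E)) (hK : IsPGroup p K)
    (h1 : d.cj hE x ∈ K) (h2 : g * d.cj hE x * g⁻¹ ∈ K) : False := by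
  haveI := d.normal E hE
  let cE : E →* MulAut E := (d.cj hE).comp E.subtype
  let I := cE.range
  have hI : IsPGroup p I := (hS.to_subgroup E).of_surjective cE.rangeRestrict cE.rangeRestrict_surjective
  have hKA : IsPGroup p (K ⊓ d.A E : Subgroup (MulAut E)) := hK.to_le inf_le_left
  have hnorm : K ⊓ d.A E ≤ Subgroup.normalizer (I : Set (MulAut E)) := fun α _ => by
    refine Subgroup.mem_normalizer_iff.2 fun β => ⟨?_, ?_⟩
    · rintro ⟨e, rfl⟩
      exact ⟨α e, (d.conj_conj hE α e).symm⟩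
    · rintro ⟨e, he⟩
      refine ⟨α⁻¹ e, ?_⟩
      change d.cj hE _ = β
      rw [← d.conj_conj hE α⁻¹ e, show d.cj hE (e : S) = α * β * α⁻¹ from he]
      group
  have hQ := hI.to_sup_of_normal_left' hKA hnorm
  have hle : conjSub E ≤ I ⊔ (K ⊓ d.A E) := by
    intro α hα
    obtain ⟨s, rfl⟩ := (d.mem_conjSub_iff hE).1 hα
    obtain ⟨i, hi⟩ := d.exists_pow hE hx s
    rw [← mul_inv_cancel_left (x ^ i) s, map_mul, map_pow]
    exact mul_mem (Subgroup.mem_sup_right (pow_mem (Subgroup.mem_inf.2 ⟨h1, d.cj_mem hE x⟩) i))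
      (Subgroup.mem_sup_left ⟨⟨_, hi⟩, rfl⟩)
  have hQA : I ⊔ (K ⊓ d.A E) ≤ d.A E := sup_le (by rintro _ ⟨e, rfl⟩; exact d.cj_mem hE _) inf_le_right
  exact hout ((d.sylow E hE _ hle hQA hQ).le
    (Subgroup.mem_sup_right (Subgroup.mem_inf.2 ⟨h2, mul_mem (mul_mem hg (d.cj_mem hE x)) ((d.A E).inv_mem hg)⟩)))

/-- An outer element and its conjugate outside stabilize no common chain. -/
theorem false_of_chain (hS : IsPGroup p S) {x : S} (hx : x ∉ E) {g : MulAut E} (hg : g ∈ d.A E)
    (hout : g * d.cj hE x * g⁻¹ ∉ conjSub E) (U : ℕ → Subgroup E) (n : ℕ) (h0 : U 0 = ⊥) (hn : U n = ⊤)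
    (hmono : ∀ i < n, U i ≤ U (i + 1)) (h1 : Stabilizes U n (d.cj hE x))
    (h2 : Stabilizes U n (g * d.cj hE x * g⁻¹)) : False := by
  haveI := d.finiteAut hE
  refine d.false_of_pgroup hE hS hx hg hout (stab U n h0 hmono) ?_ h1 h2
  exact FusionChain.isPGroup_of_stabilizes_chain (hS.to_subgroup E) _ n U h0 hn fun α hα => hα

/-- The same, for a short chain above the Frattini subgroup. -/
theorem false_of_frattini (hS : IsPGroup p S) {x : S} (hx : x ∉ E) {g : MulAut E} (hg : g ∈ d.A E)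
    (hout : g * d.cj hE x * g⁻¹ ∉ conjSub E) (U : Subgroup E)
    (h1 : ∀ e, e⁻¹ * d.cj hE x e ∈ U) (h1' : ∀ e ∈ U, e⁻¹ * d.cj hE x e ∈ frattini E)
    (h2 : ∀ e, e⁻¹ * (g * d.cj hE x * g⁻¹) e ∈ U)
    (h2' : ∀ e ∈ U, e⁻¹ * (g * d.cj hE x * g⁻¹) e ∈ frattini E) : False := by
  haveI := d.finiteAut hE
  have hEp := hS.to_subgroup E
  let P : MulAut E → Prop := fun α => (∀ e, e⁻¹ * α e ∈ U) ∧ ∀ e ∈ U, e⁻¹ * α e ∈ frattini E
  have hfr : ∀ (α : MulAut E) (e : E), e ∈ frattini E → α e ∈ frattini E := fun α e he =>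
    Subgroup.mem_comap.1 ((Subgroup.characteristic_iff_comap_eq.1
      (inferInstance : (frattini E).Characteristic) α).ge he)
  have hmul : ∀ α β, P α → P β → P (α * β) := by
    intro α β hα hβ
    refine ⟨fun e => ?_, fun e he => ?_⟩
    · have h : α (e⁻¹ * β e) ∈ U := by
        have := mul_mem (hβ.1 e) (hα.1 (e⁻¹ * β e))
        rwa [mul_inv_cancel_left] at this
      have := mul_mem (hα.1 e) h
      rwa [map_mul, map_inv, mul_assoc, mul_inv_cancel_left] at this
    · have := mul_mem (hα.2 e he) (hfr α _ (hβ.2 e he))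
      rwa [map_mul, map_inv, mul_assoc, mul_inv_cancel_left] at this
  have hpow : ∀ α, P α → ∀ n : ℕ, P (α ^ n) := fun α hα n => by
    induction n with
    | zero => exact ⟨fun e => by simp, fun e _ => by simp⟩
    | succ n ih => rw [pow_succ]; exact hmul _ _ ih hα
  let K : Subgroup (MulAut E) :=
    { carrier := {α | P α}
      one_mem' := ⟨fun e => by simp, fun e _ => by simp⟩
      mul_mem' := fun {α β} => hmul α β
      inv_mem' := fun {α} hα => by
        have h := hpow α hα (orderOf α - 1)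
        rw [Set.mem_ofPred_eq, inv_eq_of_mul_eq_one_right (show α * α ^ (orderOf α - 1) = 1 by
          rw [← pow_succ', Nat.sub_add_cancel (orderOf_pos α), pow_orderOf_eq_one])]
        exact h }
  refine d.false_of_pgroup hE hS hx hg hout K ?_ ⟨h1, h1'⟩ ⟨h2, h2'⟩
  refine FusionChain.isPGroup_of_coprime_trivial fun α hα => Subtype.ext ?_
  obtain ⟨β, hβ⟩ := α
  have hc : Nat.Coprime (orderOf β) p := by rwa [Subgroup.orderOf_mk] at hα
  refine SectionalThree.eq_one_of_frattini hEp hc (MulEquiv.ext fun v => ?_)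
  induction v using QuotientGroup.induction_on with | _ e => ?_
  show ((β e : E) : E ⧸ frattini E) = (e : E ⧸ frattini E)
  refine (QuotientGroup.eq.2 ?_).symm
  -- the displacement `u` has `u ^ order` and `u ^ p` in `Φ(E)`
  set u := e⁻¹ * β e with hu
  have hiter : ∀ n : ℕ, ((β ^ n) e : E ⧸ frattini E) = (e : E ⧸ frattini E) * (u : E ⧸ frattini E) ^ n := by
    intro n
    induction n with
    | zero => simp
    | succ n ih =>
      rw [pow_succ β n, MulAut.mul_apply]
      have e1 : β e = e * u := by rw [hu, mul_inv_cancel_left]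
      have e2 : (((β ^ n) u : E) : E ⧸ frattini E) = (u : E ⧸ frattini E) :=
        (QuotientGroup.eq.2 ((hpow β hβ n).2 u (hβ.1 e))).symm
      rw [e1, map_mul, QuotientGroup.mk_mul, ih, e2, mul_assoc, ← pow_succ]
  have h3 := hiter (orderOf β)
  rw [pow_orderOf_eq_one, MulAut.one_apply, left_eq_mul] at h3
  have h4 : (u : E ⧸ frattini E) ^ p = 1 := by
    rw [← QuotientGroup.mk_pow]; exact (QuotientGroup.eq_one_iff _).2 (PGroup.pow_mem_frattini hEp u)
  exact (QuotientGroup.eq_one_iff _).1 (orderOf_eq_one_iff.1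
    (Nat.eq_one_of_dvd_coprimes hc (orderOf_dvd_of_pow_eq_one h3) (orderOf_dvd_of_pow_eq_one h4)))

/-- A set kept by the normal closure and by `Aut(S)` is kept by `Aut(E)`. -/
theorem keep_of_closureB (hS : IsPGroup p S) {X : Subgroup S} (hX : ∀ σ ∈ d.Aut, ∀ q ∈ X, σ q ∈ X)
    (hB : d.closureB E ≤ keep E X) : d.A E ≤ keep E X := by
  haveI := d.finiteAut hE
  intro g hg
  set B := d.closureB E with hBdef
  have hPB : conjSub E ≤ B := fun α hα =>
    Subgroup.subset_closure ⟨1, one_mem _, α, hα, by rw [one_mul, inv_one, mul_one]⟩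
  have hBA : B ≤ d.A E := (Subgroup.closure_le _).2 (by
    rintro _ ⟨h, hh, α, hα, rfl⟩
    exact mul_mem (mul_mem hh (d.conj_le E hE hα)) (inv_mem hh))
  let P' := (conjSub E).map (MulAut.conj g).toMonoidHom
  have hP'B : P' ≤ B := by
    rintro _ ⟨α, hα, rfl⟩
    exact Subgroup.subset_closure ⟨g, hg, α, hα, rfl⟩
  have hPp := d.pgroup_conjSub hE hS
  have hcard : Nat.card P' = Nat.card (conjSub E) := Subgroup.card_map_of_injective (MulAut.conj g).injective
  -- both are Sylow subgroups of `B`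
  have hmax : ∀ Q : Subgroup B, IsPGroup p Q → Nat.card Q ≤ Nat.card (conjSub E) := by
    intro Q hQ
    obtain ⟨R, hR⟩ := hQ.exists_le_sylow
    obtain ⟨R₀, hR₀⟩ := ((hPp.of_equiv (Subgroup.subgroupOfEquivOfLe hPB).symm)).exists_le_sylow
    have heq : (R₀ : Subgroup B).map B.subtype = conjSub E := by
      refine d.sylow E hE _ (fun α hα => ⟨⟨α, hPB hα⟩, hR₀ hα, rfl⟩) ?_ (R₀.isPGroup'.map _)
      rintro _ ⟨α, -, rfl⟩
      exact hBA α.2
    have h3 := congrArg (fun K : Subgroup (MulAut E) => Nat.card K) heq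
    rw [Subgroup.card_map_of_injective B.subtype_injective] at h3
    calc Nat.card Q ≤ Nat.card R := Subgroup.card_le_of_le hR
      _ = Nat.card R₀ := R.card_eq_multiplicity.trans R₀.card_eq_multiplicity.symm
      _ = _ := h3
  obtain ⟨R, hR⟩ := (hPp.of_equiv (Subgroup.subgroupOfEquivOfLe hPB).symm).exists_le_sylow
  obtain ⟨R', hR'⟩ := ((hPp.map (MulAut.conj g).toMonoidHom).of_equiv
    (Subgroup.subgroupOfEquivOfLe hP'B).symm).exists_le_sylow
  have hReq : (conjSub E).subgroupOf B = R := Subgroup.eq_of_le_of_card_ge hR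
    ((hmax _ R.isPGroup').trans (Nat.card_congr (Subgroup.subgroupOfEquivOfLe hPB).toEquiv).ge)
  have hReq' : P'.subgroupOf B = R' := Subgroup.eq_of_le_of_card_ge hR'
    ((hmax _ R'.isPGroup').trans (((Nat.card_congr (Subgroup.subgroupOfEquivOfLe hP'B).toEquiv).trans hcard).ge))
  obtain ⟨b, hb⟩ := MulAction.exists_smul_eq B R R'
  have hn : ∀ α ∈ conjSub E, ((b : MulAut E)⁻¹ * g) * α * ((b : MulAut E)⁻¹ * g)⁻¹ ∈ conjSub E := by
    intro α hα
    have h1 : g * α * g⁻¹ ∈ P' := ⟨α, hα, rfl⟩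
    have h2 : (⟨_, hP'B h1⟩ : B) ∈ (R' : Subgroup B) := hReq' ▸ h1
    rw [← hb, Sylow.coe_subgroup_smul, Subgroup.mem_pointwise_smul_iff_inv_smul_mem, ← hReq] at h2
    have h3 : (b : MulAut E)⁻¹ * (g * α * g⁻¹) * (b : MulAut E) ∈ conjSub E := by
      simpa [Subgroup.mem_subgroupOf, MulAut.smul_def, MulAut.inv_def, mul_assoc] using h2
    convert h3 using 1
    group
  have hmem : (b : MulAut E)⁻¹ * g ∈ d.A E := mul_mem (inv_mem (hBA b.2)) hg
  obtain ⟨σ, hσ, hσe⟩ := d.extend E hE _ hmem hn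
  have hk : (b : MulAut E)⁻¹ * g ∈ keep E X := mem_keep_of_maps fun e he => hσe e ▸ hX σ hσ _ he
  have := mul_mem (hB b.2) hk
  rwa [mul_inv_cancel_left] at this

/-- A set kept by all conjugates of an outer element. -/
theorem keep_of_conjugates (hS : IsPGroup p S) {X : Subgroup S} (hX : ∀ σ ∈ d.Aut, ∀ q ∈ X, σ q ∈ X)
    {x : S} (hx : x ∉ E) (h : ∀ g ∈ d.A E, g * d.cj hE x * g⁻¹ ∈ keep E X) : d.A E ≤ keep E X := by
  refine d.keep_of_closureB hE hS hX ((Subgroup.closure_le _).2 ?_)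
  rintro _ ⟨g, hg, α, hα, rfl⟩
  obtain ⟨s, rfl⟩ := (d.mem_conjSub_iff hE).1 hα
  obtain ⟨i, hi⟩ := d.exists_pow hE hx s
  rw [← mul_inv_cancel_left (x ^ i) s, map_mul, map_pow, ← conj_mul]
  refine mul_mem ?_ ?_
  · rw [← conj_pow]
    exact pow_mem (h g hg) i
  · rw [d.conj_conj hE g ⟨_, hi⟩]
    refine mem_keep_of_maps fun e he => ?_
    rw [cj_apply]
    exact hX _ (d.conj_mem _) _ he

/-- Below an invariant series centralized by `S`, invariance under `Aut(S)` gives invariance. -/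
theorem keep_of_series (hS : IsPGroup p S) {T X : Subgroup S} (hXT : X ≤ T) (hTE : T ≤ E)
    (hX : ∀ σ ∈ d.Aut, ∀ q ∈ X, σ q ∈ X) (U : ℕ → Subgroup S) (n : ℕ) (h0 : U 0 = ⊥) (hn : U n = T)
    (hmono : ∀ i < n, U i ≤ U (i + 1)) (hinv : ∀ i ≤ n, d.A E ≤ keep E (U i))
    (hcen : ∀ s : S, ∀ i < n, ∀ u ∈ U (i + 1), u⁻¹ * (s * u * s⁻¹) ∈ U i) : d.A E ≤ keep E X := by
  haveI := d.finiteAut hE
  refine d.keep_of_closureB hE hS hX fun β hβ => ?_
  set B := d.closureB E with hBdef
  let T' := T.subgroupOf E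
  have hT' : ∀ α ∈ d.A E, T'.map α.toMonoidHom = T' := by
    intro α hα
    refine Subgroup.ext fun e => ⟨?_, fun he => ⟨α⁻¹ e, ?_, by simp⟩⟩
    · rintro ⟨f, hf, rfl⟩
      exact ((hn ▸ hinv n le_rfl) hα f).2 hf
    · exact ((hn ▸ hinv n le_rfl) (inv_mem hα) e).2 he
  have hBA : B ≤ d.A E := (Subgroup.closure_le _).2 (by
    rintro _ ⟨h, hh, α, hα, rfl⟩
    exact mul_mem (mul_mem hh (d.conj_le E hE hα)) (inv_mem hh))
  -- restriction to `T`
  let res : B →* MulAut T' :=
    { toFun := fun α => (MulEquiv.subgroupMap (α : MulAut E) T').trans (MulEquiv.subgroupCongr (hT' α (hBA α.2)))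
      map_one' := MulEquiv.ext fun t => Subtype.ext rfl
      map_mul' := fun a b => MulEquiv.ext fun t => Subtype.ext rfl }
  have hres : ∀ (α : B) (t : T'), ((res α t : T') : E) = (α : MulAut E) t := fun α t => rfl
  let U' : ℕ → Subgroup T' := fun i => (U i).comap (E.subtype.comp T'.subtype)
  have h0' : U' 0 = ⊥ := (Subgroup.eq_bot_iff_forall _).2 fun t ht => Subtype.ext (Subtype.ext (by
    have h : ((t : E) : S) ∈ U 0 := ht
    rw [h0, Subgroup.mem_bot] at h
    exact h))
  have hn' : U' n = ⊤ := (Subgroup.eq_top_iff' _).2 fun t =>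
    show ((t : E) : S) ∈ U n from hn.ge (Subgroup.mem_subgroupOf.1 t.2)
  let K := stab U' n h0' fun i hi => Subgroup.comap_mono (hmono i hi)
  have hBK : ∀ α : B, res α ∈ K := by
    rintro ⟨α, hα⟩
    induction hα using Subgroup.closure_induction with
    | mem y hy =>
      obtain ⟨g, hg, c, hc, rfl⟩ := hy
      obtain ⟨s, rfl⟩ := (d.mem_conjSub_iff hE).1 hc
      intro i hi t ht
      show (((t : E) : S))⁻¹ * (((g * d.cj hE s * g⁻¹) (t : E) : E) : S) ∈ U i
      set f := g⁻¹ (t : E) with hf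
      have hfU : (f : S) ∈ U (i + 1) := (hinv (i + 1) (by omega) (inv_mem hg) _).2 ht
      have h1 := hcen s i hi _ hfU
      rw [← d.cj_apply hE s f] at h1
      have h2 := (hinv i (by omega) hg (f⁻¹ * d.cj hE s f)).2 (by simpa using h1)
      rw [map_mul, map_inv, hf, MulAut.apply_inv_self] at h2
      simpa [hf] using h2
    | one => exact (map_one res).symm ▸ one_mem K
    | mul a b ha hb iha ihb =>
      have h := mul_mem iha ihb
      rwa [← map_mul] at h
    | inv a ha iha =>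
      have h := inv_mem iha
      rwa [← map_inv] at h
  have hKp : IsPGroup p K := FusionChain.isPGroup_of_stabilizes_chain
    ((hS.to_subgroup E).to_subgroup T') _ n U' h0' hn' fun α hα => hα
  have himg : IsPGroup p res.range := hKp.to_le (by rintro _ ⟨α, rfl⟩; exact hBK α)
  have hPB : conjSub E ≤ B := fun α hα =>
    Subgroup.subset_closure ⟨1, one_mem _, α, hα, by rw [one_mul, inv_one, mul_one]⟩
  -- the image is the image of a Sylow subgroup
  obtain ⟨R, hR⟩ := ((d.pgroup_conjSub hE hS).of_equiv (Subgroup.subgroupOfEquivOfLe hPB).symm).exists_le_sylow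
  have hReq : (R : Subgroup B).map B.subtype = conjSub E := by
    refine d.sylow E hE _ (fun α hα => ⟨⟨α, hPB hα⟩, hR hα, rfl⟩) ?_ (R.isPGroup'.map _)
    rintro _ ⟨α, -, rfl⟩
    exact hBA α.2
  have htop : (R : Subgroup B).map res.rangeRestrict = ⊤ := by
    let Q : Sylow p res.range := R.mapSurjective res.rangeRestrict_surjective
    exact top_le_iff.1 (Q.3 (show IsPGroup p (⊤ : Subgroup res.range) from himg.of_equiv Subgroup.topEquiv.symm)
      le_top).le
  obtain ⟨r, hr, hre⟩ := htop.ge (Subgroup.mem_top (⟨res ⟨β, hβ⟩, ⟨β, hβ⟩, rfl⟩ : res.range))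
  have hr' : (r : MulAut E) ∈ conjSub E := hReq.le ⟨r, hr, rfl⟩
  have hsame : ∀ e : E, (e : S) ∈ T → β e = (r : MulAut E) e := fun e he => by
    have h := congrArg (fun a : MulAut T' => a ⟨e, he⟩) (congrArg Subtype.val hre)
    exact (congrArg Subtype.val h).symm
  refine mem_keep_of_maps fun e he => ?_
  rw [hsame e (hXT he)]
  obtain ⟨s, hs⟩ := (d.mem_conjSub_iff hE).1 hr'
  rw [← hs, cj_apply]
  exact hX _ (d.conj_mem s) _ he

end Pre

end Cfsg.Agent.NormalEss
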