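import Cfsg.Agent.Lib.NormalEss.Quot

/-!
# Factors of the invariant subgroup of a pair of essential subgroups

* `Pre.Big d N` : a normal subgroup above `N` whose traces are invariant is everything;
* `Pre.Central d N` : every minimal invariant factor below `N` is central in the group;
* `Pre.sup_centralizer_eq_top` : then the centralizer of `N` supplements `N`.
-/

set_option autoImplicit false
set_option linter.unusedSectionVars false
set_option linter.style.haveILetI false
set_option maxHeartbeats 1000000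

namespace Cfsg.Agent.NormalEss

open scoped commutatorElement

universe u

variable {p : ℕ} [hp : Fact p.Prime] {S : Type u} [Group S] [Finite S]

/-- A normal subgroup is not contained in its commutators modulo a smaller one. -/
theorem not_le_commutator_sup (hS : IsPGroup p S) {M P : Subgroup S} [M.Normal] [P.Normal] (h : M < P) :
    ¬ P ≤ ⁅P, (⊤ : Subgroup S)⁆ ⊔ M := by
  intro hle
  set π := QuotientGroup.mk' M
  have hπ : Function.Surjective π := QuotientGroup.mk'_surjective M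
  haveI : (P.map π).Normal := Subgroup.Normal.map inferInstance π hπ
  have hne : P.map π ≠ ⊥ := by
    rw [Ne, Subgroup.map_eq_bot_iff, QuotientGroup.ker_mk']
    exact h.not_ge
  refine (PGroup.commutator_lt_of_ne_bot (hS.to_quotient M) hne).not_ge ?_
  have h2 := Subgroup.map_mono (f := π) hle
  rwa [Subgroup.map_sup, Subgroup.map_commutator, QuotientGroup.map_mk'_self, sup_bot_eq,
    Subgroup.map_top_of_surjective _ hπ] at h2

theorem conj_cenMod {Z P : Subgroup S} [Z.Normal] [hP : P.Normal] : (cenMod Z (P : Set S)).Normal := by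
  refine ⟨fun t ht s => mem_cenMod.2 fun x hx => ?_⟩
  have h := (inferInstance : Z.Normal).conj_mem _ (mem_cenMod.1 ht _ (hP.conj_mem x hx s⁻¹)) s
  convert h using 1
  simp only [commutatorElement_def]
  group

namespace Pre

variable (d : Pre p S)

/-- A normal subgroup above `N` with invariant traces is everything. -/
def Big (d : Pre p S) (N : Subgroup S) : Prop :=
  ∀ X : Subgroup S, X.Normal → N < X → (∀ E ∈ d.ess, d.A E ≤ NormalEss.keep E (X ⊓ E)) → X = ⊤

/-- Every minimal invariant factor is central. -/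
def Central (d : Pre p S) (N : Subgroup S) : Prop :=
  ∀ M P, Inv d M → Inv d P → M < P → P ≤ N → (∀ R, Inv d R → M ≤ R → R ≤ P → R = M ∨ R = P) →
    ∀ v ∈ P, ∀ s : S, ⁅v, s⁆ ∈ M

include d

theorem keep_sup {E X Y : Subgroup S} (hE : E ∈ d.ess) (hX : X ≤ E) (hY : Y ≤ E)
    (hkX : d.A E ≤ NormalEss.keep E X) (hkY : d.A E ≤ NormalEss.keep E Y) :
    d.A E ≤ NormalEss.keep E (X ⊔ Y) := fun α hα => by
  haveI := d.finiteAut hE
  refine mem_keep_of_maps fun e he => ?_
  let P : Subgroup S := (((X ⊔ Y).subgroupOf E).comap α.toMonoidHom).map E.subtype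
  have hle : X ⊔ Y ≤ P := sup_le
    (fun x hx => ⟨⟨x, hX hx⟩, Subgroup.mem_sup_left ((hkX hα ⟨x, hX hx⟩).2 hx), rfl⟩)
    (fun y hy => ⟨⟨y, hY hy⟩, Subgroup.mem_sup_right ((hkY hα ⟨y, hY hy⟩).2 hy), rfl⟩)
  obtain ⟨f, hf, hfe⟩ := hle he
  obtain rfl : f = e := Subtype.ext hfe
  exact hf

theorem keep_commutator₂ {E X Y : Subgroup S} (hE : E ∈ d.ess) (hX : X ≤ E) (hY : Y ≤ E)
    (hkX : d.A E ≤ NormalEss.keep E X) (hkY : d.A E ≤ NormalEss.keep E Y) :
    d.A E ≤ NormalEss.keep E ⁅X, Y⁆ := fun α hα => by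
  haveI := d.finiteAut hE
  refine mem_keep_of_maps fun e he => ?_
  let P : Subgroup S := ((⁅X, Y⁆.subgroupOf E).comap α.toMonoidHom).map E.subtype
  have hle : ⁅X, Y⁆ ≤ P := Subgroup.commutator_le.2 fun a ha b hb => by
    refine ⟨⁅(⟨a, hX ha⟩ : E), ⟨b, hY hb⟩⁆, ?_, by simp [commutatorElement_def]⟩
    show ((α ⁅(⟨a, hX ha⟩ : E), ⟨b, hY hb⟩⁆ : E) : S) ∈ ⁅X, Y⁆
    rw [map_commutatorElement, ← Subgroup.subtype_apply, map_commutatorElement]
    exact Subgroup.commutator_mem_commutator ((hkX hα _).2 ha) ((hkY hα _).2 hb)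
  obtain ⟨f, hf, hfe⟩ := hle he
  obtain rfl : f = e := Subtype.ext hfe
  exact hf

theorem inv_commutator {X Y : Subgroup S} (hX : Inv d X) (hY : Inv d Y) : Inv d ⁅X, Y⁆ where
  aut σ hσ q hq := by
    have h : (⁅X, Y⁆).map (σ : S ≃* S).toMonoidHom ≤ ⁅X, Y⁆ := by
      rw [Subgroup.map_commutator]
      exact Subgroup.commutator_mono (by rintro _ ⟨x, hx, rfl⟩; exact hX.aut σ hσ x hx)
        (by rintro _ ⟨x, hx, rfl⟩; exact hY.aut σ hσ x hx)
    exact h ⟨q, hq, rfl⟩
  le E hE := Subgroup.commutator_le.2 fun a ha b hb => by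
    rw [commutatorElement_def]
    exact mul_mem (mul_mem (mul_mem (hX.le E hE ha) (hY.le E hE hb)) (inv_mem (hX.le E hE ha)))
      (inv_mem (hY.le E hE hb))
  keep E hE := d.keep_commutator₂ hE (hX.le E hE) (hY.le E hE) (hX.keep E hE) (hY.keep E hE)

theorem inv_sup {X Y : Subgroup S} (hX : Inv d X) (hY : Inv d Y) : Inv d (X ⊔ Y) where
  aut σ hσ q hq := by
    have h : (X ⊔ Y).map (σ : S ≃* S).toMonoidHom ≤ X ⊔ Y := by
      rw [Subgroup.map_sup]
      exact sup_le_sup (by rintro _ ⟨x, hx, rfl⟩; exact hX.aut σ hσ x hx)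
        (by rintro _ ⟨x, hx, rfl⟩; exact hY.aut σ hσ x hx)
    exact h ⟨q, hq, rfl⟩
  le E hE := sup_le (hX.le E hE) (hY.le E hE)
  keep E hE := d.keep_sup hE (hX.le E hE) (hY.le E hE) (hX.keep E hE) (hY.keep E hE)

theorem inv_frat (hS : IsPGroup p S) {X : Subgroup S} (hX : Inv d X) : Inv d (frat X) where
  aut σ hσ q hq := by
    obtain ⟨e, he, rfl⟩ := hq
    let σX : X →* X :=
      MonoidHom.mk' (fun x => ⟨σ x, hX.aut σ hσ _ x.2⟩) fun a b => Subtype.ext (map_mul σ _ _)
    have hXn := d.inv_normal hX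
    have h : frat X ≤ (frat X).comap (σ : S ≃* S).toMonoidHom := by
      haveI := frat_normal hXn
      refine frat_le_of (p := p) (fun x hx y hy => ?_) (fun a ha b hb => ?_) fun a ha => ?_
      · show σ (x * y * x⁻¹) ∈ frat X
        rw [map_mul, map_mul, map_inv]
        exact (inferInstance : (frat X).Normal).conj_mem _ hy _
      · show σ ⁅a, b⁆ ∈ frat X
        rw [map_commutatorElement]
        exact comm_mem_frat hS (hX.aut σ hσ a ha) (hX.aut σ hσ b hb)
      · show σ (a ^ p) ∈ frat X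
        rw [map_pow]
        exact pow_mem_frat hS (hX.aut σ hσ a ha)
    exact h ⟨e, he, rfl⟩
  le E hE := (frat_le X).trans (hX.le E hE)
  keep E hE := d.keep_frat_of_le hS hE (hX.le E hE) (hX.keep E hE)

/-- A minimal invariant subgroup above another. -/
theorem exists_minimal_inv {M N : Subgroup S} (hM : Inv d M) (hN : Inv d N) (h : M < N) :
    ∃ P, Inv d P ∧ M < P ∧ P ≤ N ∧ ∀ R, Inv d R → M ≤ R → R ≤ P → R = M ∨ R = P := by
  classical
  obtain ⟨P, ⟨hP, hMP, hPN⟩, hmin⟩ := Set.Finite.exists_minimal (s := {P : Subgroup S | Inv d P ∧ M < P ∧ P ≤ N})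
    (Set.toFinite _) ⟨N, hN, h, le_rfl⟩
  refine ⟨P, hP, hMP, hPN, fun R hR hMR hRP => ?_⟩
  rcases eq_or_lt_of_le hMR with heq | hlt
  · exact Or.inl heq.symm
  · exact Or.inr (le_antisymm hRP (hmin ⟨hR, hlt, hRP.trans hPN⟩ hRP))

theorem comm_mem_of_minimal (hS : IsPGroup p S) {M P N : Subgroup S} (hM : Inv d M) (hP : Inv d P) (hN : Inv d N)
    (hMP : M < P) (hmin : ∀ R, Inv d R → M ≤ R → R ≤ P → R = M ∨ R = P) :
    ∀ v ∈ P, ∀ n ∈ N, ⁅v, n⁆ ∈ M := by
  haveI := d.inv_normal hM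
  haveI := d.inv_normal hP
  intro v hv n hn
  rcases hmin _ (d.inv_sup (d.inv_commutator hP hN) hM) le_sup_right
      (sup_le (Subgroup.commutator_le_left P N) hMP.le) with h | h
  · exact h.le (Subgroup.mem_sup_left (Subgroup.commutator_mem_commutator hv hn))
  · exact absurd (h.ge.trans (sup_le_sup_right (Subgroup.commutator_mono le_rfl le_top) M))
      (not_le_commutator_sup hS hMP)

theorem keep_cenMod_inf {M P E : Subgroup S} [M.Normal] (hE : E ∈ d.ess) (hM : d.A E ≤ NormalEss.keep E M)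
    (hPE : P ≤ E) (hP : d.A E ≤ NormalEss.keep E P) : d.A E ≤ NormalEss.keep E (cenMod M (P : Set S) ⊓ E) :=
  fun α hα => by
  haveI := d.finiteAut hE
  refine mem_keep_of_maps fun e he => Subgroup.mem_inf.2 ⟨mem_cenMod.2 fun x hx => ?_, (α e).2⟩
  obtain ⟨f, hf⟩ := α.surjective ⟨x, hPE hx⟩
  have h := d.comm_image_mem hE hM hα (g := f) (mem_cenMod.1 he.1 f ((hP hα f).1 (hf ▸ hx)))
  rwa [hf] at h

/-- The centralizer of a noncentral minimal factor below `N` is `N`. -/
theorem mem_of_noncentral (hS : IsPGroup p S) {N : Subgroup S} (hN : Inv d N) (hbig : Big d N) {M P : Subgroup S}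
    (hM : Inv d M) (hP : Inv d P) (hMP : M < P) (hmin : ∀ R, Inv d R → M ≤ R → R ≤ P → R = M ∨ R = P)
    (hne : ¬ ∀ v ∈ P, ∀ s : S, ⁅v, s⁆ ∈ M) : ∀ s : S, (∀ v ∈ P, ⁅v, s⁆ ∈ M) → s ∈ N := by
  haveI := d.inv_normal hM
  haveI := d.inv_normal hP
  haveI := d.inv_normal hN
  intro s hs
  by_contra hsN
  haveI := conj_cenMod (Z := M) (P := P)
  have hle : N ≤ cenMod M (P : Set S) := fun n hn =>
    mem_cenMod.2 fun v hv => comm_swap (d.comm_mem_of_minimal hS hM hP hN hMP hmin v hv n hn)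
  have htop := hbig (cenMod M (P : Set S)) inferInstance (SetLike.lt_iff_le_and_exists.2
    ⟨hle, s, mem_cenMod.2 fun v hv => comm_swap (hs v hv), hsN⟩)
    fun E hE => d.keep_cenMod_inf hE (hM.keep E hE) (hP.le E hE) (hP.keep E hE)
  exact hne fun v hv t => comm_swap (mem_cenMod.1 (htop.ge (Subgroup.mem_top t)) v hv)

theorem keep_centralizer_inf {P E : Subgroup S} (hE : E ∈ d.ess) (hPE : P ≤ E) (hP : d.A E ≤ NormalEss.keep E P) :
    d.A E ≤ NormalEss.keep E (Subgroup.centralizer (P : Set S) ⊓ E) := fun α hα => by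
  haveI := d.finiteAut hE
  refine mem_keep_of_maps fun e he => Subgroup.mem_inf.2 ⟨Subgroup.mem_centralizer_iff.2 fun x hx => ?_, (α e).2⟩
  obtain ⟨f, hf⟩ := α.surjective ⟨x, hPE hx⟩
  have h : Commute f e := Subtype.ext (Subgroup.mem_centralizer_iff.1 he.1 f ((hP hα f).1 (hf ▸ hx)))
  have h2 := (h.map α).eq
  rw [hf] at h2
  exact congrArg Subtype.val h2

/-- If all factors are central then the centralizer of `N` supplements it. -/
theorem sup_centralizer_eq_top {N : Subgroup S} (hN : Inv d N) (hfix : Fixed d) (hcen : Central d N)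
    (hbig : Big d N) (hnab : ∃ s t : S, ⁅s, t⁆ ∉ N) :
    Subgroup.centralizer (N : Set S) ⊔ N = ⊤ := by
  classical
  haveI := d.inv_normal hN
  obtain ⟨P, ⟨hP, hPN, hPC⟩, hmax⟩ := Set.Finite.exists_maximal
    (s := {P : Subgroup S | Inv d P ∧ P ≤ N ∧ Subgroup.centralizer (P : Set S) ⊔ N = ⊤}) (Set.toFinite _)
    ⟨⊥, d.inv_bot hfix, bot_le, by
      rw [eq_top_iff]
      exact le_trans (fun s _ => Subgroup.mem_centralizer_iff.2 fun h hh => by
        rw [SetLike.mem_coe, Subgroup.mem_bot] at hh; simp [hh]) le_sup_left⟩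
  rcases eq_or_lt_of_le hPN with rfl | hlt
  · exact hPC
  exfalso
  obtain ⟨Q, hQ, hPQ, hQN, hmin⟩ := d.exists_minimal_inv hP hN hlt
  haveI := d.inv_normal hP
  haveI := d.inv_normal hQ
  have hQS := hcen P Q hP hQ hPQ hQN hmin
  set C := Subgroup.centralizer (Q : Set S) ⊔ N with hC
  haveI : C.Normal := inferInstance
  have hcomm : ∀ a ∈ Subgroup.centralizer (P : Set S), ∀ b ∈ Subgroup.centralizer (P : Set S),
      ⁅a, b⁆ ∈ Subgroup.centralizer (Q : Set S) := by
    intro a ha b hb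
    refine Subgroup.mem_centralizer_iff.2 fun u hu => ?_
    have hfixP : ∀ {c : S}, c ∈ Subgroup.centralizer (P : Set S) → ∀ v ∈ P, Commute c v := fun hc v hv =>
      (Subgroup.mem_centralizer_iff.1 hc v hv).symm
    obtain ⟨α, hα⟩ : ∃ α, α = ⁅a, u⁆ := ⟨_, rfl⟩
    obtain ⟨β, hβ⟩ : ∃ β, β = ⁅b, u⁆ := ⟨_, rfl⟩
    have hαP : α ∈ P := hα ▸ comm_swap (hQS u hu a)
    have hβP : β ∈ P := hβ ▸ comm_swap (hQS u hu b)
    -- the displacements are central in `P`
    have hαc : Commute α β := by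
      have h1 : u⁻¹ * β * u ∈ P := by simpa using (inferInstance : P.Normal).conj_mem β hβP u⁻¹
      have h2 := (hfixP ha β hβP)
      have h3 := hfixP ha _ h1
      show α * β = β * α
      rw [hα, commutatorElement_def]
      calc a * u * a⁻¹ * u⁻¹ * β = a * u * (a⁻¹ * (u⁻¹ * β * u)) * u⁻¹ := by group
        _ = a * u * ((u⁻¹ * β * u) * a⁻¹) * u⁻¹ := by rw [h3.inv_left.eq]
        _ = (a * β) * u * a⁻¹ * u⁻¹ := by group
        _ = (β * a) * u * a⁻¹ * u⁻¹ := by rw [h2.eq]
        _ = _ := by group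
    have hau : a * u * a⁻¹ = α * u := by rw [hα, commutatorElement_def]; group
    have hbu : b * u * b⁻¹ = β * u := by rw [hβ, commutatorElement_def]; group
    have hab : a * b * u * (a * b)⁻¹ = β * α * u := by
      calc a * b * u * (a * b)⁻¹ = a * (b * u * b⁻¹) * a⁻¹ := by group
        _ = a * β * u * a⁻¹ := by rw [hbu]; group
        _ = β * (a * u * a⁻¹) := by rw [(hfixP ha β hβP).eq]; group
        _ = _ := by rw [hau]; group
    have hba : b * a * u * (b * a)⁻¹ = α * β * u := by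
      calc b * a * u * (b * a)⁻¹ = b * (a * u * a⁻¹) * b⁻¹ := by group
        _ = b * α * u * b⁻¹ := by rw [hau]; group
        _ = α * (b * u * b⁻¹) := by rw [(hfixP hb α hαP).eq]; group
        _ = _ := by rw [hbu]; group
    rw [hαc.eq] at hba
    have h4 : a * b * u * (a * b)⁻¹ = b * a * u * (b * a)⁻¹ := hab.trans hba.symm
    have h5 : ⁅a, b⁆ * (b * a * u * (b * a)⁻¹) * ⁅a, b⁆⁻¹ = a * b * u * (a * b)⁻¹ := by
      simp only [commutatorElement_def]; group
    have hu' : ∃ w, b * a * w * (b * a)⁻¹ = u ∧ a * b * w * (a * b)⁻¹ = u := by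
      refine ⟨(b * a)⁻¹ * u * (b * a), by group, ?_⟩
      have hw : (b * a)⁻¹ * u * (b * a) ∈ Q := by
        simpa using (inferInstance : Q.Normal).conj_mem u hu (b * a)⁻¹
      obtain ⟨α', hα'⟩ : ∃ α', α' = ⁅a, (b * a)⁻¹ * u * (b * a)⁆ := ⟨_, rfl⟩
      obtain ⟨β', hβ'⟩ : ∃ β', β' = ⁅b, (b * a)⁻¹ * u * (b * a)⁆ := ⟨_, rfl⟩
      generalize hwdef : (b * a)⁻¹ * u * (b * a) = w at hw hα' hβ'
      have h6 : u = b * a * w * (b * a)⁻¹ := by rw [← hwdef]; group
      rw [h6]
      have hαP' : α' ∈ P := hα' ▸ comm_swap (hQS w hw a)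
      have hβP' : β' ∈ P := hβ' ▸ comm_swap (hQS w hw b)
      have hc' : Commute α' β' := by
        have h1 : w⁻¹ * β' * w ∈ P := by simpa using (inferInstance : P.Normal).conj_mem β' hβP' w⁻¹
        show α' * β' = β' * α'
        rw [hα', commutatorElement_def]
        calc a * w * a⁻¹ * w⁻¹ * β' = a * w * (a⁻¹ * (w⁻¹ * β' * w)) * w⁻¹ := by group
          _ = a * w * ((w⁻¹ * β' * w) * a⁻¹) * w⁻¹ := by rw [(hfixP ha _ h1).inv_left.eq]
          _ = (a * β') * w * a⁻¹ * w⁻¹ := by group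
          _ = (β' * a) * w * a⁻¹ * w⁻¹ := by rw [(hfixP ha β' hβP').eq]
          _ = _ := by group
      calc a * b * w * (a * b)⁻¹ = a * (⁅b, w⁆ * w) * a⁻¹ := by simp only [commutatorElement_def]; group
        _ = (a * β') * w * a⁻¹ := by rw [hβ']; group
        _ = (β' * a) * w * a⁻¹ := by rw [(hfixP ha β' hβP').eq]
        _ = β' * (⁅a, w⁆ * w) := by simp only [commutatorElement_def]; group
        _ = β' * α' * w := by rw [hα']; group
        _ = α' * β' * w := by rw [hc'.eq]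
        _ = α' * (⁅b, w⁆ * w) := by rw [hβ']; group
        _ = (α' * b) * w * b⁻¹ := by simp only [commutatorElement_def]; group
        _ = (b * α') * w * b⁻¹ := by rw [(hfixP hb α' hαP').eq]
        _ = _ := by rw [hα']; simp only [commutatorElement_def]; group
    obtain ⟨w, hw1, hw2⟩ := hu'
    have h7 : ⁅a, b⁆ * u * ⁅a, b⁆⁻¹ = u := by
      conv_lhs => rw [← hw1]
      conv_rhs => rw [← hw2]
      simp only [commutatorElement_def]; group
    exact (mul_inv_eq_iff_eq_mul.1 h7).symm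
  obtain ⟨s, t, hst⟩ := hnab
  have hgenC : ∀ g : S, ∃ c ∈ Subgroup.centralizer (P : Set S), c⁻¹ * g ∈ N := fun g => by
    obtain ⟨c, hc, n, hn, h⟩ := Subgroup.mem_sup_of_normal_right.1 (hPC.ge (Subgroup.mem_top g))
    exact ⟨c, hc, by rw [← h, inv_mul_cancel_left]; exact hn⟩
  obtain ⟨a, ha, has⟩ := hgenC s
  obtain ⟨b, hb, hbt⟩ := hgenC t
  have habN : ⁅a, b⁆ ∉ N := fun h => hst ((QuotientGroup.eq_one_iff _).1 (by
    show QuotientGroup.mk' N ⁅s, t⁆ = 1
    rw [map_commutatorElement, show QuotientGroup.mk' N s = QuotientGroup.mk' N a from (QuotientGroup.eq.2 has).symm,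
      show QuotientGroup.mk' N t = QuotientGroup.mk' N b from (QuotientGroup.eq.2 hbt).symm, ← map_commutatorElement]
    exact (QuotientGroup.eq_one_iff _).2 h))
  have htop : C = ⊤ := hbig C inferInstance (SetLike.lt_iff_le_and_exists.2
    ⟨le_sup_right, _, Subgroup.mem_sup_left (hcomm a ha b hb), habN⟩) fun E hE => by
      have hCE : C ⊓ E = (Subgroup.centralizer (Q : Set S) ⊓ E) ⊔ N := by
        refine le_antisymm (fun g hg => ?_) (le_inf (sup_le (inf_le_left.trans le_sup_left) le_sup_right)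
          (sup_le inf_le_right (hN.le E hE)))
        obtain ⟨c, hc, n, hn, rfl⟩ := Subgroup.mem_sup_of_normal_right.1 hg.1
        exact mul_mem (Subgroup.mem_sup_left (Subgroup.mem_inf.2
          ⟨hc, (mul_mem_cancel_right (hN.le E hE hn)).1 hg.2⟩)) (Subgroup.mem_sup_right hn)
      rw [hCE]
      exact d.keep_sup hE inf_le_right (hN.le E hE) (d.keep_centralizer_inf hE (hQ.le E hE) (hQ.keep E hE))
        (hN.keep E hE)
  exact hPQ.not_ge (hmax ⟨hQ, hQN, htop⟩ hPQ.le)

end Pre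

end Cfsg.Agent.NormalEss
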