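import Cfsg.Agent.Lib.NormalEss.Stab
import Cfsg.Agent.Lib.PGroup.UniqueOrderP

/-!
# The intersection of two normal essential subgroups

`Pre.not_keep_inf` : for two distinct normal essential subgroups `E₁`, `E₂` of index `p` in a group of sectional
rank three, `Aut(E₂)` does not leave `E₁ ⊓ E₂` invariant.
-/

set_option autoImplicit false
set_option linter.unusedSectionVars false
set_option linter.style.haveILetI false
set_option maxHeartbeats 1600000

namespace Cfsg.Agent.NormalEss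

open scoped commutatorElement

universe u

variable {p : ℕ} [hp : Fact p.Prime] {S : Type u} [Group S] [Finite S]

namespace Pre

variable (d : Pre p S)
include d

theorem not_le_of_ne {E E' : Subgroup S} (hE : E ∈ d.ess) (hE' : E' ∈ d.ess) (hne : E' ≠ E) : ¬ E ≤ E' :=
  fun h => hne (Eq.symm (Subgroup.eq_of_le_of_card_ge h (le_of_eq (by
    have h1 := E.card_mul_index
    have h2 := E'.card_mul_index
    rw [d.index E hE] at h1
    rw [d.index E' hE'] at h2
    exact Nat.eq_of_mul_eq_mul_right hp.out.pos (h2.trans h1.symm)))))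

theorem card_inf_mul {E E' : Subgroup S} (hE : E ∈ d.ess) (hE' : E' ∈ d.ess) (hne : E' ≠ E) :
    Nat.card (E' ⊓ E : Subgroup S) * p = Nat.card E := by
  haveI := d.normal E' hE'
  have h := (E'.subgroupOf E).card_mul_index
  have hidx : (E'.subgroupOf E).index = p := by
    rcases (Nat.dvd_prime hp.out).1 (d.index E' hE' ▸ Subgroup.relIndex_dvd_index_of_normal E' E) with h1 | h1
    · exact absurd (Subgroup.relIndex_eq_one.1 h1) (d.not_le_of_ne hE hE' hne)
    · exact h1
  rw [hidx] at h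
  rw [← h]
  congr 1
  rw [← Subgroup.inf_subgroupOf_right]
  exact (Nat.card_congr (Subgroup.subgroupOfEquivOfLe inf_le_right).toEquiv).symm

theorem frat_le_inf (hS : IsPGroup p S) {E E' : Subgroup S} (hE : E ∈ d.ess) (hE' : E' ∈ d.ess) :
    frat E ≤ E' ⊓ E := by
  haveI := d.normal E hE
  haveI := d.normal E' hE'
  refine le_inf (frat_le_of (p := p) (fun e _ y hy => (d.normal E' hE').conj_mem y hy e) (fun a _ b _ => ?_) fun a _ => ?_)
    (frat_le E)
  · exact PGroup.commutator_le_of_index_eq (d.index E' hE')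
      (Subgroup.commutator_mem_commutator (Subgroup.mem_top a) (Subgroup.mem_top b))
  · exact (d.index E' hE') ▸ E'.pow_index_mem a

theorem keep_frat_of_le (hS : IsPGroup p S) {E X : Subgroup S} (hE : E ∈ d.ess) (hXE : X ≤ E)
    (hX : d.A E ≤ keep E X) : d.A E ≤ keep E (frat X) := fun α hα => by
  haveI := d.finiteAut hE
  refine mem_keep_of_maps fun e he => ?_
  haveI : X.Normal := d.normal_of_keep hE hXE hX
  haveI hfn := frat_normal (inferInstance : X.Normal)
  let Y : Subgroup S := (((frat X).subgroupOf E).comap α.toMonoidHom).map E.subtype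
  have hmem : ∀ {s : S} (hs : s ∈ E), ((α ⟨s, hs⟩ : E) : S) ∈ frat X → s ∈ Y := fun hs h => ⟨⟨_, hs⟩, h, rfl⟩
  have hle : frat X ≤ Y := frat_le_of (p := p) (fun x hx y hy => by
      obtain ⟨f, hf, rfl⟩ := hy
      refine hmem (mul_mem (mul_mem (hXE hx) f.2) (inv_mem (hXE hx))) ?_
      show ((α (⟨x, hXE hx⟩ * f * ⟨x, hXE hx⟩⁻¹) : E) : S) ∈ frat X
      rw [map_mul, map_mul, map_inv]
      exact hfn.conj_mem _ hf _)
    (fun a ha b hb => by
      refine hmem (s := ⁅a, b⁆) (by
        rw [commutatorElement_def]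
        exact mul_mem (mul_mem (mul_mem (hXE ha) (hXE hb)) (inv_mem (hXE ha))) (inv_mem (hXE hb))) ?_
      rw [show (⟨⁅a, b⁆, _⟩ : E) = ⁅(⟨a, hXE ha⟩ : E), (⟨b, hXE hb⟩ : E)⁆ from
        Subtype.ext (by simp [commutatorElement_def]), map_commutatorElement]
      simpa [commutatorElement_def] using comm_mem_frat hS ((hX hα ⟨a, hXE ha⟩).2 ha) ((hX hα ⟨b, hXE hb⟩).2 hb))
    fun a ha => by
      refine hmem (s := a ^ p) (pow_mem (hXE ha) p) ?_
      rw [show (⟨a ^ p, _⟩ : E) = (⟨a, hXE ha⟩ : E) ^ p from Subtype.ext (by simp), map_pow, Subgroup.coe_pow]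
      exact pow_mem_frat hS ((hX hα ⟨a, hXE ha⟩).2 ha)
  obtain ⟨f, hf, hfe⟩ := hle he
  obtain rfl : f = e := Subtype.ext hfe
  exact hf

/-- An outer element does not centralize the intersection modulo the Frattini subgroup. -/
theorem exists_comm_not_mem (hS : IsPGroup p S) {E E' : Subgroup S} (hE : E ∈ d.ess) (hE' : E' ∈ d.ess)
    (hk : d.A E ≤ keep E (E' ⊓ E)) {x : S} (hx : x ∈ E') (hxE : x ∉ E) :
    ∃ a ∈ E' ⊓ E, ⁅x, a⁆ ∉ frat E := by
  by_contra h
  push Not at h
  haveI := d.normal E hE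
  haveI := d.normal E' hE'
  refine d.false_of_series hE hS hxE (fun i => match i with | 0 => frat E | 1 => E' ⊓ E | _ => E) 2 rfl rfl
    ?_ ?_ ?_
  · intro i hi
    rcases i with _ | _ | i
    · exact d.frat_le_inf hS hE hE'
    · exact inf_le_right
    · omega
  · intro i hi
    rcases i with _ | _ | _ | i
    · exact d.keep_frat hE
    · exact hk
    · exact d.keep_self hE
    · omega
  · intro i hi u hu
    rcases i with _ | _ | i
    · exact h u hu
    · refine Subgroup.mem_inf.2 ⟨?_, ?_⟩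
      · rw [commutatorElement_def, mul_assoc, mul_assoc]
        exact mul_mem hx (by simpa [mul_assoc] using (d.normal E' hE').conj_mem _ (inv_mem hx) u)
      · rw [commutatorElement_def]
        exact mul_mem ((d.normal E hE).conj_mem _ hu x) (inv_mem hu)
    · omega

/-- The line between the Frattini subgroup and the intersection. -/
theorem exists_line_inf (hS : IsPGroup p S) (hsr : Cfsg.SectionalPRankLE p 3 S) {E E' : Subgroup S}
    (hE : E ∈ d.ess) (hE' : E' ∈ d.ess) (hne : E' ≠ E) (hk : d.A E ≤ keep E (E' ⊓ E)) {x : S} (hx : x ∈ E')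
    (hxE : x ∉ E) :
    ∃ L : Subgroup S, L.Normal ∧ frat E ≤ L ∧ L ≤ E' ⊓ E ∧ Nat.card L = p * Nat.card (frat E) ∧
      Nat.card (E' ⊓ E : Subgroup S) = p * Nat.card L ∧
      (∀ k ∈ E' ⊓ E, ∀ s : S, ⁅k, s⁆ ∈ L) ∧ (∀ l ∈ L, ∀ s : S, ⁅l, s⁆ ∈ frat E) ∧
      (∀ k ∈ E' ⊓ E, ⁅x, k⁆ ∈ frat E → k ∈ L) ∧ ¬ d.A E ≤ keep E L := by
  haveI := d.normal E hE
  haveI := d.normal E' hE'
  haveI := frat_normal (d.normal E hE)
  haveI hKn : (E' ⊓ E).Normal := Subgroup.normal_inf_normal _ _
  set K := E' ⊓ E with hK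
  obtain ⟨a, ha, hax⟩ := d.exists_comm_not_mem hS hE hE' hk hx hxE
  have hFK : frat E ≤ K := d.frat_le_inf hS hE hE'
  have hlt : frat E < K := lt_of_le_not_ge hFK fun h => hax (by
    rw [commutatorElement_def]
    exact mul_mem ((inferInstance : (frat E).Normal).conj_mem _ (h ha) x) (inv_mem (h ha)))
  have hcK := d.card_inf_mul hE hE' hne
  have hcF : Nat.card K ≤ p ^ 2 * Nat.card (frat E) := by
    refine Nat.le_of_mul_le_mul_right ?_ hp.out.pos
    rw [hcK]
    exact (card_le_frat hS hsr E).trans (le_of_eq (by ring))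
  obtain ⟨L, hLn, hFL, hLK, hcL, hLc⟩ := PGroup.exists_normal_between hS hlt
  haveI := hLn
  have hLc' : ∀ l ∈ L, ∀ s : S, ⁅l, s⁆ ∈ frat E := fun l hl s =>
    hLc (Subgroup.commutator_mem_commutator hl (Subgroup.mem_top s))
  have hLne : L < K := lt_of_le_not_ge hLK fun h => hax (comm_swap (hLc' a (h ha) x))
  have h2 := PGroup.mul_card_le_of_lt hS hLne
  have hcKL : Nat.card K = p * Nat.card L := le_antisymm (hcF.trans (le_of_eq (by rw [hcL]; ring))) h2
  have hKc : ∀ k ∈ K, ∀ s : S, ⁅k, s⁆ ∈ L := fun k hk' s =>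
    SectionalThree.commutator_mem_of_card_le hS hLK hcKL.le hk' s
  have hcenter : ∀ k ∈ K, ⁅x, k⁆ ∈ frat E → k ∈ L := by
    intro k hk' hkx
    by_contra hkL
    refine hax ?_
    have hgen : L ⊔ Subgroup.zpowers k = K := by
      refine Subgroup.eq_of_le_of_card_ge (sup_le hLK (Subgroup.zpowers_le.2 hk')) ?_
      rw [hcKL]
      exact PGroup.mul_card_le_of_lt hS (SetLike.lt_iff_le_and_exists.2
        ⟨le_sup_left, k, Subgroup.mem_sup_right (Subgroup.mem_zpowers k), hkL⟩)
    have hle : K ≤ cenMod (frat E) ({x} : Set S) := hgen ▸ sup_le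
      (fun l hl => mem_cenMod.2 fun y _ => hLc' l hl y)
      (Subgroup.zpowers_le.2 (mem_cenMod.2 fun y hy => (Set.mem_singleton_iff.1 hy).symm ▸ comm_swap hkx))
    exact comm_swap (mem_cenMod.1 (hle ha) x rfl)
  refine ⟨L, hLn, hFL, hLK, hcL, hcKL, hKc, hLc', hcenter, fun hkL => ?_⟩
  refine d.false_of_series hE hS hxE (fun i => match i with | 0 => frat E | 1 => L | 2 => K | _ => E) 3 rfl rfl
    ?_ ?_ ?_
  · intro i hi
    rcases i with _ | _ | _ | i
    · exact hFL
    · exact hLK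
    · exact inf_le_right
    · omega
  · intro i hi
    rcases i with _ | _ | _ | _ | i
    · exact d.keep_frat hE
    · exact hkL
    · exact hk
    · exact d.keep_self hE
    · omega
  · intro i hi u hu
    rcases i with _ | _ | _ | i
    · exact comm_swap (hLc' u hu x)
    · exact comm_swap (hKc u hu x)
    · refine Subgroup.mem_inf.2 ⟨?_, ?_⟩
      · rw [commutatorElement_def, mul_assoc, mul_assoc]
        exact mul_mem hx (by simpa [mul_assoc] using (d.normal E' hE').conj_mem _ (inv_mem hx) u)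
      · rw [commutatorElement_def]
        exact mul_mem ((d.normal E hE).conj_mem _ hu x) (inv_mem hu)
    · omega

/-- An invariant intersection is central in its essential subgroup modulo its Frattini subgroup. -/
theorem comm_mem_frat_inf (hS : IsPGroup p S) (hsr : Cfsg.SectionalPRankLE p 3 S) {E E' : Subgroup S}
    (hE : E ∈ d.ess) (hE' : E' ∈ d.ess) (hne : E' ≠ E) (hk : d.A E ≤ keep E (E' ⊓ E)) :
    ∀ k ∈ E' ⊓ E, ∀ e ∈ E, ⁅k, e⁆ ∈ frat (E' ⊓ E) := by
  haveI := d.normal E hE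
  haveI := d.normal E' hE'
  haveI hKn : (E' ⊓ E).Normal := Subgroup.normal_inf_normal _ _
  haveI := frat_normal hKn
  haveI := frat_normal (d.normal E hE)
  obtain ⟨x, hx, hxE⟩ := SetLike.not_le_iff_exists.1 (d.not_le_of_ne hE' hE hne.symm)
  obtain ⟨y, hy, hyE'⟩ := SetLike.not_le_iff_exists.1 (d.not_le_of_ne hE hE' hne)
  obtain ⟨L, hLn, hFL, hLK, hcL, hcKL, hKc, hLc, hcenter, -⟩ := d.exists_line_inf hS hsr hE hE' hne hk hx hxE
  set K := E' ⊓ E with hK
  have hKE : K ≤ E := inf_le_right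
  set C := K ⊓ cenMod (frat K) (E : Set S) with hC
  have hkf := d.keep_frat_of_le hS hE hKE hk
  have hCk : d.A E ≤ keep E C := fun α hα => by
    haveI := d.finiteAut hE
    refine mem_keep_of_maps fun e he => Subgroup.mem_inf.2 ⟨(hk hα e).2 he.1, mem_cenMod.2 fun f hf => ?_⟩
    obtain ⟨g, hg⟩ := α.surjective ⟨f, hf⟩
    have h := d.comm_image_mem hE hkf hα (g := g) (mem_cenMod.1 he.2 g g.2)
    rwa [hg] at h
  haveI : C.Normal := d.normal_of_keep hE (inf_le_left.trans hKE) hCk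
  have hfK : frat K ≤ frat E := frat_le_of (p := p) (fun k _ q hq => (inferInstance : (frat E).Normal).conj_mem q hq k)
    (fun a ha b hb => comm_mem_frat hS (hKE ha) (hKE hb)) fun a ha => pow_mem_frat hS (hKE ha)
  have hcard : Nat.card (frat E) ≤ p * Nat.card (frat K) := by
    refine Nat.le_of_mul_le_mul_left ?_ (pow_pos hp.out.pos 2)
    calc p ^ 2 * Nat.card (frat E) = Nat.card K := by rw [hcKL, hcL]; ring
      _ ≤ p ^ 3 * Nat.card (frat K) := card_le_frat hS hsr K
      _ = _ := by ring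
  have hFc : ∀ f ∈ frat E, ∀ s : S, ⁅f, s⁆ ∈ frat K := fun f hf s =>
    SectionalThree.commutator_mem_of_card_le hS hfK hcard hf s
  have hFC : frat E ≤ C := fun f hf =>
    Subgroup.mem_inf.2 ⟨d.frat_le_inf hS hE hE' hf, mem_cenMod.2 fun e _ => hFc f hf e⟩
  have hiffy : ∀ k ∈ K, ⁅k, y⁆ ∈ frat K → k ∈ C := by
    intro k hk' hky
    refine Subgroup.mem_inf.2 ⟨hk', mem_cenMod.2 fun e he => ?_⟩
    obtain ⟨i, hi⟩ := d.exists_pow hE' hyE' e
    have h1 : y ∈ cenMod (frat K) ({k} : Set S) :=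
      mem_cenMod.2 fun q hq => (Set.mem_singleton_iff.1 hq).symm ▸ comm_swap hky
    have h2 : (y ^ i)⁻¹ * e ∈ cenMod (frat K) ({k} : Set S) :=
      mem_cenMod.2 fun q hq => (Set.mem_singleton_iff.1 hq).symm ▸ comm_mem_frat hS
        (show (y ^ i)⁻¹ * e ∈ K from Subgroup.mem_inf.2 ⟨hi, mul_mem (inv_mem (pow_mem hy i)) he⟩) hk'
    have h3 := mul_mem (pow_mem h1 i) h2
    rw [mul_inv_cancel_left] at h3
    exact comm_swap (mem_cenMod.1 h3 k rfl)
  intro k hk' e he
  by_contra hke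
  -- `C` would be an invariant line
  have hCK : C < K := lt_of_le_not_ge inf_le_left fun h => hke (mem_cenMod.1 (h hk').2 e he)
  obtain ⟨k₀, hk₀, hax⟩ := d.exists_comm_not_mem hS hE hE' hk hx hxE
  have hCF : ¬ C ≤ frat E := by
    intro hle
    obtain ⟨l, hl, hlF⟩ := SetLike.exists_of_lt (show frat E < L from lt_of_le_not_ge hFL fun h => by
      have h1 := Subgroup.card_le_of_le h
      rw [hcL] at h1
      exact absurd h1 (not_le.2 (lt_mul_of_one_lt_left Nat.card_pos hp.out.one_lt)))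
    have hlc : ⁅l, y⁆ ∉ frat K := fun h => hlF (hle (hiffy l (hLK hl) h))
    have hlyE : ⁅l, y⁆ ∈ frat E := comm_mem_frat hS (hKE (hLK hl)) hy
    have hgen : frat K ⊔ Subgroup.zpowers ⁅l, y⁆ = frat E := by
      refine Subgroup.eq_of_le_of_card_ge (sup_le hfK (Subgroup.zpowers_le.2 hlyE)) (hcard.trans ?_)
      exact PGroup.mul_card_le_of_lt hS (SetLike.lt_iff_le_and_exists.2
        ⟨le_sup_left, _, Subgroup.mem_sup_right (Subgroup.mem_zpowers _), hlc⟩)
    obtain ⟨q, hq, w, hw, hqw⟩ := Subgroup.mem_sup_of_normal_left.1 (hgen.ge (comm_mem_frat hS (hKE hk₀) hy))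
    obtain ⟨i, rfl⟩ := Subgroup.mem_zpowers_iff.1 hw
    -- `k₀ * l ^ (-i)` centralizes `y`
    let π := QuotientGroup.mk' (frat K)
    have hmul : ∀ a ∈ K, ∀ b ∈ K, π ⁅a * b, y⁆ = π ⁅a, y⁆ * π ⁅b, y⁆ := by
      intro a ha b hb
      have hby : ⁅b, y⁆ ∈ frat E := comm_mem_frat hS (hKE hb) hy
      have hcom : ∀ s : S, Commute (π s) (π ⁅b, y⁆) := fun s => commutatorElement_eq_one_iff_commute.1 (by
        rw [← map_commutatorElement]
        exact (QuotientGroup.eq_one_iff _).2 (comm_swap (hFc _ hby s)))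
      rw [show ⁅a * b, y⁆ = a * ⁅b, y⁆ * a⁻¹ * ⁅a, y⁆ by simp only [commutatorElement_def]; group, map_mul,
        map_mul, map_mul, map_inv, (hcom a).eq, mul_inv_cancel_right, (hcom ⁅a, y⁆).eq]
    let χ : K →* S ⧸ frat K := MonoidHom.mk' (fun a => π ⁅(a : S), y⁆) fun a b => hmul a a.2 b b.2
    have hχ : π ⁅k₀ * l ^ (-i), y⁆ = 1 := by
      have h := map_mul χ ⟨k₀, hk₀⟩ (⟨l, hLK hl⟩ ^ (-i))
      rw [map_zpow] at h
      have h' : π ⁅k₀ * l ^ (-i), y⁆ = π ⁅k₀, y⁆ * π ⁅l, y⁆ ^ (-i) := by simpa [χ] using h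
      rw [h', ← hqw, map_mul, show π q = 1 from (QuotientGroup.eq_one_iff q).2 hq, one_mul, map_zpow, zpow_neg,
        mul_inv_cancel]
    have h5 := hle (hiffy _ (mul_mem hk₀ (zpow_mem (hLK hl) _)) ((QuotientGroup.eq_one_iff _).1 hχ))
    have h8 := mul_mem (hFL h5) (zpow_mem hl i)
    rw [zpow_neg, inv_mul_cancel_right] at h8
    exact hax (comm_swap (hLc _ h8 x))
  obtain ⟨c₀, hc₀, hc₀F⟩ := SetLike.not_le_iff_exists.1 hCF
  have hc1 := PGroup.mul_card_le_of_lt hS hCK
  have hc2 := PGroup.mul_card_le_of_lt hS (show frat E < C from SetLike.lt_iff_le_and_exists.2 ⟨hFC, c₀, hc₀, hc₀F⟩)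
  refine d.false_of_series hE hS hxE (fun i => match i with | 0 => frat E | 1 => C | 2 => K | _ => E) 3 rfl rfl
    ?_ ?_ ?_
  · intro i hi
    rcases i with _ | _ | _ | i
    · exact hFC
    · exact inf_le_left
    · exact hKE
    · omega
  · intro i hi
    rcases i with _ | _ | _ | _ | i
    · exact d.keep_frat hE
    · exact hCk
    · exact hk
    · exact d.keep_self hE
    · omega
  · intro i hi u hu
    rcases i with _ | _ | _ | i
    · refine comm_swap (SectionalThree.commutator_mem_of_card_le hS hFC ?_ hu x)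
      refine Nat.le_of_mul_le_mul_left (hc1.trans (le_of_eq ?_)) hp.out.pos
      rw [hcKL, hcL]
    · refine comm_swap (SectionalThree.commutator_mem_of_card_le hS inf_le_left ?_ hu x)
      calc Nat.card K = p * (p * Nat.card (frat E)) := by rw [hcKL, hcL]
        _ ≤ p * Nat.card C := Nat.mul_le_mul le_rfl hc2
    · refine Subgroup.mem_inf.2 ⟨?_, ?_⟩
      · rw [commutatorElement_def, mul_assoc, mul_assoc]
        exact mul_mem hx (by simpa [mul_assoc] using (d.normal E' hE').conj_mem _ (inv_mem hx) u)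
      · rw [commutatorElement_def]
        exact mul_mem ((d.normal E hE).conj_mem _ hu x) (inv_mem hu)
    · omega

end Pre

end Cfsg.Agent.NormalEss
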