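import Cfsg.Agent.Lib.NormalEss.OfFusion
import Cfsg.Agent.Lib.NormalEss.CaseOne
import Cfsg.Agent.Lib.NormalEss.CaseTwoA
import Cfsg.Agent.Lib.NormalEss.CaseTwoB
import Cfsg.Agent.Lib.SectionalThree.SympSylow

/-!
# Sectional rank three with all essential subgroups normal

`Datum.model` : the group has the presentation `RegularModel p`.
-/

set_option autoImplicit false
set_option linter.unusedSectionVars false
set_option linter.style.haveILetI false

namespace Cfsg.Agent.NormalEss

open scoped commutatorElement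

universe u

variable {p : ℕ} [hp : Fact p.Prime] {S : Type u} [Group S] [Finite S]

/-- `S` has the presentation `RegularModel p` or has order at most `p ^ 3`. -/
theorem Datum.model' (d : Datum p S) (hp2 : p ≠ 2) (hS : IsPGroup p S) (hsr : Cfsg.SectionalPRankLE p 3 S)
    [Nontrivial S] : Nonempty (SectionalThree.RegularModel p S) ∨ Nat.card S ≤ p ^ 3 := by
  by_cases hII : ∀ E ∈ d.ess, d.Moving E → ∀ E' ∈ d.ess, d.V E ≤ E'
  swap
  · push Not at hII
    obtain ⟨E₀, hE₀, hM, E₁, hE₁, hne⟩ := hII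
    exact d.case_one' hp2 hS hsr hE₀ hM hE₁ hne
  by_cases hB : ∀ E₀ ∈ d.ess, d.Moving E₀ → ∀ F ∈ d.ess, d.Moving F → ∀ E ∈ d.ess, ∀ α ∈ d.A E,
      imgOf α (d.V F) ≤ E₀
  · exact (d.case_two_b hp2 hS hsr hII hB).elim
  push Not at hB
  obtain ⟨E₀, hE₀, hM, F, hF, hFM, E, hE, α, hα, hout⟩ := hB
  exact Or.inl (d.case_two_a hp2 hS hsr hII hE₀ hM hF hFM hE hα hout)

/-- A group of order at most `p ^ 3` of sectional rank three is abelian. -/
theorem commute_of_card_le (hS : IsPGroup p S) (hsr2 : ¬ Cfsg.SectionalPRankLE p 2 S)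
    (hcard : Nat.card S ≤ p ^ 3) (x y : S) : Commute x y := by
  by_contra hxy
  refine hsr2 fun H N _ A hA hAe => ?_
  by_contra hgt
  push Not at hgt
  obtain ⟨k, hk⟩ := IsPGroup.iff_card.1 (((hS.to_subgroup H).to_quotient N).to_subgroup A)
  rw [hk] at hgt
  have h3 : p ^ 3 ≤ Nat.card A :=
    hk ▸ Nat.pow_le_pow_right hp.out.pos ((Nat.pow_lt_pow_iff_right hp.out.one_lt).1 hgt)
  have hcards := N.card_mul_index
  rw [Subgroup.index_eq_card] at hcards
  have hAle : Nat.card A ≤ Nat.card (H ⧸ N) := Subgroup.card_le_card_group A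
  have hHle : Nat.card H ≤ Nat.card S := Subgroup.card_le_card_group H
  have hNle : Nat.card (H ⧸ N) ≤ Nat.card H := by
    rw [← hcards]; exact Nat.le_mul_of_pos_left _ Nat.card_pos
  have hHtop : H = ⊤ := Subgroup.eq_top_of_le_card H (by omega)
  have hN1 : Nat.card N = 1 := by
    have h1 : Nat.card N * Nat.card (H ⧸ N) = 1 * Nat.card (H ⧸ N) := by rw [hcards, one_mul]; omega
    exact Nat.eq_of_mul_eq_mul_right Nat.card_pos h1
  have hAtop : A = ⊤ := Subgroup.eq_top_of_le_card A (by omega)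
  have hN : N = ⊥ := Subgroup.eq_bot_of_card_eq N hN1
  have h4 : ⁅(⟨x, hHtop ▸ Subgroup.mem_top x⟩ : H), ⟨y, hHtop ▸ Subgroup.mem_top y⟩⁆ ∈ N := by
    refine (QuotientGroup.eq_one_iff _).1 ?_
    show QuotientGroup.mk' N _ = 1
    rw [map_commutatorElement]
    exact commutatorElement_eq_one_iff_commute.2 (congrArg Subtype.val (hA.is_comm.comm
      ⟨_, hAtop ▸ Subgroup.mem_top _⟩ ⟨_, hAtop ▸ Subgroup.mem_top _⟩))
  rw [hN, Subgroup.mem_bot] at h4
  have h5 := congrArg Subtype.val h4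
  rw [← Subgroup.subtype_apply, map_commutatorElement] at h5
  exact hxy (commutatorElement_eq_one_iff_commute.1 h5)

theorem Datum.model (d : Datum p S) (hp2 : p ≠ 2) (hS : IsPGroup p S) (hsr : Cfsg.SectionalPRankLE p 3 S)
    (hsr2 : ¬ Cfsg.SectionalPRankLE p 2 S) : Nonempty (SectionalThree.RegularModel p S) := by
  haveI : Nontrivial S := by
    by_contra h
    haveI := not_nontrivial_iff_subsingleton.1 h
    exact hsr2 fun H N _ A _ _ => (Finite.card_le_one_iff_subsingleton.2 inferInstance).trans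
      (Nat.one_le_pow _ _ hp.out.pos)
  refine (d.model' hp2 hS hsr).resolve_right fun h3 => ?_
  have hab := commute_of_card_le hS hsr2 h3
  obtain ⟨E, hE, -⟩ := d.exists_moving hS
  obtain ⟨s, hs⟩ := d.exists_not_mem hE
  exact hs (d.centric E hE s fun e _ => hab s e)

end Cfsg.Agent.NormalEss
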