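import Cfsg.Agent.Lib.NormalEss.Orbit
import Cfsg.Agent.Lib.SectionalThree.RegularModel

/-!
# The series of the group `RegularModel p`

* `RegularModel.K` : `⟨b, c⟩`, `RegularModel.A` : `⟨a, b, c⟩`;
* `RegularModel.center_le`, `mem_K_of_comm`, `c_mem_of_normal`, `commutator_le_K`, `card_K`, `card_A`, `A_elem`.
-/

set_option autoImplicit false
set_option linter.unusedSectionVars false
set_option linter.style.haveILetI false
set_option maxHeartbeats 1000000

namespace Cfsg.Agent.NormalEss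

open scoped commutatorElement
open SectionalThree (RegularModel)

universe u

variable {p : ℕ} [hp : Fact p.Prime] {G : Type u} [Group G] [Finite G] (M : RegularModel p G)

namespace Model

/-- `⟨b, c⟩`. -/
def K : Subgroup G := Subgroup.zpowers M.b ⊔ Subgroup.zpowers M.c

/-- `⟨a, b, c⟩`. -/
def A : Subgroup G := Subgroup.zpowers M.a ⊔ K M

theorem coords (g : G) : ∃ i j k l : ZMod p, g = M.φ (i, j, k, l) := by
  obtain ⟨⟨i, j, k, l⟩, h⟩ := M.φ_bijective.2 g
  exact ⟨i, j, k, l, h.symm⟩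

theorem a_eq : M.a = M.φ (1, 0, 0, 0) := by
  simp [SectionalThree.RegularModel.Data.φ, SectionalThree.RegularModel.Data.nf, ZMod.val_one]

theorem b_eq : M.b = M.φ (0, 1, 0, 0) := by
  simp [SectionalThree.RegularModel.Data.φ, SectionalThree.RegularModel.Data.nf, ZMod.val_one]

theorem c_pow_eq (m : ZMod p) : M.c ^ m.val = M.φ (0, 0, m, 0) := by
  simp [SectionalThree.RegularModel.Data.φ, SectionalThree.RegularModel.Data.nf]

theorem x_eq : M.x = M.φ (0, 0, 0, 1) := by
  simp [SectionalThree.RegularModel.Data.φ, SectionalThree.RegularModel.Data.nf, ZMod.val_one]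

theorem c_ne : M.c ≠ 1 := fun h => by
  have h1 : M.φ (0, 0, (1 : ZMod p), 0) = M.φ (0, 0, 0, 0) := by
    simp [SectionalThree.RegularModel.Data.φ, SectionalThree.RegularModel.Data.nf, ZMod.val_one, h]
  have h2 := M.φ_bijective.1 h1
  simp at h2

theorem phi_mem_K {j k : ZMod p} : M.φ (0, j, k, 0) ∈ K M := by
  simp only [SectionalThree.RegularModel.Data.φ, SectionalThree.RegularModel.Data.nf, ZMod.val_zero, pow_zero,
    one_mul, mul_one]
  exact mul_mem (Subgroup.mem_sup_left (pow_mem (Subgroup.mem_zpowers _) _))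
    (Subgroup.mem_sup_right (pow_mem (Subgroup.mem_zpowers _) _))

theorem center_le {g : G} (hg : ∀ t, Commute g t) : g ∈ Subgroup.zpowers M.c := by
  obtain ⟨i, j, k, l, rfl⟩ := coords M g
  have hx := (hg M.x).eq
  rw [x_eq, M.φ_mul, M.φ_mul] at hx
  have ha := (hg M.a).eq
  rw [a_eq, M.φ_mul, M.φ_mul] at ha
  have hx' := M.φ_bijective.1 hx
  have ha' := M.φ_bijective.1 ha
  simp [SectionalThree.RegularModel.mulV, SectionalThree.RegularModel.tri, ZMod.val_one, add_comm (1 : ZMod p)] at hx' ha'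
  have hi : i = 0 := hx'.1
  subst hi
  have hj : j = 0 := by simpa using hx'.2
  subst hj
  have hl : l = 0 := ha'.1
  subst hl
  rw [← c_pow_eq]
  exact pow_mem (Subgroup.mem_zpowers _) _

theorem mem_K_of_comm {g : G} (hg : ∀ t, ⁅g, t⁆ ∈ Subgroup.zpowers M.c) : g ∈ K M := by
  obtain ⟨i, j, k, l, rfl⟩ := coords M g
  have hswap : ∀ t, ∃ m : ZMod p, M.φ (i, j, k, l) * t = M.φ (0, 0, m, 0) * (t * M.φ (i, j, k, l)) := by
    intro t
    obtain ⟨n, hn⟩ := mem_powers_iff_mem_zpowers.2 (hg t)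
    refine ⟨(n : ZMod p), ?_⟩
    rw [← c_pow_eq, ZMod.val_natCast, ← SectionalThree.RegularModel.Data.pow_mod M.c_pow,
      show M.c ^ n = _ from hn, commutatorElement_def]
    group
  obtain ⟨m, hx⟩ := hswap M.x
  obtain ⟨m', ha⟩ := hswap M.a
  rw [x_eq, M.φ_mul, M.φ_mul, M.φ_mul] at hx
  rw [a_eq, M.φ_mul, M.φ_mul, M.φ_mul] at ha
  have hx' := M.φ_bijective.1 hx
  have ha' := M.φ_bijective.1 ha
  simp [SectionalThree.RegularModel.mulV, SectionalThree.RegularModel.tri, ZMod.val_one, add_comm (1 : ZMod p)] at hx' ha'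
  have hi : i = 0 := hx'.1
  subst hi
  have hl : l = 0 := ha'.1
  subst hl
  exact phi_mem_K M

theorem c_mem_of_normal (hG : IsPGroup p G) {X : Subgroup G} [X.Normal] (hX : X ≠ ⊥) : M.c ∈ X := by
  obtain ⟨Z, hZn, hZX, hZc, hZ⟩ := PGroup.exists_normal_card_eq_prime hG hX
  refine hZX ((Subgroup.eq_of_le_of_card_ge (fun z hz => center_le M fun t => ?_) ?_).ge (Subgroup.mem_zpowers M.c))
  · exact (show Commute t z from Subgroup.mem_center_iff.1 (hZc hz) t).symm
  · rw [hZ, card_zpowers_eq M.c_pow (c_ne M)]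

theorem zpowers_c_normal : (Subgroup.zpowers M.c).Normal := ⟨fun q hq g => by
  obtain ⟨i, rfl⟩ := Subgroup.mem_zpowers_iff.1 hq
  have hgc : Commute g M.c := by
    obtain ⟨i', j, k, l, rfl⟩ := coords M g
    simp only [SectionalThree.RegularModel.Data.φ, SectionalThree.RegularModel.Data.nf]
    exact (((M.ac.pow_left _).mul_left (M.bc.pow_left _)).mul_left ((Commute.refl M.c).pow_left _)).mul_left
      ((show Commute M.x M.c from mul_inv_eq_iff_eq_mul.1 M.xc).pow_left _)
  rw [(hgc.zpow_right i).eq, mul_inv_cancel_right]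
  exact zpow_mem (Subgroup.mem_zpowers _) i⟩

theorem c_comm (g : G) : Commute g M.c := by
  obtain ⟨i, j, k, l, rfl⟩ := coords M g
  simp only [SectionalThree.RegularModel.Data.φ, SectionalThree.RegularModel.Data.nf]
  exact (((M.ac.pow_left _).mul_left (M.bc.pow_left _)).mul_left ((Commute.refl M.c).pow_left _)).mul_left
    ((show Commute M.x M.c from mul_inv_eq_iff_eq_mul.1 M.xc).pow_left _)

theorem K_le_cenMod : haveI := zpowers_c_normal M; K M ≤ cenMod (Subgroup.zpowers M.c) (Set.univ : Set G) := by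
  haveI := zpowers_c_normal M
  refine sup_le (Subgroup.zpowers_le.2 (mem_cenMod.2 fun t _ => ?_)) (Subgroup.zpowers_le.2 (mem_cenMod.2 fun t _ => ?_))
  · obtain ⟨i, j, k, l, rfl⟩ := coords M t
    have h : M.b * M.φ (i, j, k, l) = M.c ^ (-l).val * (M.φ (i, j, k, l) * M.b) := by
      rw [c_pow_eq, b_eq, M.φ_mul, M.φ_mul, M.φ_mul]
      congr 1
      simp [SectionalThree.RegularModel.mulV, SectionalThree.RegularModel.tri, ZMod.val_one]
      exact add_comm _ _
    rw [commutatorElement_def, h]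
    convert pow_mem (Subgroup.mem_zpowers M.c) (-l).val using 1
    group
  · rw [commutatorElement_eq_one_iff_commute.2 (c_comm M t).symm]
    exact one_mem _

theorem comm_K_mem {q : G} (hq : q ∈ K M) (g : G) : ⁅q, g⁆ ∈ Subgroup.zpowers M.c := by
  haveI := zpowers_c_normal M
  exact mem_cenMod.1 (K_le_cenMod M hq) g (Set.mem_univ g)

theorem c_mem_K : M.c ∈ K M := Subgroup.mem_sup_right (Subgroup.mem_zpowers _)

theorem b_mem_K : M.b ∈ K M := Subgroup.mem_sup_left (Subgroup.mem_zpowers _)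

theorem K_normal : (K M).Normal := by
  refine ⟨fun q hq g => ?_⟩
  have h := mul_mem (Subgroup.zpowers_le.2 (c_mem_K M) (comm_swap (comm_K_mem M hq g))) hq
  convert h using 1
  simp only [commutatorElement_def]
  group

theorem comm_xa : ⁅M.x, M.a⁆ = M.b := by
  rw [commutatorElement_def, M.xa, M.ab.eq, mul_inv_cancel_right]

theorem comm_xb : ⁅M.x, M.b⁆ = M.c := by
  rw [commutatorElement_def, M.xb, M.bc.eq, mul_inv_cancel_right]

theorem commutator_le_K (u v : G) : ⁅u, v⁆ ∈ K M := by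
  haveI := K_normal M
  refine commute_of_gens M.gen ?_ u v
  have hK : ∀ q ∈ K M, ∀ g : G, ⁅q, g⁆ ∈ K M ∧ ⁅g, q⁆ ∈ K M := fun q hq g =>
    ⟨Subgroup.zpowers_le.2 (c_mem_K M) (comm_K_mem M hq g),
      comm_swap (Subgroup.zpowers_le.2 (c_mem_K M) (comm_K_mem M hq g))⟩
  have hxa : ⁅M.x, M.a⁆ ∈ K M := (comm_xa M).symm ▸ b_mem_K M
  intro y hy z hz
  simp only [Set.mem_insert_iff, Set.mem_singleton_iff] at hy hz
  rcases hy with h | h | h | h <;> rcases hz with h' | h' | h' | h' <;> rw [h, h']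
  all_goals first
    | (rw [commutatorElement_self]; exact one_mem _)
    | exact hxa
    | exact comm_swap hxa
    | exact (hK _ (b_mem_K M) _).1
    | exact (hK _ (b_mem_K M) _).2
    | exact (hK _ (c_mem_K M) _).1
    | exact (hK _ (c_mem_K M) _).2

theorem coe_K : (K M : Set G) = Set.range fun t : ZMod p × ZMod p => M.φ (0, t.1, t.2, 0) := by
  refine Set.Subset.antisymm (fun g hg => ?_) (by rintro _ ⟨t, rfl⟩; exact phi_mem_K M)
  obtain ⟨i, j, k, l, rfl⟩ := coords M g
  obtain ⟨u, hu, w, hw, h⟩ := (Subgroup.mem_sup_of_normal_right (ht := zpowers_c_normal M)).1 hg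
  obtain ⟨m, rfl⟩ := mem_powers_iff_mem_zpowers.2 hu
  obtain ⟨n, rfl⟩ := mem_powers_iff_mem_zpowers.2 hw
  refine ⟨((m : ZMod p), (n : ZMod p)), ?_⟩
  rw [← h]
  show M.φ (0, (m : ZMod p), (n : ZMod p), 0) = _
  rw [← Nat.cast_zero, M.φ_natCast]
  simp [SectionalThree.RegularModel.Data.nf]

theorem card_K : Nat.card (K M) = p ^ 2 := by
  rw [← SetLike.coe_sort_coe, coe_K, Nat.card_range_of_injective fun s t h => by
    have h2 := M.φ_bijective.1 h
    simpa [Prod.ext_iff] using h2]
  simp only [Nat.card_prod, Nat.card_zmod, pow_two]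

theorem a_not_mem_K : M.a ∉ K M := fun h => by
  obtain ⟨t, ht⟩ := (coe_K M).le h
  rw [a_eq] at ht
  have h2 := M.φ_bijective.1 ht
  simp at h2

theorem A_comm : ∀ u ∈ A M, ∀ v ∈ A M, Commute u v := by
  have hcl : A M = Subgroup.closure {M.a, M.b, M.c} := by
    refine le_antisymm (sup_le (Subgroup.zpowers_le.2 (Subgroup.subset_closure (by simp))) (sup_le
      (Subgroup.zpowers_le.2 (Subgroup.subset_closure (by simp))) (Subgroup.zpowers_le.2 (Subgroup.subset_closure (by simp)))))
      ((Subgroup.closure_le _).2 ?_)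
    rintro y (rfl | rfl | rfl)
    · exact Subgroup.mem_sup_left (Subgroup.mem_zpowers _)
    · exact Subgroup.mem_sup_right (b_mem_K M)
    · exact Subgroup.mem_sup_right (c_mem_K M)
  intro u hu v hv
  rw [hcl] at hu hv
  have hgen : ∀ y ∈ ({M.a, M.b, M.c} : Set G), ∀ z ∈ ({M.a, M.b, M.c} : Set G), Commute y z := by
    rintro y (rfl | rfl | rfl) z (rfl | rfl | rfl)
    exacts [Commute.refl _, M.ab, M.ac, M.ab.symm, Commute.refl _, M.bc, M.ac.symm, M.bc.symm, Commute.refl _]
  induction hu using Subgroup.closure_induction with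
  | mem y hy =>
    induction hv using Subgroup.closure_induction with
    | mem w hw => exact hgen y hy w hw
    | one => exact Commute.one_right _
    | mul w w' _ _ h1 h2 => exact h1.mul_right h2
    | inv w _ h1 => exact h1.inv_right
  | one => exact Commute.one_left _
  | mul y y' _ _ h1 h2 => exact h1.mul_left h2
  | inv y _ h1 => exact h1.inv_left

theorem A_pow : ∀ u ∈ A M, u ^ p = 1 := by
  haveI := K_normal M
  intro u hu
  obtain ⟨v, hv, w, hw, rfl⟩ := Subgroup.mem_sup_of_normal_right.1 hu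
  obtain ⟨q, hq, r, hr, rfl⟩ := (Subgroup.mem_sup_of_normal_right (ht := zpowers_c_normal M)).1 hw
  have hvA : v ∈ A M := Subgroup.mem_sup_left hv
  rw [(A_comm M v hvA _ (Subgroup.mem_sup_right hw)).mul_pow, (A_comm M q (Subgroup.mem_sup_right
    (Subgroup.mem_sup_left hq)) r (Subgroup.mem_sup_right (Subgroup.mem_sup_right hr))).mul_pow,
    (zpowers_elem M.a_pow).2 v hv, (zpowers_elem M.b_pow).2 q hq, (zpowers_elem M.c_pow).2 r hr]
  simp

theorem card_A : p ^ 3 ≤ Nat.card (A M) := by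
  have hG : IsPGroup p G := IsPGroup.of_card (n := 4) M.card
  have h := PGroup.mul_card_le_of_lt hG (show K M < A M from SetLike.lt_iff_le_and_exists.2
    ⟨le_sup_right, M.a, Subgroup.mem_sup_left (Subgroup.mem_zpowers _), a_not_mem_K M⟩)
  rw [card_K] at h
  exact le_trans (le_of_eq (by ring)) h

end Model

end Cfsg.Agent.NormalEss
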