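import Cfsg.Agent.Lib.NormalEss.Datum
import Cfsg.Agent.Lib.SectionalThree.Commutator

/-!
# Essential subgroups moving the centre

* `omegaZ p S` : the elements of order dividing `p` of the centre;
* `Datum.Moving` : `Aut(E)` moves `omegaZ p S`; `Datum.V` : the subgroup generated by the images;
* `Datum.exists_moving`, `Datum.mem_of_commute_V`, `Datum.V_transport`.
-/

set_option autoImplicit false
set_option linter.unusedSectionVars false
set_option linter.style.haveILetI false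
set_option maxHeartbeats 1000000

namespace Cfsg.Agent.NormalEss

open scoped commutatorElement

universe u

variable {p : ℕ} [hp : Fact p.Prime] {S : Type u} [Group S]

/-- The elements of order dividing `p` of the centre. -/
def omegaZ (p : ℕ) (S : Type u) [Group S] : Subgroup S where
  carrier := {z | z ∈ Subgroup.center S ∧ z ^ p = 1}
  one_mem' := ⟨one_mem _, one_pow p⟩
  mul_mem' := fun {a b} ha hb => ⟨mul_mem ha.1 hb.1, by
    rw [(show Commute a b from (Subgroup.mem_center_iff.1 hb.1 a)).mul_pow, ha.2, hb.2, one_mul]⟩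
  inv_mem' := fun {a} ha => ⟨inv_mem ha.1, by rw [inv_pow, ha.2, inv_one]⟩

theorem commute_omegaZ {z : S} (hz : z ∈ omegaZ p S) (s : S) : Commute s z := Subgroup.mem_center_iff.1 hz.1 s

/-- An elementary abelian subgroup has order at most `p ^ 3`. -/
theorem card_elem_le (hsr : Cfsg.SectionalPRankLE p 3 S) {T : Subgroup S}
    (hc : ∀ a ∈ T, ∀ b ∈ T, Commute a b) (he : ∀ a ∈ T, a ^ p = 1) : Nat.card T ≤ p ^ 3 := by
  have h := RankThreeEss.card_range_le hsr T.subtype (fun a b => (hc a a.2 b b.2).eq) (fun a => he a a.2)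
  rwa [Subgroup.range_subtype] at h

/-- An element of order `p` commuting with an elementary abelian subgroup extends it. -/
theorem mul_card_le_of_commute [Finite S] {T : Subgroup S}
    (hc : ∀ a ∈ T, ∀ b ∈ T, Commute a b) (he : ∀ a ∈ T, a ^ p = 1) {t : S} (ht : t ∉ T) (htp : t ^ p = 1)
    (htc : ∀ a ∈ T, Commute t a) :
    p * Nat.card T ≤ Nat.card (T ⊔ Subgroup.zpowers t : Subgroup S) ∧
      (∀ a ∈ T ⊔ Subgroup.zpowers t, ∀ b ∈ T ⊔ Subgroup.zpowers t, Commute a b) ∧
      ∀ a ∈ T ⊔ Subgroup.zpowers t, a ^ p = 1 := by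
  set U := T ⊔ Subgroup.zpowers t
  have hU : U = Subgroup.closure ((T : Set S) ∪ {t}) := by
    rw [Subgroup.closure_union, Subgroup.closure_eq, ← Subgroup.zpowers_eq_closure]
  have hcom : ∀ a ∈ U, ∀ b ∈ U, Commute a b := by
    have hgen : ∀ a ∈ ((T : Set S) ∪ {t}), ∀ b ∈ ((T : Set S) ∪ {t}), Commute a b := by
      rintro a (ha | ha) b (hb | hb)
      · exact hc a ha b hb
      · exact hb ▸ (htc a ha).symm
      · exact ha ▸ htc b hb
      · exact ha ▸ hb ▸ Commute.refl _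
    intro a ha b hb
    rw [hU] at ha hb
    induction ha using Subgroup.closure_induction with
    | mem y hy =>
      induction hb using Subgroup.closure_induction with
      | mem w hw => exact hgen y hy w hw
      | one => exact Commute.one_right _
      | mul w w' _ _ h1 h2 => exact h1.mul_right h2
      | inv w _ h1 => exact h1.inv_right
    | one => exact Commute.one_left _
    | mul y y' _ _ h1 h2 => exact h1.mul_left h2
    | inv y _ h1 => exact h1.inv_left
  have hexp : ∀ a ∈ U, a ^ p = 1 := by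
    intro a ha
    have ha' := ha
    rw [hU] at ha
    induction ha using Subgroup.closure_induction with
    | mem y hy =>
      rcases hy with hy | hy
      · exact he y hy
      · exact hy ▸ htp
    | one => exact one_pow p
    | mul y y' hy1 hy2 h1 h2 =>
      rw [(hcom y (hU ▸ hy1) y' (hU ▸ hy2)).mul_pow, h1 (hU ▸ hy1), h2 (hU ▸ hy2), one_mul]
    | inv y hy1 h1 => rw [inv_pow, h1 (hU ▸ hy1), inv_one]
  refine ⟨?_, hcom, hexp⟩
  have hP : IsPGroup p U := fun a => ⟨1, Subtype.ext (show (a : S) ^ p ^ 1 = 1 by rw [pow_one]; exact hexp a a.2)⟩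
  have hlt : T.subgroupOf U < ⊤ := lt_top_iff_ne_top.2 fun h =>
    ht (Subgroup.subgroupOf_eq_top.1 h (Subgroup.mem_sup_right (Subgroup.mem_zpowers t)))
  have h := PGroup.mul_card_le_of_lt hP hlt
  rwa [Subgroup.card_top, Nat.card_congr (Subgroup.subgroupOfEquivOfLe (le_sup_left : T ≤ U)).toEquiv] at h

/-- An element of order `p` commuting with an elementary abelian subgroup of order `p ^ 3` lies in it. -/
theorem mem_of_commute_cube [Finite S] (hsr : Cfsg.SectionalPRankLE p 3 S) {T : Subgroup S}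
    (hc : ∀ a ∈ T, ∀ b ∈ T, Commute a b) (he : ∀ a ∈ T, a ^ p = 1) (hT : p ^ 3 ≤ Nat.card T) {t : S}
    (htp : t ^ p = 1) (htc : ∀ a ∈ T, Commute t a) : t ∈ T := by
  by_contra ht
  obtain ⟨h1, h2, h3⟩ := mul_card_le_of_commute hc he ht htp htc
  have h4 := card_elem_le hsr h2 h3
  have h5 : p ^ 4 ≤ p ^ 3 := by
    rw [pow_succ' p 3]
    exact ((Nat.mul_le_mul le_rfl hT).trans h1).trans h4
  exact absurd ((Nat.pow_le_pow_iff_right hp.out.one_lt).1 h5) (by norm_num)

namespace Pre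

variable [Finite S] (d : Pre p S)

include d

theorem aut_omegaZ : ∀ σ ∈ d.Aut, ∀ z ∈ omegaZ p S, σ z ∈ omegaZ p S := by
  rintro σ - z ⟨hz, hzp⟩
  exact ⟨Subgroup.mem_comap.1 ((Subgroup.characteristic_iff_comap_eq.1 inferInstance σ).ge hz),
    by rw [← map_pow, hzp, map_one]⟩

theorem normal_of_aut {X : Subgroup S} (hX : ∀ σ ∈ d.Aut, ∀ q ∈ X, σ q ∈ X) : X.Normal :=
  ⟨fun q hq s => hX _ (d.conj_mem s) q hq⟩

variable {E : Subgroup S} (hE : E ∈ d.ess)
include hE

theorem omegaZ_le : omegaZ p S ≤ E := fun z hz =>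
  d.centric E hE z fun e _ => (commute_omegaZ hz e).symm

theorem keep_bot : d.A E ≤ keep E ⊥ := fun α _ => mem_keep_of_maps fun e he => by
  rw [Subgroup.mem_bot, OneMemClass.coe_eq_one] at he
  rw [he, map_one]
  exact one_mem _

/-- Conjugates of an outer element and of a series invariant under `Aut(E)`. -/
theorem false_of_invariant_chain (hS : IsPGroup p S) {x : S} (hx : x ∉ E) (U : ℕ → Subgroup S) (n : ℕ)
    (h0 : U 0 = ⊥) (hn : U n = E) (hmono : ∀ i < n, U i ≤ U (i + 1))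
    (hinv : ∀ i ≤ n, d.A E ≤ keep E (U i))
    (hdisp : ∀ i < n, ∀ u ∈ U (i + 1), u⁻¹ * (x * u * x⁻¹) ∈ U i) : False := by
  obtain ⟨g, hg, hout⟩ := d.exists_conj_outside hE hx
  refine d.false_of_chain hE hS hx hg hout (fun i => (U i).subgroupOf E) n ?_ ?_
    (fun i hi => Subgroup.comap_mono (hmono i hi)) ?_ ?_
  · rw [h0, Subgroup.bot_subgroupOf]
  · rw [hn, Subgroup.subgroupOf_self]
  · intro i hi e he
    simpa [Subgroup.mem_subgroupOf] using hdisp i hi _ he
  · intro i hi e he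
    set f := g⁻¹ e with hf
    have h1 := hdisp i hi _ ((hinv (i + 1) (by omega) (inv_mem hg) e).2 he)
    have h2 := (hinv i (by omega) hg (f⁻¹ * d.cj hE x f)).2 (by
      rw [Subgroup.coe_mul, Subgroup.coe_inv, cj_apply]; exact h1)
    rw [map_mul, map_inv, hf, MulAut.apply_inv_self] at h2
    simpa [Subgroup.mem_subgroupOf, hf] using h2

theorem keep_of_fix {X : Subgroup S} {T : Subgroup S} (hT : d.A E ≤ keep E T) (hXT : X ≤ T) {x : S}
    (hfix : ∀ t ∈ T, Commute x t) (g : MulAut E) (hg : g ∈ d.A E) : g * d.cj hE x * g⁻¹ ∈ keep E X := by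
  refine mem_keep_of_maps fun e he => ?_
  set f := g⁻¹ e with hf
  have hfT : (f : S) ∈ T := (hT (inv_mem hg) e).2 (hXT he)
  have h1 : d.cj hE x f = f := Subtype.ext (by rw [cj_apply, (hfix _ hfT).eq, mul_inv_cancel_right])
  rw [MulAut.mul_apply, MulAut.mul_apply, ← hf, h1, hf, MulAut.apply_inv_self]
  exact he

end Pre

namespace Datum

variable [Finite S] (d : Datum p S)

/-- `Aut(E)` moves the elements of order `p` of the centre. -/
def Moving (E : Subgroup S) : Prop := ¬ d.A E ≤ keep E (omegaZ p S)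

/-- The subgroup generated by the images of `omegaZ p S`. -/
def V (E : Subgroup S) : Subgroup S :=
  Subgroup.closure {s | ∃ α ∈ d.A E, ∃ e : E, (e : S) ∈ omegaZ p S ∧ ((α e : E) : S) = s}

include d

variable {E : Subgroup S} (hE : E ∈ d.ess)
include hE

/-- Invariant subgroups of the centre are invariant under the automorphisms not moving it. -/
theorem keep_of_not_moving (hS : IsPGroup p S) (hM : ¬ d.Moving E) {X : Subgroup S} (hXZ : X ≤ omegaZ p S)
    (hX : ∀ σ ∈ d.Aut, ∀ q ∈ X, σ q ∈ X) : d.A E ≤ keep E X := by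
  obtain ⟨x, hx⟩ := d.exists_not_mem hE
  exact d.keep_of_conjugates hE hS hX hx fun g hg =>
    d.keep_of_fix hE (not_not.1 hM) hXZ (fun t ht => commute_omegaZ ht x) g hg

omit hE in
theorem exists_moving (hS : IsPGroup p S) [Nontrivial S] : ∃ E ∈ d.ess, d.Moving E := by
  by_contra h
  push Not at h
  haveI := hS.center_nontrivial
  obtain ⟨k, hk, hc⟩ := (hS.to_subgroup (Subgroup.center S)).nontrivial_iff_card.1 ‹_›
  obtain ⟨z, hz⟩ := exists_prime_orderOf_dvd_card' p (hc ▸ dvd_pow_self p hk.ne')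
  have hzZ : (z : S) ∈ omegaZ p S := ⟨z.2, by rw [← hz, ← Subgroup.orderOf_coe, pow_orderOf_eq_one]⟩
  have hbot := d.eq_bot (omegaZ p S) d.aut_omegaZ fun E hE => ⟨d.omegaZ_le hE, not_not.1 (h E hE)⟩
  rw [hbot, Subgroup.mem_bot, OneMemClass.coe_eq_one] at hzZ
  rw [hzZ, orderOf_one] at hz
  exact hp.out.ne_one hz.symm

theorem omegaZ_le_V : omegaZ p S ≤ d.V E := fun z hz =>
  Subgroup.subset_closure ⟨1, one_mem _, ⟨z, d.omegaZ_le hE hz⟩, hz, rfl⟩

theorem image_mem_V {α : MulAut E} (hα : α ∈ d.A E) {e : E} (he : (e : S) ∈ omegaZ p S) :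
    ((α e : E) : S) ∈ d.V E := Subgroup.subset_closure ⟨α, hα, e, he, rfl⟩

theorem V_le : d.V E ≤ E := (Subgroup.closure_le _).2 (by
  rintro _ ⟨α, -, e, -, rfl⟩; exact (α e).2)

theorem commute_V {v : S} (hv : v ∈ d.V E) {e : S} (he : e ∈ E) : Commute v e := by
  induction hv using Subgroup.closure_induction with
  | mem y hy =>
    obtain ⟨α, -, z, hz, rfl⟩ := hy
    obtain ⟨f, hf⟩ := α.surjective ⟨e, he⟩
    have h : Commute z f := Subtype.ext (commute_omegaZ hz (f : S)).symm.eq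
    have h2 := h.map α
    rw [hf] at h2
    exact congrArg Subtype.val h2.eq
  | one => exact Commute.one_left _
  | mul y y' _ _ h1 h2 => exact h1.mul_left h2
  | inv y _ h1 => exact h1.inv_left

theorem pow_V {v : S} (hv : v ∈ d.V E) : v ^ p = 1 := by
  induction hv using Subgroup.closure_induction with
  | mem y hy =>
    obtain ⟨α, -, z, hz, rfl⟩ := hy
    have h : z ^ p = 1 := Subtype.ext (by rw [Subgroup.coe_pow]; exact hz.2)
    rw [← Subgroup.coe_pow, ← map_pow, h, map_one, Subgroup.coe_one]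
  | one => exact one_pow p
  | mul y y' hy hy' h1 h2 =>
    rw [(d.commute_V hE hy (d.V_le hE hy')).mul_pow, h1, h2, one_mul]
  | inv y _ h1 => rw [inv_pow, h1, inv_one]

theorem card_V_le (hsr : Cfsg.SectionalPRankLE p 3 S) : Nat.card (d.V E) ≤ p ^ 3 :=
  card_elem_le hsr (fun _ ha _ hb => d.commute_V hE ha (d.V_le hE hb)) fun _ ha => d.pow_V hE ha

theorem keep_V : d.A E ≤ keep E (d.V E) := fun α hα => by
  haveI := d.finiteAut hE
  refine mem_keep_of_maps fun e he => ?_
  have key : ∀ v ∈ d.V E, ∀ hv : v ∈ E, ((α ⟨v, hv⟩ : E) : S) ∈ d.V E := by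
    intro v hv
    induction hv using Subgroup.closure_induction with
    | mem y hy =>
      obtain ⟨β, hβ, z, hz, rfl⟩ := hy
      intro hv'
      exact d.image_mem_V hE (mul_mem hα hβ) hz
    | one => intro h; rw [show (⟨1, h⟩ : E) = 1 from rfl, map_one]; exact one_mem _
    | mul y y' hy hy' h1 h2 =>
      intro hv'
      have hyE : y ∈ E := d.V_le hE hy
      have hyE' : y' ∈ E := d.V_le hE hy'
      rw [show (⟨y * y', hv'⟩ : E) = ⟨y, hyE⟩ * ⟨y', hyE'⟩ from rfl, map_mul]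
      exact mul_mem (h1 hyE) (h2 hyE')
    | inv y hy h1 =>
      intro hv'
      have hyE : y ∈ E := d.V_le hE hy
      rw [show (⟨y⁻¹, hv'⟩ : E) = (⟨y, hyE⟩ : E)⁻¹ from rfl, map_inv]
      exact inv_mem (h1 hyE)
  exact key _ he e.2

theorem conj_V {v : S} (hv : v ∈ d.V E) (s : S) : s * v * s⁻¹ ∈ d.V E := by
  have hvE : v ∈ E := d.V_le hE hv
  rw [← d.cj_apply hE s ⟨v, hvE⟩]
  exact (d.keep_V hE (d.cj_mem hE s) ⟨v, hvE⟩).2 hv

theorem moving_iff : d.Moving E ↔ ¬ d.V E ≤ omegaZ p S := by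
  haveI := d.finiteAut hE
  refine not_congr ⟨fun h => (Subgroup.closure_le _).2 ?_, fun h α hα => mem_keep_of_maps fun e he => ?_⟩
  · rintro _ ⟨α, hα, e, he, rfl⟩
    exact (h hα e).2 he
  · exact h (d.image_mem_V hE hα he)

theorem omegaZ_lt_V (hM : d.Moving E) : omegaZ p S < d.V E :=
  lt_of_le_not_ge (d.omegaZ_le_V hE) ((d.moving_iff hE).1 hM)

/-- The centralizer of `V E` is `E`. -/
theorem mem_of_commute_V (hS : IsPGroup p S) (hM : d.Moving E) {s : S} (hs : ∀ v ∈ d.V E, Commute s v) :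
    s ∈ E := by
  by_contra hsE
  exact hM (d.keep_of_conjugates hE hS d.aut_omegaZ hsE fun g hg =>
    d.keep_of_fix hE (d.keep_V hE) (d.omegaZ_le_V hE) hs g hg)

theorem exists_not_commute (hS : IsPGroup p S) (hM : d.Moving E) {s : S} (hs : s ∉ E) :
    ∃ v ∈ d.V E, ¬ Commute s v := by
  by_contra h
  push Not at h
  exact hs (d.mem_of_commute_V hE hS hM h)

/-- Automorphisms of the group permute the pieces. -/
theorem V_transport {σ : MulAut S} (hσ : σ ∈ d.Aut) (hM : d.Moving E) :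
    ∃ E' ∈ d.ess, d.Moving E' ∧ (∀ s, s ∈ E ↔ σ s ∈ E') ∧ ∀ v, v ∈ d.V E ↔ σ v ∈ d.V E' := by
  obtain ⟨E', hE', hmem, hA⟩ := d.transport σ hσ E hE
  have hle : ∀ (τ : MulAut S) (_ : τ ∈ d.Aut) (X : Subgroup S) (_ : X ∈ d.ess) (Y : Subgroup S) (_ : Y ∈ d.ess),
      (∀ s, s ∈ X ↔ τ s ∈ Y) →
      (∀ β ∈ d.A Y, ∃ α ∈ d.A X, ∀ (e : X) (e' : Y), (e' : S) = τ e →
        ((β e' : Y) : S) = τ ((α e : X) : S)) →
      d.V Y ≤ (d.V X).map τ.toMonoidHom := by
    intro τ hτ X hX Y hY hm hA'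
    refine (Subgroup.closure_le _).2 ?_
    rintro _ ⟨β, hβ, e', he', rfl⟩
    obtain ⟨α, hα, hα'⟩ := hA' β hβ
    have hzX : τ⁻¹ (e' : S) ∈ omegaZ p S := d.aut_omegaZ _ (inv_mem hτ) _ he'
    refine ⟨_, d.image_mem_V hX (e := ⟨τ⁻¹ e', d.omegaZ_le hX hzX⟩) hα hzX, ?_⟩
    exact (hα' _ e' (by simp)).symm
  have h1 := hle σ hσ E hE E' hE' hmem hA
  obtain ⟨E'', hE'', hmem', hA''⟩ := d.transport σ⁻¹ (inv_mem hσ) E' hE'
  obtain rfl : E'' = E := Subgroup.ext fun s => by
    have h := hmem' (σ s)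
    rw [MulAut.inv_apply_self] at h
    rw [← h, ← hmem]
  have h2 := hle σ⁻¹ (inv_mem hσ) E' hE' E'' hE'' hmem' hA''
  have hiff : ∀ v, v ∈ d.V E'' ↔ σ v ∈ d.V E' := fun v => by
    refine ⟨fun hv => ?_, fun hv => ?_⟩
    · obtain ⟨w, hw, rfl⟩ := h2 hv
      simpa using hw
    · obtain ⟨w, hw, he⟩ := h1 hv
      exact σ.injective he ▸ hw
  refine ⟨E', hE', (d.moving_iff hE').2 fun h => (d.moving_iff hE).1 hM fun v hv => ?_, hmem, hiff⟩
  have h3 := d.aut_omegaZ _ (inv_mem hσ) _ (h ((hiff v).1 hv))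
  simpa using h3

end Datum

end Cfsg.Agent.NormalEss
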