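import Cfsg.Agent.Lib.NormalEss.Key

/-!
# No essential subgroup keeps its intersection with another

* `Pre.exists_inverting` : if `Aut(E)` keeps `K = E' ⊓ E`, an element inverts `K / Φ(E)` and commutes with an outer
  element modulo `Φ(E)`;
* `Pre.not_keep_inf` : `Aut(E)` does not keep `E' ⊓ E`.
-/

set_option autoImplicit false
set_option linter.unusedSectionVars false
set_option linter.style.haveILetI false
set_option maxHeartbeats 1600000

namespace Cfsg.Agent.NormalEss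

open scoped commutatorElement

universe u

variable {p : ℕ} [hp : Fact p.Prime] {S : Type u} [Group S] [Finite S]

/-- An element whose square lies in a subgroup lies in it, for elements of odd order. -/
theorem mem_of_sq_mem (hp2 : p ≠ 2) (hS : IsPGroup p S) {L : Subgroup S} {k : S} (h : k * k ∈ L) : k ∈ L := by
  obtain ⟨n, hn⟩ := hS k
  have hodd : Odd (p ^ n) := (hp.out.odd_of_ne_two hp2).pow
  obtain ⟨m, hm⟩ := hodd
  have h1 : k = ((k * k) ^ m)⁻¹ := by
    rw [eq_inv_iff_mul_eq_one, ← pow_two, ← pow_mul, ← pow_succ', ← hm, hn]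
  rw [h1]
  exact inv_mem (pow_mem h m)

namespace Pre

variable (d : Pre p S)
include d

/-- The line absorbs the commutators of the outer elements of the two subgroups. -/
theorem comm_outer_mem_line (hp2 : p ≠ 2) (hS : IsPGroup p S) {E E' : Subgroup S} (hE : E ∈ d.ess) (hE' : E' ∈ d.ess)
    (hk : d.A E ≤ keep E (E' ⊓ E)) {x y : S} (hx : x ∈ E') (hxE : x ∉ E) (hy : y ∈ E)
    {L : Subgroup S} (hLn : L.Normal) (hFL : frat E ≤ L) (hLK : L ≤ E' ⊓ E)
    (hcL : Nat.card L = p * Nat.card (frat E)) (hcK : Nat.card (E' ⊓ E : Subgroup S) = p * Nat.card L)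
    (hKc : ∀ k ∈ E' ⊓ E, ∀ s : S, ⁅k, s⁆ ∈ L) (hLc : ∀ l ∈ L, ∀ s : S, ⁅l, s⁆ ∈ frat E)
    (hcenter : ∀ k ∈ E' ⊓ E, ⁅x, k⁆ ∈ frat E → k ∈ L) (hmove : ¬ d.A E ≤ keep E L) : ⁅x, y⁆ ∈ L := by
  haveI := d.normal E hE
  haveI := d.normal E' hE'
  haveI := d.finiteAut hE
  haveI := frat_normal (d.normal E hE)
  haveI hKn : (E' ⊓ E).Normal := Subgroup.normal_inf_normal _ _
  set K := E' ⊓ E with hK
  have hFK : frat E ≤ K := d.frat_le_inf hS hE hE'
  have hKE : K ≤ E := inf_le_right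
  -- a moved element of the line
  obtain ⟨α, hα, l, hlL, hlout⟩ : ∃ α ∈ d.A E, ∃ l : E, (l : S) ∈ L ∧ ((α l : E) : S) ∉ L := by
    by_contra h
    push Not at h
    exact hmove fun α hα => mem_keep_of_maps fun e he => h α hα e he
  have hlF : (l : S) ∉ frat E := fun h => hlout (hFL ((d.keep_frat hE hα l).2 h))
  set a : E := α l with ha
  have haK : (a : S) ∈ K := (hk hα l).2 (hLK hlL)
  let π := QuotientGroup.mk' (frattini E)
  have hπ : ∀ e f : E, π e = π f ↔ (e : S)⁻¹ * f ∈ frat E := fun e f => by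
    rw [← Subgroup.coe_inv, ← Subgroup.coe_mul, coe_mem_frat]
    exact QuotientGroup.eq
  have hπ1 : ∀ e : E, π e = 1 ↔ (e : S) ∈ frat E := fun e => by
    rw [coe_mem_frat]; exact QuotientGroup.eq_one_iff e
  have hcomm : ∀ u v : E, π u * π v = π v * π u := fun u v => by
    refine commutatorElement_eq_one_iff_mul_comm.1 ?_
    rw [← map_commutatorElement]
    exact (QuotientGroup.eq_one_iff _).2 (PGroup.commutatorElement_mem_frattini (hS.to_subgroup E) u v)
  letI : CommGroup (E ⧸ frattini E) :=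
    { (inferInstance : Group (E ⧸ frattini E)) with
      mul_comm := fun u v => QuotientGroup.induction_on u fun u => QuotientGroup.induction_on v fun v => hcomm u v }
  have hexp : ∀ q : E ⧸ frattini E, q ^ p = 1 := fun q => QuotientGroup.induction_on q fun q =>
    (QuotientGroup.eq_one_iff _).2 (PGroup.pow_mem_frattini (hS.to_subgroup E) q)
  let ρ : MulAut E →* MulAut (E ⧸ frattini E) := RankTwo.quotientAut (frattini E)
  have hρ : ∀ (β : MulAut E) (e : E), ρ β (π e) = π (β e) := fun β e => rfl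
  set c := d.cj hE x with hc
  have hbK : ⁅x, (a : S)⁆ ∈ L := comm_swap (hKc _ haK x)
  set b : E := ⟨⁅x, (a : S)⁆, hKE (hLK hbK)⟩ with hb
  have hca : ρ c (π a) = π b * π a := by
    rw [hρ, ← map_mul]
    refine congrArg π (Subtype.ext ?_)
    simp [hc, hb, commutatorElement_def]
  have hcline : ∀ e : E, (e : S) ∈ L → ρ c (π e) = π e := fun e he => by
    rw [hρ, hπ, hc, cj_apply]
    convert comm_swap (hLc _ (inv_mem he) x) using 1
    simp only [commutatorElement_def]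
    group
  have hcb : ρ c (π b) = π b := hcline b hbK
  have hbF : (b : S) ∉ frat E := fun h => hlout (hcenter _ haK h)
  -- the conjugate fixing `a`
  set c' := α * c * α⁻¹ with hc'
  have hc'A : c' ∈ d.A E := mul_mem (mul_mem hα (d.cj_mem hE x)) (inv_mem hα)
  have hc'a : ρ c' (π a) = π a := by
    rw [hρ, hc', ha, MulAut.mul_apply, MulAut.mul_apply, MulAut.inv_apply_self, ← hρ α (c l), ← hρ c l,
      hcline l hlL, hρ]
  have haL : (a : S) ∉ L := hlout
  have hKgen : L ⊔ Subgroup.zpowers (a : S) = K := by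
    refine Subgroup.eq_of_le_of_card_ge (sup_le hLK (Subgroup.zpowers_le.2 haK)) ?_
    rw [hcK]
    exact PGroup.mul_card_le_of_lt hS (SetLike.lt_iff_le_and_exists.2
      ⟨le_sup_left, (a : S), Subgroup.mem_sup_right (Subgroup.mem_zpowers _), haL⟩)
  have hLgen : ∀ q : E, (q : S) ∈ L → ∀ r : E, (r : S) ∈ L → (r : S) ∉ frat E → ∃ i : ℤ, π r ^ i = π q := by
    intro q hq r hr hrF
    have h : frat E ⊔ Subgroup.zpowers (r : S) = L := by
      refine Subgroup.eq_of_le_of_card_ge (sup_le hFL (Subgroup.zpowers_le.2 hr)) ?_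
      rw [hcL]
      exact PGroup.mul_card_le_of_lt hS (SetLike.lt_iff_le_and_exists.2
        ⟨le_sup_left, (r : S), Subgroup.mem_sup_right (Subgroup.mem_zpowers _), hrF⟩)
    obtain ⟨f, hf, w, hw, hfw⟩ := Subgroup.mem_sup_of_normal_left.1 (h.ge hq)
    obtain ⟨i, rfl⟩ := Subgroup.mem_zpowers_iff.1 hw
    refine ⟨i, ?_⟩
    have hfE : f ∈ E := frat_le E hf
    have he : q = ⟨f, hfE⟩ * r ^ i := Subtype.ext (by simpa using hfw.symm)
    rw [he, map_mul, map_zpow, show π (⟨f, hfE⟩ : E) = 1 from (hπ1 _).2 hf, one_mul]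
  obtain ⟨j, hj⟩ : ∃ j : ℤ, ρ c' (π b) = π a ^ j * π b := by
    -- `c'` stabilizes the image of the line
    obtain ⟨f, hf⟩ : ∃ f, f = α⁻¹ b := ⟨_, rfl⟩
    have hfK : (f : S) ∈ K := by
      rw [hf]
      exact (hk (inv_mem hα) b).2 (hLK hbK)
    obtain ⟨q, hq, w, hw, hqw⟩ := Subgroup.mem_sup_of_normal_left.1 (hKgen.ge hfK)
    obtain ⟨i, rfl⟩ := Subgroup.mem_zpowers_iff.1 hw
    obtain ⟨m, hm⟩ := hLgen b hbK l hlL hlF
    have hq' : (q : S) ∈ E := hKE (hLK hq)
    have hfe : f = ⟨q, hq'⟩ * a ^ i := Subtype.ext (by simpa using hqw.symm)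
    have hcf : ρ c (π f) = π b ^ i * π f := by
      rw [hfe, map_mul, map_mul, map_zpow, map_zpow, hcline _ hq, hca, mul_zpow, mul_left_comm]
    refine ⟨m * i, ?_⟩
    have h1 : ρ c' (π b) = ρ α (ρ c (π f)) := by
      rw [hρ, hρ, hρ, hc', hf, MulAut.mul_apply, MulAut.mul_apply]
    rw [h1, hcf, ← hm, map_mul, map_zpow, map_zpow, hρ α l, hρ α f, hf, MulAut.apply_inv_self, ← ha, hm,
      ← zpow_mul]
  have hnd : ¬ (p : ℤ) ∣ j := by
    rintro ⟨m, rfl⟩
    rw [zpow_mul, zpow_natCast, hexp, one_zpow, one_mul] at hj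
    -- `c'` would fix the intersection
    refine hbF ((hπ1 b).1 ?_)
    have hfix : ∀ f : E, (f : S) ∈ K → ρ c' (π f) = π f := by
      intro f hf
      obtain ⟨q, hq, w, hw, hqw⟩ := Subgroup.mem_sup_of_normal_left.1 (hKgen.ge hf)
      obtain ⟨i, rfl⟩ := Subgroup.mem_zpowers_iff.1 hw
      obtain ⟨n, hn⟩ := hLgen ⟨q, hKE (hLK hq)⟩ hq b hbK hbF
      have hfe : f = ⟨q, hKE (hLK hq)⟩ * a ^ i := Subtype.ext (by simpa using hqw.symm)
      rw [hfe, map_mul π, ← hn, map_zpow π, map_mul (ρ c'), map_zpow (ρ c'), map_zpow (ρ c'), hj, hc'a]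
    have h2 := hfix (α a) ((hk hα a).2 haK)
    rw [hρ, hc', MulAut.mul_apply, MulAut.mul_apply, MulAut.inv_apply_self, ← hρ α (c a), ← hρ c a, hca,
      map_mul, hρ α a] at h2
    have h3 : ρ α (π b) = 1 := mul_eq_right.1 h2
    exact (ρ α).injective (h3.trans (map_one _).symm)
  -- the element inverting the intersection
  obtain ⟨n, hn⟩ : ∃ n : ℕ, (p : ℤ) ∣ j * n + 1 := by
    have hj0 : (j : ZMod p) ≠ 0 := fun h => hnd ((ZMod.intCast_zmod_eq_zero_iff_dvd j p).1 h)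
    refine ⟨(-(j : ZMod p)⁻¹).val, (ZMod.intCast_zmod_eq_zero_iff_dvd _ p).1 ?_⟩
    push_cast
    rw [ZMod.natCast_zmod_val, mul_neg, mul_inv_cancel₀ hj0, neg_add_cancel]
  have hpow : ∀ n : ℕ, ρ (c' ^ n) (π a) = π a ∧ ρ (c' ^ n) (π b) = π a ^ (j * n) * π b := by
    intro n
    induction n with
    | zero => simp
    | succ n ih =>
      rw [pow_succ', map_mul, MulAut.mul_apply, MulAut.mul_apply, ih.1, hc'a, ih.2, map_mul, map_zpow, hc'a, hj]
      refine ⟨rfl, ?_⟩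
      rw [← mul_assoc, ← zpow_add]
      congr 2
      push_cast; ring
  obtain ⟨hna, hnb⟩ := hpow n
  have hnb' : ρ (c' ^ n) (π b) = (π a)⁻¹ * π b := by
    rw [hnb]
    congr 1
    obtain ⟨m, hm⟩ := hn
    rw [show j * (n : ℤ) = (p : ℤ) * m - 1 by rw [← hm]; ring, zpow_sub, zpow_mul, zpow_natCast, hexp, one_zpow,
      zpow_one, one_mul]
  set w := c * c' ^ n * c with hw
  have hwA : w ∈ d.A E := mul_mem (mul_mem (d.cj_mem hE x) (pow_mem hc'A n)) (d.cj_mem hE x)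
  have hwb : ρ w (π b) = (π a)⁻¹ := by
    rw [hw, map_mul, map_mul, MulAut.mul_apply, MulAut.mul_apply, hcb, hnb', map_mul, map_inv, hca, hcb,
      mul_inv_rev, mul_assoc, inv_mul_cancel, mul_one]
  have hwa : ρ w (π a) = π b := by
    rw [hw, map_mul, map_mul, MulAut.mul_apply, MulAut.mul_apply, hca, map_mul, hna, hnb', mul_right_comm,
      inv_mul_cancel, one_mul, hcb]
  set z := w * w with hz
  have hzA : z ∈ d.A E := mul_mem hwA hwA
  have hzK : ∀ f : E, (f : S) ∈ K → ρ z (π f) = (π f)⁻¹ := by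
    intro f hf
    obtain ⟨q, hq, v, hv, hqv⟩ := Subgroup.mem_sup_of_normal_left.1 (hKgen.ge hf)
    obtain ⟨i, rfl⟩ := Subgroup.mem_zpowers_iff.1 hv
    obtain ⟨m, hm⟩ := hLgen ⟨q, hKE (hLK hq)⟩ hq b hbK hbF
    have hfe : f = ⟨q, hKE (hLK hq)⟩ * a ^ i := Subtype.ext (by simpa using hqv.symm)
    rw [hfe, map_mul π, ← hm, map_zpow π, hz, map_mul ρ, MulAut.mul_apply, map_mul (ρ w), map_zpow (ρ w),
      map_zpow (ρ w), hwa, hwb, map_mul (ρ w), map_zpow (ρ w), map_zpow (ρ w), map_inv (ρ w), hwa, hwb, mul_inv_rev, ← inv_zpow, ← inv_zpow, mul_comm]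
  -- the top is fixed
  have htop : ∀ β ∈ d.A E, (∀ e : E, ((e⁻¹ * β e : E) : S) ∈ K) → ∀ γ ∈ d.A E,
      (∀ e : E, ((e⁻¹ * γ e : E) : S) ∈ K) → ∀ e : E, ((e⁻¹ * (β * γ) e : E) : S) ∈ K := by
    intro β _ h1 γ _ h2 e
    have h := mul_mem (h2 e) (h1 (γ e))
    rw [← Subgroup.coe_mul, mul_assoc, mul_inv_cancel_left] at h
    exact h
  have hcK' : ∀ e : E, ((e⁻¹ * c e : E) : S) ∈ K := fun e => by
    refine Subgroup.mem_inf.2 ⟨?_, (e⁻¹ * c e).2⟩
    rw [Subgroup.coe_mul, Subgroup.coe_inv, hc, cj_apply]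
    have h := mul_mem ((d.normal E' hE').conj_mem x hx (e : S)⁻¹) (inv_mem hx)
    simpa [mul_assoc] using h
  have hc'K : ∀ e : E, ((e⁻¹ * c' e : E) : S) ∈ K := fun e => d.disp_mem hE hk hα (hcK' _)
  have hnK : ∀ m : ℕ, ∀ e : E, ((e⁻¹ * (c' ^ m) e : E) : S) ∈ K := fun m => by
    induction m with
    | zero => intro e; simp
    | succ m ih => rw [pow_succ]; exact htop _ (pow_mem hc'A m) ih _ hc'A hc'K
  have hwK := htop _ (mul_mem (d.cj_mem hE x) (pow_mem hc'A n)) (htop _ (d.cj_mem hE x) hcK' _ (pow_mem hc'A n) (hnK n))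
    _ (d.cj_mem hE x) hcK'
  have hzK' := htop _ hwA hwK _ hwA hwK
  -- the commutator of `z` and `c` is inner
  have hinvK : ∀ β ∈ d.A E, (∀ e : E, ((e⁻¹ * β e : E) : S) ∈ K) → ∀ e : E, ((e⁻¹ * β⁻¹ e : E) : S) ∈ K := by
    intro β _ h e
    have h1 := inv_mem (h (β⁻¹ e))
    rwa [← Subgroup.coe_inv, MulAut.apply_inv_self, mul_inv_rev, inv_inv] at h1
  set γ := z * c * z⁻¹ * c⁻¹ with hγ
  have hcA := d.cj_mem hE x
  have hγA : γ ∈ d.A E := mul_mem (mul_mem (mul_mem hzA hcA) (inv_mem hzA)) (inv_mem hcA)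
  have hγK : ∀ f : E, (f : S) ∈ K → ρ γ (π f) = π f := by
    intro f hf
    have hinv : ∀ g : E, (g : S) ∈ K → ρ z⁻¹ (π g) = (π g)⁻¹ := fun g hg => by
      have h := congrArg (ρ z⁻¹) (hzK g hg)
      rw [← MulAut.mul_apply, ← map_mul, inv_mul_cancel, map_one, MulAut.one_apply, map_inv] at h
      exact inv_injective (by rw [inv_inv]; exact h.symm)
    have hcK1 : ∀ β ∈ d.A E, ∀ g : E, (g : S) ∈ K → ((β g : E) : S) ∈ K := fun β hβ g hg => (hk hβ g).2 hg
    rw [hγ, map_mul, map_mul, map_mul, MulAut.mul_apply, MulAut.mul_apply, MulAut.mul_apply, hρ c⁻¹ f,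
      hinv _ (hcK1 _ (inv_mem hcA) f hf), map_inv, hρ c, MulAut.apply_inv_self, map_inv, hzK f hf, inv_inv]
  obtain ⟨s, hs⟩ := (d.mem_conjSub_iff hE).1 (d.mem_conjSub_of_series hE hS
    (fun i => match i with | 0 => frat E | 1 => K | _ => E) 2 rfl rfl
    (fun i hi => by
      rcases i with _ | _ | i
      · exact hFK
      · exact hKE
      · omega)
    (fun i hi => by
      rcases i with _ | _ | _ | i
      · exact d.keep_frat hE
      · exact hk
      · exact d.keep_self hE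
      · omega) hγA (fun i hi u hu => by
      rcases i with _ | _ | i
      · have h := (hπ u (γ u)).1 ((hγK u hu).symm.trans (hρ γ u))
        rw [Subgroup.coe_mul, Subgroup.coe_inv]
        exact h
      · exact htop _ (mul_mem (mul_mem hzA hcA) (inv_mem hzA)) (htop _ (mul_mem hzA hcA) (htop _ hzA hzK' _ hcA hcK')
          _ (inv_mem hzA) (hinvK _ hzA hzK')) _ (inv_mem hcA) (hinvK _ hcA hcK') u
      · omega))
  have hsE : s ∈ E := by
    by_contra hsE
    have hle : ∀ k ∈ K, ⁅x, k⁆ ∈ frat E := by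
      intro k hk'
      obtain ⟨i, hi⟩ := d.exists_pow hE hsE x
      have h1 : s ∈ cenMod (frat E) ({k} : Set S) := mem_cenMod.2 fun q hq => by
        rw [Set.mem_singleton_iff.1 hq]
        have h := (hπ _ _).1 ((hγK ⟨k, hKE hk'⟩ hk').symm.trans (hρ γ _))
        rw [← hs, cj_apply] at h
        have h2 := (inferInstance : (frat E).Normal).conj_mem _ h k
        convert h2 using 1
        simp only [commutatorElement_def]; group
      have h2 : (s ^ i)⁻¹ * x ∈ cenMod (frat E) ({k} : Set S) :=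
        mem_cenMod.2 fun q hq => (Set.mem_singleton_iff.1 hq).symm ▸ comm_mem_frat hS hi (hKE hk')
      have h3 := mul_mem (pow_mem h1 i) h2
      rw [mul_inv_cancel_left] at h3
      exact mem_cenMod.1 h3 k rfl
    exact haL (hcenter _ haK (hle _ haK))
  have hγ1 : ∀ e : E, ρ γ (π e) = π e := fun e => by
    rw [hρ, ← hs, hπ, cj_apply]
    have h := comm_mem_frat hS (E := E) (a := (e : S)⁻¹) (b := s) (inv_mem e.2) hsE
    convert inv_mem h using 1
    simp only [commutatorElement_def]; group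
  have hcom : ∀ e : E, ρ z (ρ c (π e)) = ρ c (ρ z (π e)) := fun e => by
    have h := hγ1 (c (z e))
    rw [← hρ c, ← hρ z, hγ] at h
    simp only [map_mul, map_inv, MulAut.mul_apply, MulAut.inv_apply_self] at h
    exact h
  -- evaluate at `y`
  set ey : E := ⟨y, hy⟩ with hey
  have hxy : ⁅x, y⁆ ∈ K := by
    have h := hcK' ey
    have h2 := hKn.conj_mem _ h y
    convert h2 using 1
    simp only [hey, hc, Subgroup.coe_mul, Subgroup.coe_inv, cj_apply, commutatorElement_def]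
    group
  set k : E := ⟨⁅x, y⁆, hKE hxy⟩ with hkdef
  have hcy : ρ c (π ey) = π k * π ey := by
    rw [hρ, ← map_mul]
    refine congrArg π (Subtype.ext ?_)
    simp [hkdef, hey, hc, commutatorElement_def]
  obtain ⟨s', hs'⟩ : ∃ s', s' = ey⁻¹ * z ey := ⟨_, rfl⟩
  have hs'K : (s' : S) ∈ K := hs' ▸ hzK' ey
  have hzy : ρ z (π ey) = π ey * π s' := by rw [hρ, hs', ← map_mul, mul_inv_cancel_left]
  have hmain := hcom ey
  rw [hcy, map_mul, hzK k hxy, hzy, map_mul, hcy, hρ c s'] at hmain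
  -- the square of the commutator lies in the line
  have hcs : ((c s' : E) : S) = ⁅x, (s' : S)⁆ * s' := by rw [hc, cj_apply, commutatorElement_def]; group
  obtain ⟨f, hf⟩ : ∃ f : E, f = k * k * ⟨⁅x, (s' : S)⁆, hKE (hLK (comm_swap (hKc _ hs'K x)))⟩ := ⟨_, rfl⟩
  have hfF : π f = 1 := by
    have e : π (c s') = π (⟨⁅x, (s' : S)⁆, hKE (hLK (comm_swap (hKc _ hs'K x)))⟩ : E) * π s' := by
      rw [← map_mul]; exact congrArg π (Subtype.ext hcs)
    rw [e, mul_assoc (π k), ← mul_assoc (π ey), mul_comm (π ey) (π (⟨⁅x, (s' : S)⁆, _⟩ : E)), mul_assoc,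
      ← mul_assoc (π k)] at hmain
    rw [hf, map_mul, map_mul, mul_assoc, ← mul_right_cancel hmain, mul_inv_cancel]
  have hfL : (f : S) ∈ L := hFL ((hπ1 f).1 hfF)
  rw [hf, Subgroup.coe_mul, Subgroup.coe_mul] at hfL
  exact mem_of_sq_mem hp2 hS ((mul_mem_cancel_right (comm_swap (hKc _ hs'K x))).1 hfL)

/-- `Aut(E)` does not keep the intersection with another essential subgroup. -/
theorem not_keep_inf (hp2 : p ≠ 2) (hS : IsPGroup p S) (hsr : Cfsg.SectionalPRankLE p 3 S) {E₁ E₂ : Subgroup S}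
    (h₁ : E₁ ∈ d.ess) (h₂ : E₂ ∈ d.ess) (hne : E₁ ≠ E₂) : ¬ d.A E₂ ≤ keep E₂ (E₁ ⊓ E₂) := by
  intro hk
  haveI := d.normal E₁ h₁
  haveI := d.normal E₂ h₂
  haveI := d.finiteAut h₁
  haveI := psiSub_normal (p := p) (d.normal E₁ h₁)
  haveI := frat_normal (d.normal E₁ h₁)
  haveI := frat_normal (d.normal E₂ h₂)
  haveI hKn : (E₁ ⊓ E₂).Normal := Subgroup.normal_inf_normal _ _
  haveI := frat_normal hKn
  obtain ⟨x, hx, hxE⟩ := SetLike.not_le_iff_exists.1 (d.not_le_of_ne h₁ h₂ hne.symm)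
  obtain ⟨y, hy, hyE⟩ := SetLike.not_le_iff_exists.1 (d.not_le_of_ne h₂ h₁ hne)
  obtain ⟨L, hLn, hFL, hLK, hcL, hcK, hKc, hLc, hcenter, hmoveL⟩ := d.exists_line_inf hS hsr h₂ h₁ hne hk hx hxE
  haveI := hLn
  obtain ⟨a, ha, hax⟩ := d.exists_comm_not_mem hS h₂ h₁ hk hx hxE
  have hKy := d.comm_mem_frat_inf hS hsr h₂ h₁ hne hk
  set K := E₁ ⊓ E₂ with hK
  set ψ := psiSub p E₁ with hψ
  have hKE₁ : K ≤ E₁ := inf_le_left
  have hKE₂ : K ≤ E₂ := inf_le_right
  have hfK₁ : frat K ≤ frat E₁ := frat_le_of (p := p) (fun k _ q hq => (inferInstance : (frat E₁).Normal).conj_mem q hq k)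
    (fun u hu v hv => comm_mem_frat hS (hKE₁ hu) (hKE₁ hv)) fun u hu => pow_mem_frat hS (hKE₁ hu)
  have hfK₂ : frat K ≤ frat E₂ := frat_le_of (p := p) (fun k _ q hq => (inferInstance : (frat E₂).Normal).conj_mem q hq k)
    (fun u hu v hv => comm_mem_frat hS (hKE₂ hu) (hKE₂ hv)) fun u hu => pow_mem_frat hS (hKE₂ hu)
  -- `Aut(E₁)` moves the intersection
  obtain ⟨g, hg, k₀, hk₀, hk₀'⟩ : ∃ g ∈ d.A E₁, ∃ k : E₁, (k : S) ∈ K ∧ ((g k : E₁) : S) ∉ E₂ := by
    by_contra h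
    push Not at h
    have hk₁ : d.A E₁ ≤ keep E₁ (E₂ ⊓ E₁) := fun α hα => mem_keep_of_maps fun e he =>
      Subgroup.mem_inf.2 ⟨h α hα e (Subgroup.mem_inf.2 ⟨e.2, he.1⟩), (α e).2⟩
    have h1 := d.comm_mem_frat_inf hS hsr h₁ h₂ hne.symm hk₁ a (by rw [inf_comm]; exact ha) x hx
    rw [inf_comm] at h1
    exact hax (hfK₂ (comm_swap h1))
  have hu : ⁅x, y⁆ ∈ L :=
    d.comm_outer_mem_line hp2 hS h₂ h₁ hk hx hxE hy hLn hFL hLK hcL hcK hKc hLc hcenter hmoveL
  have hgenE₁ : ∀ e ∈ E₁, ∃ i : ℕ, (x ^ i)⁻¹ * e ∈ K := fun e he => by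
    obtain ⟨i, hi⟩ := d.exists_pow h₂ hxE e
    exact ⟨i, Subgroup.mem_inf.2 ⟨mul_mem (inv_mem (pow_mem hx i)) he, hi⟩⟩
  have hKE₂c : ∀ k ∈ K, ∀ k' ∈ K, ⁅k, k'⁆ ∈ frat E₂ := fun k hk' k' hk'' => comm_mem_frat hS (hKE₂ hk') (hKE₂ hk'')
  -- `Φ(E₁) ≤ L`
  have hE₁L : ∀ e ∈ E₁, ∀ e' ∈ E₁, ⁅e, e'⁆ ∈ L := by
    have hle : ∀ t : S, t = x ∨ t ∈ K → E₁ ≤ cenMod L ({t} : Set S) := by
      intro t ht e he
      obtain ⟨i, hi⟩ := hgenE₁ e he
      rw [← mul_inv_cancel_left (x ^ i) e]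
      refine mul_mem (pow_mem (mem_cenMod.2 fun q hq => ?_) i) (mem_cenMod.2 fun q hq => hKc _ hi q)
      rw [Set.mem_singleton_iff.1 hq]
      rcases ht with rfl | ht
      · rw [commutatorElement_self]; exact one_mem _
      · exact comm_swap (hKc t ht x)
    intro e he e' he'
    have h1 : e' ∈ cenMod L ({e} : Set S) := by
      obtain ⟨i, hi⟩ := hgenE₁ e' he'
      rw [← mul_inv_cancel_left (x ^ i) e']
      refine mul_mem (pow_mem (mem_cenMod.2 fun q hq => ?_) i) (mem_cenMod.2 fun q hq => ?_) <;>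
        rw [Set.mem_singleton_iff.1 hq] <;> refine comm_swap (mem_cenMod.1 (hle _ ?_ he) _ rfl)
      exacts [Or.inl rfl, Or.inr hi]
    exact comm_swap (mem_cenMod.1 h1 e rfl)
  have hF₁L : frat E₁ ≤ L := by
    refine frat_le_of (p := p) (fun k _ q hq => hLn.conj_mem q hq k) hE₁L fun e he => ?_
    by_cases heK : e ∈ K
    · exact hFL (pow_mem_frat hS (hKE₂ heK))
    have hepK : e ^ p ∈ K := Subgroup.mem_inf.2 ⟨pow_mem he p, (d.index E₂ h₂) ▸ E₂.pow_index_mem e⟩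
    refine hcenter _ hepK ?_
    obtain ⟨i, hi⟩ := d.exists_pow h₂ (fun h => heK (Subgroup.mem_inf.2 ⟨he, h⟩)) x
    have h1 : e ∈ cenMod (frat E₂) ({e ^ p} : Set S) := mem_cenMod.2 fun q hq => by
      rw [Set.mem_singleton_iff.1 hq, commutatorElement_eq_one_iff_commute.2 (Commute.self_pow e p)]
      exact one_mem _
    have h2 : (e ^ i)⁻¹ * x ∈ cenMod (frat E₂) ({e ^ p} : Set S) :=
      mem_cenMod.2 fun q hq => (Set.mem_singleton_iff.1 hq).symm ▸ comm_mem_frat hS hi (hKE₂ hepK)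
    have h3 := mul_mem (pow_mem h1 i) h2
    rw [mul_inv_cancel_left] at h3
    exact mem_cenMod.1 h3 _ rfl
  have hψF : ψ ≤ frat E₂ := psiSub_le (fun l hl e _ => hLc l (hF₁L hl) e)
    fun l hl => pow_mem_frat hS (hKE₂ (hLK (hF₁L hl)))
  have hax₁ : ⁅x, a⁆ ∈ frat E₁ := comm_mem_frat hS hx (hKE₁ ha)
  -- `y ^ p` centralizes `a` modulo `ψ`
  have hyK : y ^ p ∈ K := Subgroup.mem_inf.2 ⟨(d.index E₁ h₁) ▸ E₁.pow_index_mem y, pow_mem hy p⟩
  have hyψ : ∀ q ∈ frat K, ⁅q, y⁆ ∈ ψ := by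
    let π := QuotientGroup.mk' ψ
    have hπc : ∀ f ∈ frat E₁, ∀ k ∈ E₁, Commute (π f) (π k) := fun f hf k hk' =>
      commutatorElement_eq_one_iff_commute.1 (by
        rw [← map_commutatorElement]; exact (QuotientGroup.eq_one_iff _).2 (comm_mem_psiSub hf hk'))
    have hy' : ∀ k ∈ K, ∃ f ∈ frat E₁, π y * π k * (π y)⁻¹ = π f * π k := fun k hk' =>
      ⟨⁅y, k⁆, hfK₁ (comm_swap (hKy k hk' y hy)), by rw [← map_inv, ← map_mul, ← map_mul, ← map_mul]; congr 1; simp only [commutatorElement_def]; group⟩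
    have hmemψ : ∀ {q : S}, π y * π q * (π y)⁻¹ = π q → ⁅q, y⁆ ∈ ψ := fun {q} h => by
      refine comm_swap ((QuotientGroup.eq_one_iff _).1 ?_)
      show π ⁅y, q⁆ = 1
      rw [map_commutatorElement, commutatorElement_def, h, mul_inv_cancel]
    let Y := cenMod ψ ({y} : Set S) ⊓ frat E₁
    have hle : frat K ≤ Y := by
      refine frat_le_of (p := p) (fun k hk' q hq => ?_) (fun u hu v hv => ?_) fun u hu => ?_
      · refine Subgroup.mem_inf.2 ⟨?_, (inferInstance : (frat E₁).Normal).conj_mem q hq.2 k⟩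
        have h : ⁅k, q⁆ ∈ cenMod ψ ({y} : Set S) := mem_cenMod.2 fun w _ => by
          have h1 : ⁅k, q⁆ ∈ ψ := comm_swap (comm_mem_psiSub hq.2 (hKE₁ hk'))
          have h2 := mul_mem h1 ((inferInstance : ψ.Normal).conj_mem _ (inv_mem h1) w)
          convert h2 using 1
          simp only [commutatorElement_def]; group
        have := mul_mem h hq.1
        convert this using 1
        simp only [commutatorElement_def]; group
      · refine Subgroup.mem_inf.2 ⟨mem_cenMod.2 fun w hw => ?_, comm_mem_frat hS (hKE₁ hu) (hKE₁ hv)⟩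
        rw [Set.mem_singleton_iff.1 hw]
        obtain ⟨f, hf, hfu⟩ := hy' u hu
        obtain ⟨f', hf', hfv⟩ := hy' v hv
        refine hmemψ ?_
        rw [map_commutatorElement, conjugate_commutatorElement, hfu, hfv]
        have c1 : Commute (π f) (π u) := hπc f hf u (hKE₁ hu)
        have c2 : Commute (π f) (π v) := hπc f hf v (hKE₁ hv)
        have c3 : Commute (π f') (π u) := hπc f' hf' u (hKE₁ hu)
        have c4 : Commute (π f') (π v) := hπc f' hf' v (hKE₁ hv)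
        have c5 : Commute (π f) (π f') := hπc f hf f' (frat_le E₁ hf')
        simp only [commutatorElement_def, mul_inv_rev]
        rw [show π f * π u * (π f' * π v) * ((π u)⁻¹ * (π f)⁻¹) * ((π v)⁻¹ * (π f')⁻¹) =
          π f * π f' * (π u * π v) * ((π u)⁻¹ * (π f)⁻¹) * ((π v)⁻¹ * (π f')⁻¹) by
          rw [mul_assoc (π f) (π u), ← mul_assoc (π u) (π f'), c3.symm.eq]; group]
        have c6 : Commute (π f) (π u * π v * (π u)⁻¹ * (π v)⁻¹) := (((c1.mul_right c2).mul_right c1.inv_right)).mul_right c2.inv_right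
        have c7 : Commute (π f') (π u * π v * (π u)⁻¹ * (π v)⁻¹) := (((c3.mul_right c4).mul_right c3.inv_right)).mul_right c4.inv_right
        rw [show π f * π f' * (π u * π v) * ((π u)⁻¹ * (π f)⁻¹) * ((π v)⁻¹ * (π f')⁻¹) =
          π f * π f' * (π u * π v * (π u)⁻¹) * (((π f)⁻¹ * (π v)⁻¹) * (π f')⁻¹) by group,
          (c2.inv_left.inv_right).eq, show π f * π f' * (π u * π v * (π u)⁻¹) * ((π v)⁻¹ * (π f)⁻¹ * (π f')⁻¹) =
          π f * π f' * (π u * π v * (π u)⁻¹ * (π v)⁻¹) * ((π f)⁻¹ * (π f')⁻¹) by group,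
          (c6.mul_left c7).eq, c5.eq]
        group
      · refine Subgroup.mem_inf.2 ⟨mem_cenMod.2 fun w hw => ?_, pow_mem_frat hS (hKE₁ hu)⟩
        rw [Set.mem_singleton_iff.1 hw]
        obtain ⟨f, hf, hfu⟩ := hy' u hu
        refine hmemψ ?_
        rw [map_pow, ← conj_pow, hfu, (hπc f hf u (hKE₁ hu)).mul_pow, ← map_pow π f,
          show π (f ^ p) = 1 from (QuotientGroup.eq_one_iff _).2 (pow_mem_psiSub hf), one_mul]
    exact fun q hq => mem_cenMod.1 (hle hq).1 y rfl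
  have hayψ : ⁅a, y ^ p⁆ ∈ ψ := by
    let π := QuotientGroup.mk' ψ
    obtain ⟨c, hc⟩ : ∃ c, c = ⁅y, a⁆ := ⟨_, rfl⟩
    have hcK : c ∈ frat K := hc ▸ comm_swap (hKy a ha y hy)
    have hyc : Commute (π y) (π c) := commutatorElement_eq_one_iff_commute.1 (by
      rw [← map_commutatorElement]; exact (QuotientGroup.eq_one_iff _).2 (comm_swap (hyψ c hcK)))
    have hn : ∀ n : ℕ, π y ^ n * π a = π c ^ n * (π a * π y ^ n) := by
      intro n
      induction n with
      | zero => simp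
      | succ n ih =>
        have h1 : π y * π a = π c * (π a * π y) := by
          rw [← map_mul, ← map_mul, ← map_mul, hc]; congr 1; simp only [commutatorElement_def]; group
        rw [pow_succ', mul_assoc, ih, ← mul_assoc, (hyc.pow_right n).eq, mul_assoc, ← mul_assoc (π y) (π a),
          h1, pow_succ (π c), mul_assoc (π c), mul_assoc (π a) (π y), ← pow_succ', ← mul_assoc]
    have h := hn p
    rw [← map_pow π c, show π (c ^ p) = 1 from (QuotientGroup.eq_one_iff _).2 (pow_mem_psiSub (hfK₁ hcK)),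
      one_mul] at h
    refine (QuotientGroup.eq_one_iff _).1 ?_
    show π ⁅a, y ^ p⁆ = 1
    rw [map_commutatorElement, map_pow, commutatorElement_eq_one_iff_mul_comm, h]
  -- `K` is abelian modulo `ψ`
  have hgenF : frat E₂ ≤ frat K ⊔ Subgroup.zpowers (y ^ p) := by
    set Y := frat K ⊔ Subgroup.zpowers (y ^ p)
    have hYE : Y ≤ K := sup_le (frat_le K) (Subgroup.zpowers_le.2 hyK)
    have hYc : ∀ e ∈ E₂, ∀ q ∈ Y, e * q * e⁻¹ ∈ Y := fun e he q hq => by
      have h : ⁅e, q⁆ ∈ Y := Subgroup.mem_sup_left (comm_swap (hKy q (hYE hq) e he))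
      have := mul_mem h hq
      convert this using 1
      simp only [commutatorElement_def]; group
    haveI : (Y.subgroupOf E₂).Normal := ⟨fun q hq e => hYc e e.2 q hq⟩
    have hgen₂ : ∀ e ∈ E₂, ∃ i : ℕ, (y ^ i)⁻¹ * e ∈ K := fun e he => by
      obtain ⟨i, hi⟩ := d.exists_pow h₁ hyE e
      exact ⟨i, Subgroup.mem_inf.2 ⟨hi, mul_mem (inv_mem (pow_mem hy i)) he⟩⟩
    have hcY : ∀ e ∈ E₂, ∀ e' ∈ E₂, ⁅e, e'⁆ ∈ frat K := by
      have hle : ∀ t ∈ E₂, t = y ∨ t ∈ K → E₂ ≤ cenMod (frat K) ({t} : Set S) := by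
        intro t htE ht e he
        obtain ⟨i, hi⟩ := hgen₂ e he
        rw [← mul_inv_cancel_left (y ^ i) e]
        refine mul_mem (pow_mem (mem_cenMod.2 fun q hq => ?_) i) (mem_cenMod.2 fun q hq => ?_) <;>
          rw [Set.mem_singleton_iff.1 hq]
        · rcases ht with rfl | ht
          · rw [commutatorElement_self]; exact one_mem _
          · exact comm_swap (hKy t ht y hy)
        · exact hKy _ hi t htE
      intro e he e' he'
      have h1 : e' ∈ cenMod (frat K) ({e} : Set S) := by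
        obtain ⟨i, hi⟩ := hgen₂ e' he'
        rw [← mul_inv_cancel_left (y ^ i) e']
        refine mul_mem (pow_mem (mem_cenMod.2 fun q hq => ?_) i) (mem_cenMod.2 fun q hq => ?_) <;>
          rw [Set.mem_singleton_iff.1 hq]
        · exact comm_swap (mem_cenMod.1 (hle y hy (Or.inl rfl) he) y rfl)
        · exact hKy _ hi e he
      exact comm_swap (mem_cenMod.1 h1 e rfl)
    refine frat_le_of (p := p) hYc (fun e he e' he' => Subgroup.mem_sup_left (hcY e he e' he')) fun e he => ?_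
    obtain ⟨i, hi⟩ := hgen₂ e he
    let π := QuotientGroup.mk' (frat K)
    have hcom : Commute (π (y ^ i)) (π ((y ^ i)⁻¹ * e)) := commutatorElement_eq_one_iff_commute.1 (by
      rw [← map_commutatorElement]
      exact (QuotientGroup.eq_one_iff _).2 (hcY _ (pow_mem hy i) _ (mul_mem (inv_mem (pow_mem hy i)) he)))
    have h1 : π (e ^ p) = π ((y ^ p) ^ i) := by
      rw [map_pow, ← mul_inv_cancel_left (y ^ i) e, map_mul, hcom.mul_pow, ← map_pow π ((y ^ i)⁻¹ * e),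
        show π (((y ^ i)⁻¹ * e) ^ p) = 1 from (QuotientGroup.eq_one_iff _).2 (pow_mem_frat hS hi), mul_one,
        ← map_pow, ← pow_mul, ← pow_mul, mul_comm]
    have h2 : ((y ^ p) ^ i)⁻¹ * e ^ p ∈ frat K := QuotientGroup.eq.1 h1.symm
    rw [← mul_inv_cancel_left ((y ^ p) ^ i) (e ^ p)]
    exact mul_mem (Subgroup.mem_sup_right (pow_mem (Subgroup.mem_zpowers _) i)) (Subgroup.mem_sup_left h2)
  set b := ⁅x, a⁆ with hb
  have hKgen : K ≤ Subgroup.closure ({a, b, y ^ p} ∪ (frat K : Set S)) := by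
    set Y := Subgroup.closure ({a, b, y ^ p} ∪ (frat K : Set S))
    have hF : frat E₂ ≤ Y := hgenF.trans (sup_le (fun q hq => Subgroup.subset_closure (Or.inr hq))
      (Subgroup.zpowers_le.2 (Subgroup.subset_closure (Or.inl (by simp)))))
    have hbL : b ∈ L := hF₁L hax₁
    have hbF : b ∉ frat E₂ := hax
    have hL : frat E₂ ⊔ Subgroup.zpowers b = L := by
      refine Subgroup.eq_of_le_of_card_ge (sup_le hFL (Subgroup.zpowers_le.2 hbL)) ?_
      rw [hcL]
      exact PGroup.mul_card_le_of_lt hS (SetLike.lt_iff_le_and_exists.2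
        ⟨le_sup_left, b, Subgroup.mem_sup_right (Subgroup.mem_zpowers _), hbF⟩)
    have haL : a ∉ L := fun h => hax (comm_swap (hLc a h x))
    have hK' : L ⊔ Subgroup.zpowers a = K := by
      refine Subgroup.eq_of_le_of_card_ge (sup_le hLK (Subgroup.zpowers_le.2 ha)) ?_
      rw [hcK]
      exact PGroup.mul_card_le_of_lt hS (SetLike.lt_iff_le_and_exists.2
        ⟨le_sup_left, a, Subgroup.mem_sup_right (Subgroup.mem_zpowers _), haL⟩)
    exact hK'.ge.trans (sup_le (hL.ge.trans (sup_le hF (Subgroup.zpowers_le.2 (Subgroup.subset_closure (Or.inl (by simp))))))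
      (Subgroup.zpowers_le.2 (Subgroup.subset_closure (Or.inl (by simp)))))
  have hiso : ∀ k ∈ K, ∀ k' ∈ K, ⁅k, k'⁆ ∈ ψ := by
    have hone : ∀ t ∈ K, (⁅a, t⁆ ∈ ψ ∧ ⁅y ^ p, t⁆ ∈ ψ) → K ≤ cenMod ψ ({t} : Set S) := by
      intro t ht hty
      refine hKgen.trans ((Subgroup.closure_le _).2 ?_)
      rintro q (hq | hq) <;> refine mem_cenMod.2 fun w hw => ?_ <;> rw [Set.mem_singleton_iff.1 hw]
      · rcases hq with rfl | rfl | rfl
        exacts [hty.1, comm_mem_psiSub hax₁ (hKE₁ ht), hty.2]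
      · exact comm_mem_psiSub (hfK₁ hq) (hKE₁ ht)
    have hA := hone a ha ⟨by rw [commutatorElement_self]; exact one_mem _, comm_swap hayψ⟩
    have hY := hone (y ^ p) hyK ⟨hayψ, by rw [commutatorElement_self]; exact one_mem _⟩
    intro k hk' k' hk''
    exact mem_cenMod.1 (hone k' hk'' ⟨comm_swap (mem_cenMod.1 (hA hk'') a rfl),
      comm_swap (mem_cenMod.1 (hY hk'') _ rfl)⟩ hk') k' rfl
  -- the image of the intersection
  set K' := imgOf g K with hK'
  have hk₀K' : ((g k₀ : E₁) : S) ∈ K' := (mem_imgOf g K).2 ⟨k₀, hk₀, rfl⟩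
  have hiso' : ∀ k ∈ K', ∀ k' ∈ K', ⁅k, k'⁆ ∈ ψ := by
    intro k hk' k' hk''
    obtain ⟨f, hf, rfl⟩ := (mem_imgOf g K).1 hk'
    obtain ⟨f', hf', rfl⟩ := (mem_imgOf g K).1 hk''
    exact d.comm_image_mem h₁ (d.keep_psiSub h₁) hg (hiso f hf f' hf')
  have hrad : ∀ r ∈ K, r ∈ K' → ∀ e ∈ E₁, ⁅r, e⁆ ∈ ψ := by
    intro r hr hr' e he
    obtain ⟨i, hi⟩ := d.exists_pow h₂ hk₀' e
    set q := ((g k₀ : E₁) : S) with hq
    have h1 : q ∈ cenMod ψ ({r} : Set S) :=
      mem_cenMod.2 fun w hw => (Set.mem_singleton_iff.1 hw).symm ▸ hiso' q hk₀K' r hr'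
    have h2 : (q ^ i)⁻¹ * e ∈ cenMod ψ ({r} : Set S) :=
      mem_cenMod.2 fun w hw => (Set.mem_singleton_iff.1 hw).symm ▸ hiso _
        (Subgroup.mem_inf.2 ⟨mul_mem (inv_mem (pow_mem (g k₀).2 i)) he, hi⟩) r hr
    have h3 := mul_mem (pow_mem h1 i) h2
    rw [mul_inv_cancel_left] at h3
    exact comm_swap (mem_cenMod.1 h3 r rfl)
  have hLeq : K ⊓ K' = L := by
    refine Subgroup.eq_of_le_of_card_ge (fun r hr => hcenter r hr.1 (comm_swap (hψF (hrad r hr.1 hr.2 x hx)))) ?_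
    have hcK' : Nat.card K' = Nat.card K := by
      rw [hK', imgOf, Subgroup.card_map_of_injective E₁.subtype_injective,
        Subgroup.card_map_of_injective g.injective]
      exact Nat.card_congr (Subgroup.subgroupOfEquivOfLe hKE₁).toEquiv
    have hidx : (K'.subgroupOf E₁).index * Nat.card K = Nat.card E₁ := by
      rw [← hcK', ← Nat.card_congr (Subgroup.subgroupOfEquivOfLe (imgOf_le g K)).toEquiv, mul_comm,
        Subgroup.card_mul_index]
    have hcE : Nat.card K * p = Nat.card E₁ := by rw [hK, inf_comm]; exact d.card_inf_mul h₁ h₂ hne.symm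
    have hidx' : (K'.subgroupOf E₁).index = p :=
      Nat.eq_of_mul_eq_mul_right (Nat.card_pos (α := K)) (hidx.trans (hcE.symm.trans (mul_comm _ _)))
    have h := PGroup.card_le_card_inf_mul_index (K.subgroupOf E₁) (K'.subgroupOf E₁)
    rw [hidx', Nat.card_congr (Subgroup.subgroupOfEquivOfLe hKE₁).toEquiv,
      show K.subgroupOf E₁ ⊓ K'.subgroupOf E₁ = (K ⊓ K').subgroupOf E₁ from rfl,
      Nat.card_congr (Subgroup.subgroupOfEquivOfLe (inf_le_left.trans hKE₁ : K ⊓ K' ≤ E₁)).toEquiv, hcK,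
      mul_comm p] at h
    exact Nat.le_of_mul_le_mul_right h hp.out.pos
  -- the radical gives an invariant chain
  set R := E₁ ⊓ cenMod ψ (E₁ : Set S) with hR
  have hRk : d.A E₁ ≤ keep E₁ R := fun β hβ => mem_keep_of_maps fun e he => by
    refine Subgroup.mem_inf.2 ⟨(β e).2, mem_cenMod.2 fun f hf => ?_⟩
    obtain ⟨f', hf'⟩ := β.surjective ⟨f, hf⟩
    have h := d.comm_image_mem h₁ (d.keep_psiSub h₁) hβ (g := f') (mem_cenMod.1 he.2 f' f'.2)
    rwa [hf'] at h
  have hLR : L ≤ R := fun l hl => Subgroup.mem_inf.2 ⟨hKE₁ (hLK hl),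
    mem_cenMod.2 fun e he => hrad l (hLK hl) (hLeq.ge hl).2 e he⟩
  have hRK : ∀ r ∈ R, r ∈ K := by
    intro r hr
    by_contra hrK
    refine hax (hψF ?_)
    obtain ⟨i, hi⟩ := d.exists_pow h₂ (fun h => hrK (Subgroup.mem_inf.2 ⟨hr.1, h⟩)) x
    have h1 : r ∈ cenMod ψ ({a} : Set S) :=
      mem_cenMod.2 fun w hw => (Set.mem_singleton_iff.1 hw).symm ▸ mem_cenMod.1 hr.2 a (hKE₁ ha)
    have h2 : (r ^ i)⁻¹ * x ∈ cenMod ψ ({a} : Set S) :=
      mem_cenMod.2 fun w hw => (Set.mem_singleton_iff.1 hw).symm ▸ hiso _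
        (Subgroup.mem_inf.2 ⟨mul_mem (inv_mem (pow_mem hr.1 i)) hx, hi⟩) a ha
    have h3 := mul_mem (pow_mem h1 i) h2
    rw [mul_inv_cancel_left] at h3
    exact mem_cenMod.1 h3 a rfl
  haveI : R.Normal := d.normal_of_keep h₁ inf_le_left hRk
  refine d.false_of_series h₁ hS hyE (fun i => match i with | 0 => frat E₁ | 1 => R | _ => E₁) 2 rfl rfl ?_ ?_ ?_
  · intro i hi
    rcases i with _ | _ | i
    · exact hF₁L.trans hLR
    · exact inf_le_left
    · omega
  · intro i hi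
    rcases i with _ | _ | _ | i
    · exact d.keep_frat h₁
    · exact hRk
    · exact d.keep_self h₁
    · omega
  · intro i hi q hq
    rcases i with _ | _ | i
    · exact hfK₁ (comm_swap (hKy q (hRK q hq) y hy))
    · obtain ⟨j, hj⟩ := hgenE₁ q hq
      have h1 : x ∈ cenMod R ({y} : Set S) :=
        mem_cenMod.2 fun w hw => (Set.mem_singleton_iff.1 hw).symm ▸ hLR hu
      have h2 : (x ^ j)⁻¹ * q ∈ cenMod R ({y} : Set S) :=
        mem_cenMod.2 fun w hw => (Set.mem_singleton_iff.1 hw).symm ▸ hLR (hF₁L (hfK₁ (hKy _ hj y hy)))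
      have h3 := mul_mem (pow_mem h1 j) h2
      rw [mul_inv_cancel_left] at h3
      exact comm_swap (mem_cenMod.1 h3 y rfl)
    · omega

end Pre

end Cfsg.Agent.NormalEss
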