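import Cfsg.Agent.Lib.SectionalThree.Main
import Cfsg.Agent.Lib.NormalEss.Datum

/-!
# The data of a saturated system whose essential subgroups are normal

`exists_datum` : for a saturated system over a `p`-group of sectional rank at most three (`p` odd) with trivial
core and every essential subgroup normal, a `Datum` on the group `S`.
-/

set_option autoImplicit false
set_option linter.unusedSectionVars false
set_option linter.style.haveILetI false
set_option maxHeartbeats 1000000

namespace Cfsg.Agent.NormalEss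

open Cfsg Cfsg.FusionSystem Cfsg.Agent.Fusion

universe u

variable {p : ℕ} [hp : Fact p.Prime] {Ω : Type u} [Group Ω] {S : Subgroup Ω} [Finite S] {F : FusionSystem S}

/-- Transporting a strongly embedded subgroup. -/
theorem strongly_map {G H : Type*} [Group G] [Group H] [Finite G] (e : G ≃* H) {M : Subgroup G}
    (h : Cfsg.IsStronglyPEmbedded p M) : Cfsg.IsStronglyPEmbedded p (M.map e.toMonoidHom) := by
  haveI : Finite H := Finite.of_equiv G e.toEquiv
  obtain ⟨h1, h2, P, hP⟩ := (StrongPEmb.isStronglyPEmbedded_iff_forall M).1 h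
  refine (StrongPEmb.isStronglyPEmbedded_iff_forall _).2 ⟨by rwa [← Nat.card_congr e.toEquiv],
    fun ht => h2 ?_, P.mapSurjective (f := e.toMonoidHom) e.surjective, fun Q hQ hne n hn => ?_⟩
  · exact (Subgroup.eq_top_iff' M).2 fun g =>
      (Subgroup.mem_map_iff_mem e.injective).1 (ht.ge (Subgroup.mem_top (e g)))
  · obtain ⟨n, rfl⟩ := e.surjective n
    refine Subgroup.mem_map_of_mem e.toMonoidHom (hP (Q.comap e.toMonoidHom) ?_ (fun hb => hne ?_) ?_)
    · intro g hg
      exact (Subgroup.mem_map_iff_mem e.injective).1 (hQ hg)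
    · refine (Subgroup.eq_bot_iff_forall Q).2 fun q hq => ?_
      obtain ⟨g, rfl⟩ := e.surjective q
      have : g ∈ Q.comap e.toMonoidHom := hq
      rw [hb, Subgroup.mem_bot] at this
      rw [this, map_one]
    · rw [Subgroup.mem_normalizer_iff] at hn ⊢
      intro g
      show e g ∈ Q ↔ e (n * g * n⁻¹) ∈ Q
      rw [map_mul, map_mul, map_inv]
      exact hn (e g)

/-- A normal essential subgroup has index `p`. -/
theorem index_eq (three : 3 ≤ p) (hS : IsPGroup p S) (hsr : Cfsg.SectionalPRankLE p 3 S) (hF : F.IsSaturated p)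
    {E : Subgroup Ω} (hE : F.IsEssential p E) (hnS : S ≤ Subgroup.normalizer (E : Set Ω)) :
    (E.subgroupOf S).index = p := by
  have hES : E ≤ S := hE.1.1
  haveI := finite_of_le (S := S) hES
  haveI := finite_mulAut (S := S) hES
  have hEp : IsPGroup p E := hS.to_le hES
  rcases SectionalThree.index_cases hS hsr hE hF with hrk | hrk
  · -- the image of `S` in the automorphisms of the Frattini quotient fixes a line
    set V := E ⧸ frattini E
    have hV : Nat.card V = p ^ 2 := by rw [← hrk, Subgroup.index_eq_card]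
    have hexp : ∀ v : V, v ^ p = 1 := fun v => QuotientGroup.induction_on v fun v => by
      rw [← QuotientGroup.mk_pow]; exact (QuotientGroup.eq_one_iff _).2 (PGroup.pow_mem_frattini hEp v)
    have hcm : ∀ a b : V, a * b = b * a := fun a b =>
      QuotientGroup.induction_on a fun a => QuotientGroup.induction_on b fun b => by
        refine commutatorElement_eq_one_iff_mul_comm.1 ?_
        exact (QuotientGroup.eq_one_iff _).2 (PGroup.commutatorElement_mem_frattini hEp a b)
    let Act : Resist.Act p F E V :=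
      { res := RankTwo.quotientAut (frattini E)
        faithful := fun α _ hc hα => SectionalThree.eq_one_of_frattini hEp hc hα }
    let f : S →* MulAut V := Act.r.comp (MonoidHom.mk' (SectionalThree.toN hnS) fun a b => Subtype.ext rfl)
    have hker : f.ker = E.subgroupOf S := by
      ext s
      exact Act.r_eq_one_iff hS hF hE hV hexp hcm (g := SectionalThree.toN hnS s)
    rw [← hker, Subgroup.index_ker]
    have hrp : IsPGroup p f.range := hS.of_surjective f.rangeRestrict f.rangeRestrict_surjective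
    haveI : Nontrivial V := Finite.one_lt_card_iff_nontrivial.1 (hV ▸ Nat.one_lt_pow two_ne_zero hp.out.one_lt)
    obtain ⟨e1, he1, hfix⟩ := Resist.exists_fixed (hEp.to_quotient (frattini E)) f.range hrp
    obtain ⟨v, hv⟩ : ∃ v : V, v ∉ Subgroup.zpowers e1 := by
      by_contra h
      push Not at h
      have h1 := Nat.card_congr (Equiv.subtypeUnivEquiv h)
      rw [show Nat.card {v : V // v ∈ Subgroup.zpowers e1} = orderOf e1 from Nat.card_zpowers e1,
        orderOf_eq_prime (hexp e1) he1, hV, pow_two] at h1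
      exact hp.out.one_lt.ne (Nat.eq_of_mul_eq_mul_left hp.out.pos (by rw [mul_one]; exact h1))
    let τ : f.range → Subgroup.zpowers e1 := fun w => ⟨(w : MulAut V) v * v⁻¹, by
      obtain ⟨k, hk⟩ := hrp w
      exact Resist.plane_transvection hV hexp hcm he1 _ (congrArg Subtype.val hk) (hfix _ w.2) v⟩
    have hτ : Function.Injective τ := fun w w' h => Subtype.ext
      (Resist.plane_ext hV hexp hcm he1 hv (by rw [hfix _ w.2, hfix _ w'.2])
        (mul_right_cancel (congrArg Subtype.val h)))
    have hle : Nat.card f.range ≤ p := (Nat.card_le_card_of_injective τ hτ).trans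
      (le_of_eq (by rw [Nat.card_zpowers, orderOf_eq_prime (hexp e1) he1]))
    refine le_antisymm hle ?_
    obtain ⟨x, hx, hxE⟩ := SetLike.exists_of_lt (Resist.lt_of_essential hS hF hE)
    haveI : Nontrivial f.range := (Subgroup.nontrivial_iff_ne_bot _).2 fun h => hxE
      ((hker.le (MonoidHom.mem_ker.2 (Subgroup.mem_bot.1 (h ▸ ⟨_, rfl⟩ : f ⟨x, hx⟩ ∈ (⊥ : Subgroup _))))) : _)
    obtain ⟨n, hn, hc⟩ := hrp.nontrivial_iff_card.1 ‹_›
    exact hc ▸ Nat.le_self_pow hn.ne' p
  · obtain ⟨hn, G, _, _, W, _, _, ⟨d⟩⟩ := SectionalThree.exists_ess3_of_normal three hS hF hE hrk hnS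
    haveI := hn
    have hker : d.D.χ.ker = E.subgroupOf S := by
      ext v
      exact d.D.χ_eq_one v
    rw [← hker, Subgroup.index_ker, d.range_card]

/-- The isomorphism with the subgroup of the ambient group. -/
noncomputable def toΩ (X : Subgroup S) : X ≃* X.map S.subtype :=
  X.equivMapOfInjective S.subtype S.subtype_injective

/-- The automorphisms of the system on a subgroup of `S`. -/
noncomputable def autOn (F : FusionSystem S) (X : Subgroup S) : Subgroup (MulAut X) :=
  (F.autGroup (X.map S.subtype)).comap (MulAut.congr (toΩ X)).toMonoidHom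

theorem congr_val {X : Subgroup S} (α : MulAut X) (e : X) :
    (((MulAut.congr (toΩ X) α) (toΩ X e) : X.map S.subtype) : Ω) = ((α e : X) : S) := by
  show ((toΩ X (α ((toΩ X).symm (toΩ X e))) : X.map S.subtype) : Ω) = _
  rw [MulEquiv.symm_apply_apply]
  rfl

theorem autFn_congr {X : Subgroup S} (α : MulAut X) (e : X) :
    autFn (MulAut.congr (toΩ X) α) ((e : S) : Ω) = (((α e : X) : S) : Ω) := by
  rw [show ((e : S) : Ω) = (toΩ X e : Ω) from rfl, autFn_apply _ (toΩ X e).2, Subtype.coe_eta, congr_val]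

theorem exists_congr {X : Subgroup S} (β : MulAut (X.map S.subtype)) :
    ∃ α : MulAut X, MulAut.congr (toΩ X) α = β :=
  (MulAut.congr (toΩ X)).surjective β

theorem le_subtype {E : Subgroup Ω} (X : Subgroup S) (h : X = E.subgroupOf S) (hES : E ≤ S) :
    X.map S.subtype = E := by
  rw [h, Subgroup.subgroupOf_map_subtype, inf_eq_left.2 hES]

/-- The data of a family of normal essential subgroups invariant under the automorphisms of `S`. -/
theorem exists_pre (three : 3 ≤ p) (hS : IsPGroup p S) (hsr : Cfsg.SectionalPRankLE p 3 S)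
    (hF : F.IsSaturated p) (Q : Subgroup S → Prop) (hess : ∀ X, Q X → F.IsEssential p (X.map S.subtype))
    (hnorm : ∀ X, Q X → S ≤ Subgroup.normalizer ((X.map S.subtype : Subgroup Ω) : Set Ω))
    (htrans : ∀ σ : MulAut S, σ ∈ F.autGroup S → ∀ X, Q X →
      F.IsEssential p ((X.map σ.toMonoidHom).map S.subtype) → Q (X.map σ.toMonoidHom)) :
    ∃ d : Pre p S, d.Aut = F.autGroup S ∧ d.ess = {X | Q X} ∧ d.A = autOn F := by
  haveI := finite_mulAut (S := S) (P := S) le_rfl
  have hsylS := (isFullyAutomized_iff.1 (fullyAutomized_of_fullyNormalized hS hF (isFullyNormalized_self F))).2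
  let ess : Set (Subgroup S) := {X | Q X}
  have hnormal : ∀ X ∈ ess, X.Normal := fun X hX => ⟨fun e he s => by
    have h := (Subgroup.mem_normalizer_iff.1 (hnorm X hX s.2) (e : Ω)).1 ⟨e, he, rfl⟩
    exact (Subgroup.mem_map_iff_mem S.subtype_injective).1 h⟩
  have hsub : ∀ X : Subgroup S, (X.map S.subtype).subgroupOf S = X := fun X =>
    Subgroup.comap_map_eq_self_of_injective S.subtype_injective X
  have hNS : ∀ X ∈ ess, normalizerIn S (X.map S.subtype) = S := fun X hX =>
    le_antisymm inf_le_left fun s hs => ⟨hs, hnorm _ hX hs⟩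
  -- conjugation
  have hconj : ∀ X ∈ ess, ∀ α : MulAut X, α ∈ conjSub X ↔
      MulAut.congr (toΩ X) α ∈ autInducedBy S (X.map S.subtype) := by
    intro X hX α
    rw [mem_autInducedBy_iff]
    refine ⟨fun ⟨s, hs⟩ => ⟨s, s.2, fun y => ?_⟩, fun ⟨g, hg, hgy⟩ => ⟨⟨g, hg⟩, fun e => ?_⟩⟩
    · obtain ⟨e, rfl⟩ := (toΩ X).surjective y
      rw [congr_val]
      exact congrArg Subtype.val (hs e)
    · refine Subtype.ext ?_
      have h := hgy (toΩ X e)
      rw [congr_val] at h
      exact h
  refine ⟨{
    Aut := F.autGroup S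
    ess := ess
    A := autOn F
    conj_mem := fun s => (mem_autGroup_iff le_rfl).2
      ((IsMap.conj le_rfl s.2).congr fun y hy => by rw [autFn_apply _ hy]; rfl)
    pfix := fun σ hσ hk => ?_
    normal := hnormal
    index := fun X hX => by
      have h := index_eq three hS hsr hF (hess X hX) (hnorm _ hX)
      rwa [hsub] at h
    centric := fun X hX s hs => ?_
    conj_le := fun X hX α hα => autInducedBy_le_autGroup F le_rfl (Subgroup.map_subtype_le X) ((hconj X hX α).1 hα)
    sylow := fun X hX Q hPQ hQA hQ => ?_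
    notnormal := fun X hX => ?_
    extend := fun X hX g hg hn => ?_
    transport := fun σ hσ X hX => ?_
    }, rfl, rfl, rfl⟩
  · obtain ⟨k, hk⟩ := hk
    have hσp : IsPGroup p (Subgroup.zpowers σ) := by
      rintro ⟨y, hy⟩
      obtain ⟨i, rfl⟩ := Subgroup.mem_zpowers_iff.1 hy
      exact ⟨k, Subtype.ext (show (σ ^ i) ^ p ^ k = 1 by
        rw [← zpow_natCast, ← zpow_mul, mul_comm, zpow_mul, zpow_natCast, hk, one_zpow])⟩
    set I := autInducedBy S S with hI
    have hnormI : Subgroup.zpowers σ ≤ Subgroup.normalizer (I : Set (MulAut S)) := by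
      refine Subgroup.zpowers_le.2 (RankThreeEss.mem_normalizer_iff_of_finite.2 fun β hβ => ?_)
      obtain ⟨g, hg, e⟩ := mem_autInducedBy_iff.1 hβ
      refine mem_autInducedBy_iff.2 ⟨σ ⟨g, hg⟩, (σ ⟨g, hg⟩).2, fun x => ?_⟩
      obtain ⟨x, rfl⟩ := σ.surjective x
      rw [MulAut.mul_apply, MulAut.mul_apply, MulAut.inv_apply_self]
      have : β x = ⟨g, hg⟩ * x * (⟨g, hg⟩ : S)⁻¹ := Subtype.ext (by simpa using e x)
      rw [this, map_mul, map_mul, map_inv]
      rfl
    have hsup := (isPGroup_autInducedBy hS).to_sup_of_normal_left' hσp hnormI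
    have heq := hsylS.2.2 _ le_sup_left (sup_le hsylS.le (Subgroup.zpowers_le.2 hσ)) hsup
    obtain ⟨g, hg, e⟩ := mem_autInducedBy_iff.1 (heq.le (Subgroup.mem_sup_right (Subgroup.mem_zpowers σ)))
    exact ⟨⟨g, hg⟩, MulEquiv.ext fun x => Subtype.ext (by rw [e x]; rfl)⟩
  · refine (Subgroup.mem_map_iff_mem S.subtype_injective).1
      (FusionChain.centralizerIn_le_of_centric (hess X hX).1 (mem_centralizerIn.2 ⟨s.2, ?_⟩))
    rintro _ ⟨e, he, rfl⟩
    exact congrArg Subtype.val (hs e he).eq
  · haveI := finite_mulAut (S := S) (Subgroup.map_subtype_le X)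
    have hsyl := (isFullyAutomized_iff.1 (fullyAutomized_of_fullyNormalized hS hF (hess X hX).2.1)).2
    have h : Q.map (MulAut.congr (toΩ X)).toMonoidHom = autInducedBy S (X.map S.subtype) := by
      refine hsyl.2.2 _ (fun β hβ => ?_) (fun β hβ => ?_) (hQ.map _)
      · obtain ⟨α, rfl⟩ := exists_congr β
        exact ⟨α, hPQ ((hconj X hX α).2 hβ), rfl⟩
      · obtain ⟨α, hα, rfl⟩ := hβ
        exact hQA hα
    refine le_antisymm (fun α hα => (hconj X hX α).2 (h ▸ ⟨α, hα, rfl⟩)) hPQ
  · by_contra hcon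
    push Not at hcon
    obtain ⟨x, hx, hxE⟩ := SetLike.exists_of_lt (Resist.lt_of_essential hS hF (hess X hX))
    have hle := Resist.le_inn_of_normal hS (hess X hX) (autInducedBy S (X.map S.subtype))
      (autInducedBy_le_autGroup F le_rfl (Subgroup.map_subtype_le X)) (fun γ hγ β hβ => ?_)
      (isPGroup_autInducedBy hS)
    · exact hxE (Resist.mem_of_inn (hess X hX) (g := ⟨x, (hNS X hX).ge hx⟩)
        (hle (Resist.normConj_mem F (Subgroup.map_subtype_le X) _).1))
    · obtain ⟨g, rfl⟩ := exists_congr γ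
      obtain ⟨α, rfl⟩ := exists_congr β
      rw [← map_inv, ← map_mul, ← map_mul]
      exact (hconj X hX _).1 (hcon g hγ α ((hconj X hX α).2 hβ))
  · obtain ⟨f, hf, hfα⟩ := FusionChain.exists_extension (receptive_of_fullyNormalized hS hF (hess X hX).2.1) hg
      (le_refl (normalizerIn S (X.map S.subtype))) fun t ht => by
        obtain ⟨α, hα⟩ := exists_congr (normConj S (X.map S.subtype) ⟨t, ht⟩)
        have h1 : α ∈ conjSub X := (hconj X hX α).2 (by rw [hα]; exact (Resist.normConj_mem F (Subgroup.map_subtype_le X) _).1)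
        have h2 := (hconj X hX _).1 (hn α h1)
        rw [map_mul, map_mul, map_inv, hα] at h2
        exact h2
    have hfS : IsMap F S f := hf.mono ((hNS X hX).ge.trans le_sup_right)
    let τ : MulAut S := MulEquiv.ofBijective
      (MonoidHom.mk' (fun s : S => (⟨f s, hfS.mem s.2⟩ : S)) fun a b => Subtype.ext (hfS.map_mul a.2 b.2))
      (Finite.injective_iff_bijective.1 fun a b h => Subtype.ext (hfS.inj a.2 b.2 (congrArg Subtype.val h)))
    refine ⟨τ, (mem_autGroup_iff le_rfl).2 (hfS.congr fun y hy => by rw [autFn_apply τ hy]; rfl), fun e => ?_⟩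
    refine Subtype.ext ?_
    show f ((e : S) : Ω) = _
    rw [hfα ((e : S) : Ω) (Subgroup.mem_map_of_mem S.subtype e.2)]
    exact autFn_congr g e
  · -- transport along an automorphism of `S`
    set X' := X.map σ.toMonoidHom with hX'
    let θ : X ≃* X' := σ.subgroupMap X
    have hσf := (isIso_autFn (F := F) le_rfl hσ)
    have hσv : ∀ s : S, autFn σ (s : Ω) = (σ s : Ω) := fun s => by rw [autFn_apply σ s.2]
    have himg : img (autFn σ) (X.map S.subtype) = X'.map S.subtype := by
      refine Subgroup.ext fun y => ?_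
      rw [hσf.1.mem_img_iff (Subgroup.map_subtype_le X)]
      constructor
      · rintro ⟨_, ⟨e, he, rfl⟩, rfl⟩
        exact ⟨σ e, Subgroup.mem_map_of_mem σ.toMonoidHom he, (hσv e).symm⟩
      · rintro ⟨_, ⟨e, he, rfl⟩, rfl⟩
        exact ⟨_, ⟨e, he, rfl⟩, hσv e⟩
    have hiso : IsIso F (X.map S.subtype) (X'.map S.subtype) (autFn σ) :=
      himg ▸ hσf.mono (Subgroup.map_subtype_le X)
    have hconjX : F.IsConj (X.map S.subtype) (X'.map S.subtype) := isConj_iff.2 ⟨_, hiso⟩
    -- automorphisms correspond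
    let c : MulAut X ≃* MulAut X' := MulAut.congr θ
    have hc : ∀ (α : MulAut X) (e : X), ((c α (θ e) : X') : S) = σ ((α e : X) : S) := fun α e => by
      show ((θ (α (θ.symm (θ e))) : X') : S) = _
      rw [MulEquiv.symm_apply_apply]
      rfl
    have hA : ∀ α : MulAut X, c α ∈ autOn F X' ↔ α ∈ autOn F X := by
      intro α
      have hcalc : ∀ e : X, autFn (MulAut.congr (toΩ X') (c α)) (autFn σ ((e : S) : Ω)) =
          autFn σ (autFn (MulAut.congr (toΩ X) α) ((e : S) : Ω)) := fun e => by
        rw [autFn_congr, hσv, hσv, show σ (e : S) = ((θ e : X') : S) from rfl, autFn_congr, hc]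
      show MulAut.congr (toΩ X') (c α) ∈ F.autGroup _ ↔ MulAut.congr (toΩ X) α ∈ F.autGroup _
      constructor
      · intro h
        obtain ⟨g, hg, hgσ, -⟩ := hiso.symm
        have hh := (hiso.trans (isIso_autFn (Subgroup.map_subtype_le X') h)).trans hg
        refine (mem_autGroup_iff (Subgroup.map_subtype_le X)).2 (hh.1.congr fun y hy => ?_)
        obtain ⟨e, he, rfl⟩ := hy
        show g (autFn _ (autFn σ ((⟨e, he⟩ : X) : S) : Ω)) = _
        rw [hcalc, hgσ (autFn (MulAut.congr (toΩ X) α) ((e : S) : Ω))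
          (autFn_mem _ (Subgroup.mem_map_of_mem S.subtype he))]
        rfl
      · intro h
        obtain ⟨g, hg, hgσ, -⟩ := hiso.symm
        have hh := (hg.trans (isIso_autFn (Subgroup.map_subtype_le X) h)).trans hiso
        refine (mem_autGroup_iff (Subgroup.map_subtype_le X')).2 (hh.1.congr fun y hy => ?_)
        obtain ⟨z, hz, rfl⟩ := hiso.exists_eq hy
        obtain ⟨e, he, rfl⟩ := hz
        show autFn σ (autFn _ (g (autFn σ (e : Ω)))) = _
        rw [hgσ (e : Ω) (Subgroup.mem_map_of_mem S.subtype he)]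
        exact (hcalc ⟨e, he⟩).symm
    refine ⟨X', htrans σ hσ X hX ⟨?_, ?_, ?_⟩, fun s => (Subgroup.mem_map_iff_mem σ.injective).symm, fun β hβ => ?_⟩
    · refine ⟨Subgroup.map_subtype_le X', fun Q hQ => (hess X hX).1.2 Q (isConj_trans hconjX hQ)⟩
    · refine ⟨Subgroup.map_subtype_le X', fun Q hQ => ?_⟩
      have h1 : normalizerIn S (X'.map S.subtype) = S := by
        refine le_antisymm inf_le_left fun s hs => ⟨hs, ?_⟩
        haveI := hnormal X hX
        have hn' : X'.Normal := Subgroup.Normal.map inferInstance _ σ.surjective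
        refine Subgroup.mem_normalizer_iff.2 fun y => ⟨?_, fun hy => ?_⟩
        · rintro ⟨e, he, rfl⟩
          exact ⟨⟨s, hs⟩ * e * (⟨s, hs⟩ : S)⁻¹, hn'.conj_mem e he _, rfl⟩
        · obtain ⟨e, he, heq⟩ := hy
          refine ⟨(⟨s, hs⟩ : S)⁻¹ * e * (⟨s, hs⟩ : S), by simpa using hn'.conj_mem e he (⟨s, hs⟩ : S)⁻¹, ?_⟩
          show s⁻¹ * (e : Ω) * s = y
          rw [show (e : Ω) = s * y * s⁻¹ from heq]
          group
      rw [h1]
      exact Subgroup.card_le_of_le inf_le_left
    · haveI := finite_mulAut (S := S) (Subgroup.map_subtype_le X)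
      obtain ⟨hN, M, hM⟩ := (hess X hX).2.2
      let C : MulAut (X.map S.subtype) ≃* MulAut (X'.map S.subtype) :=
        ((MulAut.congr (toΩ X)).symm.trans c).trans (MulAut.congr (toΩ X'))
      have hCA : (F.autGroup (X.map S.subtype)).map C.toMonoidHom = F.autGroup (X'.map S.subtype) := by
        refine Subgroup.ext fun β => ?_
        obtain ⟨α', rfl⟩ := exists_congr β
        obtain ⟨α, rfl⟩ := c.surjective α'
        have e : MulAut.congr (toΩ X') (c α) = C (MulAut.congr (toΩ X) α) :=
          (congrArg (fun β => MulAut.congr (toΩ X') (c β)) ((MulAut.congr (toΩ X)).symm_apply_apply α)).symm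
        rw [e]
        refine (Subgroup.mem_map_iff_mem (f := C.toMonoidHom) C.injective).trans ?_
        rw [← e]
        exact (hA α).symm
      let ψ : F.autGroup (X.map S.subtype) ≃* F.autGroup (X'.map S.subtype) :=
        (C.subgroupMap _).trans (MulEquiv.subgroupCongr hCA)
      have hI : ((Cfsg.Inn (X.map S.subtype)).subgroupOf (F.autGroup _)).map ψ.toMonoidHom =
          (Cfsg.Inn (X'.map S.subtype)).subgroupOf (F.autGroup _) := by
        have hCI : ∀ α, α ∈ Cfsg.Inn (X.map S.subtype) ↔ C α ∈ Cfsg.Inn (X'.map S.subtype) := by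
          intro α
          let φ : X.map S.subtype ≃* X'.map S.subtype := ((toΩ X).symm.trans θ).trans (toΩ X')
          have hφ : ∀ γ, C γ = MulAut.congr φ γ := fun γ => MulEquiv.ext fun y => rfl
          constructor
          · rintro ⟨e, rfl⟩
            refine ⟨φ e, ?_⟩
            rw [hφ]
            refine MulEquiv.ext fun y => ?_
            show φ e * y * (φ e)⁻¹ = φ (e * φ.symm y * e⁻¹)
            rw [map_mul, map_mul, map_inv, φ.apply_symm_apply]
          · rintro ⟨e, he⟩
            refine ⟨φ.symm e, MulEquiv.ext fun y => φ.injective ?_⟩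
            have h := congrArg (fun γ : MulAut (X'.map S.subtype) => γ (φ y)) he
            rw [hφ] at h
            show φ (φ.symm e * y * (φ.symm e)⁻¹) = _
            rw [map_mul, map_mul, map_inv, φ.apply_symm_apply]
            refine h.trans ?_
            show φ (α (φ.symm (φ y))) = _
            rw [φ.symm_apply_apply]
        refine Subgroup.ext fun β => ⟨?_, fun hβ => ?_⟩
        · rintro ⟨α, hα, rfl⟩
          exact (hCI _).1 hα
        · obtain ⟨α, rfl⟩ := ψ.surjective β
          exact ⟨α, (hCI _).2 hβ, rfl⟩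
      haveI hN' := inn_subgroupOf_normal F (X'.map S.subtype)
      haveI := hN
      exact ⟨hN', _, strongly_map (QuotientGroup.congr _ _ ψ hI) hM⟩
    · obtain ⟨α, rfl⟩ := c.surjective β
      refine ⟨α, (hA α).1 hβ, fun e e' he' => ?_⟩
      obtain rfl : θ e = e' := Subtype.ext he'.symm
      exact hc α e

/-- The data of the system. -/
theorem exists_datum (three : 3 ≤ p) (hS : IsPGroup p S) (hsr : Cfsg.SectionalPRankLE p 3 S)
    (hF : F.IsSaturated p) (hO : F.core = ⊥)
    (hnorm : ∀ E : Subgroup Ω, F.IsEssential p E → S ≤ Subgroup.normalizer (E : Set Ω)) :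
    Nonempty (Datum p S) := by
  obtain ⟨d, hAut, hess, hA⟩ := exists_pre three hS hsr hF (fun X => F.IsEssential p (X.map S.subtype))
    (fun _ h => h) (fun _ h => hnorm _ h) (fun _ _ _ _ h => h)
  refine ⟨{ d with eq_bot := fun Q hQS hQE => ?_ }⟩
  rw [hAut] at hQS
  rw [hess, hA] at hQE
  by_contra hne
  refine hne ((Subgroup.map_eq_bot_iff_of_injective Q S.subtype_injective).1
    (FusionAbelianIndex.eq_bot_of_normal hO (isNormal_of_essentials hS hF (Subgroup.map_subtype_le Q) fun R hR => ?_)))
  rcases hR with rfl | hR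
  · refine ⟨Subgroup.map_subtype_le Q, ?_⟩
    rintro α hα _ ⟨q, hq, rfl⟩
    exact ⟨α q, hQS α hα q hq, (autFn_apply α q.2).symm⟩
  · obtain ⟨X, rfl⟩ : ∃ X : Subgroup S, X.map S.subtype = R :=
      ⟨R.subgroupOf S, le_subtype _ rfl hR.1.1⟩
    obtain ⟨h1, h2⟩ := hQE X hR
    refine ⟨Subgroup.map_mono h1, ?_⟩
    rintro β hβ _ ⟨q, hq, rfl⟩
    obtain ⟨α, rfl⟩ := exists_congr β
    refine ⟨((α ⟨q, h1 hq⟩ : X) : S), (h2 hβ _).2 hq, ?_⟩
    exact (autFn_congr α ⟨q, h1 hq⟩).symm


end Cfsg.Agent.NormalEss
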