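import Cfsg.Agent.Lib.NormalEss.Common

/-!
# Orbits and centralizers modulo a normal subgroup

* `cenMod Z X` : the elements commuting with `X` modulo `Z`;
* `Pre.orb E X` : the subgroup generated by the images of `X` under `Aut(E)`;
* `card_commutator_le_prime` : in sectional rank three a class two group of exponent `p` has derived subgroup of
  order at most `p`.
-/

set_option autoImplicit false
set_option linter.unusedSectionVars false
set_option linter.style.haveILetI false
set_option maxHeartbeats 1000000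

namespace Cfsg.Agent.NormalEss

open scoped commutatorElement

universe u

variable {p : ℕ} [hp : Fact p.Prime] {S : Type u} [Group S]

instance omegaZ_normal : (omegaZ p S).Normal :=
  ⟨fun z hz s => by rw [(commute_omegaZ hz s).eq, mul_inv_cancel_right]; exact hz⟩

/-- The elements commuting with `X` modulo `Z`. -/
def cenMod (Z : Subgroup S) [Z.Normal] (X : Set S) : Subgroup S :=
  (Subgroup.centralizer (QuotientGroup.mk' Z '' X)).comap (QuotientGroup.mk' Z)

theorem mem_cenMod {Z : Subgroup S} [Z.Normal] {X : Set S} {t : S} :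
    t ∈ cenMod Z X ↔ ∀ x ∈ X, ⁅t, x⁆ ∈ Z := by
  rw [cenMod, Subgroup.mem_comap, Subgroup.mem_centralizer_iff, Set.forall_mem_image]
  refine forall₂_congr fun x _ => ?_
  rw [← QuotientGroup.eq_one_iff]
  show _ ↔ QuotientGroup.mk' Z ⁅t, x⁆ = 1
  rw [map_commutatorElement, commutatorElement_eq_one_iff_mul_comm]
  exact eq_comm

theorem comm_swap {Z : Subgroup S} {a b : S} (h : ⁅a, b⁆ ∈ Z) : ⁅b, a⁆ ∈ Z :=
  commutatorElement_inv a b ▸ inv_mem h

theorem pow_of_gens (hp2 : p ≠ 2) {s : Set S} (hs : ∀ a ∈ s, a ^ p = 1)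
    (hcl : ∀ a ∈ Subgroup.closure s, ∀ b ∈ Subgroup.closure s, ∀ c ∈ Subgroup.closure s, Commute c ⁅a, b⁆)
    {a : S} (ha : a ∈ Subgroup.closure s) : a ^ p = 1 := by
  have h := PGroup.exponent_omega_classTwo (G := Subgroup.closure s) hp.out hp2
    (fun u v => Subgroup.mem_center_iff.2 fun w => Subtype.ext (hcl u u.2 v v.2 w w.2).eq) (g := ⟨a, ha⟩) ?_
  · simpa using congrArg Subtype.val h
  · refine Subgroup.closure_mono ?_ ((Subgroup.closure_closure_coe_preimage (k := s)).ge (Subgroup.mem_top _))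
    exact fun u hu => Subtype.ext (by simpa using hs _ hu)

/-- A step towards generators. -/
theorem exists_gen_step {Q : Type*} [Group Q] [Finite Q] (hQ : IsPGroup p Q) (H : Subgroup Q) {k : ℕ}
    (h : H.index ≤ p ^ (k + 1)) : ∃ e : Q, (H ⊔ Subgroup.zpowers e).index ≤ p ^ k := by
  by_cases hH : H = ⊤
  · exact ⟨1, by rw [hH, top_sup_eq, Subgroup.index_top]; exact Nat.one_le_pow _ _ hp.out.pos⟩
  obtain ⟨e, -, he⟩ := SetLike.exists_of_lt (lt_top_iff_ne_top.2 hH)
  refine ⟨e, ?_⟩
  set H' := H ⊔ Subgroup.zpowers e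
  have h1 := PGroup.mul_card_le_of_lt hQ (show H < H' from SetLike.lt_iff_le_and_exists.2
    ⟨le_sup_left, e, Subgroup.mem_sup_right (Subgroup.mem_zpowers e), he⟩)
  have h2 := H'.card_mul_index
  have h3 := H.card_mul_index
  refine Nat.le_of_mul_le_mul_left ?_ (Nat.mul_pos hp.out.pos (Nat.card_pos (α := H)))
  calc p * Nat.card H * H'.index ≤ Nat.card H' * H'.index := Nat.mul_le_mul h1 le_rfl
    _ = Nat.card H * H.index := h2.trans h3.symm
    _ ≤ Nat.card H * p ^ (k + 1) := Nat.mul_le_mul le_rfl h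
    _ = p * Nat.card H * p ^ k := by ring

theorem card_commutator_le_prime {Q : Type*} [Group Q] [Finite Q] (hsr : Cfsg.SectionalPRankLE p 3 Q)
    (hexp : ∀ q : Q, q ^ p = 1) (hcen : ∀ u v : Q, ⁅u, v⁆ ∈ Subgroup.center Q) :
    Nat.card (_root_.commutator Q) ≤ p := by
  have hQ : IsPGroup p Q := fun q => ⟨1, by rw [pow_one]; exact hexp q⟩
  set D := _root_.commutator Q with hD
  have hfr : ∀ s : Set Q, D ⊔ Subgroup.closure s = ⊤ → Subgroup.closure s = ⊤ := fun s hs =>
    frattini_nongenerating (top_le_iff.1 (hs ▸ sup_le ((PGroup.commutator_le_frattini hQ).trans le_sup_right)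
      le_sup_left))
  have hle : D.index ≤ p ^ 3 := by
    have h := RankThreeEss.card_range_le hsr (U := (⊤ : Subgroup Q))
      ((QuotientGroup.mk' D).comp (⊤ : Subgroup Q).subtype) (fun a b => by
        refine commutatorElement_eq_one_iff_mul_comm.1 ?_
        show ⁅QuotientGroup.mk' D (a : Q), QuotientGroup.mk' D (b : Q)⁆ = 1
        rw [← map_commutatorElement]
        exact (QuotientGroup.eq_one_iff _).2
          (Subgroup.commutator_mem_commutator (Subgroup.mem_top _) (Subgroup.mem_top _)))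
      (fun a => by
        show QuotientGroup.mk' D (a : Q) ^ p = 1
        rw [← map_pow, hexp, map_one])
    rwa [MonoidHom.range_comp, Subgroup.range_subtype, QuotientGroup.range_mk' D |> fun h =>
      (MonoidHom.range_eq_map _).symm.trans h, Subgroup.card_top, ← Subgroup.index_eq_card] at h
  by_cases hbig : p ^ 3 ≤ D.index
  · obtain ⟨e₁, h1⟩ := exists_gen_step hQ D (k := 2) hle
    obtain ⟨e₂, h2⟩ := exists_gen_step hQ _ (k := 1) h1
    obtain ⟨e₃, h3⟩ := exists_gen_step hQ _ (k := 0) h2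
    have hgen : Subgroup.closure ({e₁, e₂, e₃} : Set Q) = ⊤ := hfr _ (by
      rw [pow_zero] at h3
      refine top_le_iff.1 ((Subgroup.index_eq_one.1 (le_antisymm h3
        (Nat.one_le_iff_ne_zero.2 Subgroup.index_ne_zero_of_finite))).ge.trans ?_)
      refine sup_le (sup_le (sup_le le_sup_left ?_) ?_) ?_ <;>
        exact (Subgroup.zpowers_le.2 (Subgroup.subset_closure (by simp))).trans le_sup_right)
    exact SectionalThree.card_commutator_le hexp hcen hbig hsr (MonoidHom.id Q) Function.surjective_id hgen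
  · have hlt : D.index ≤ p ^ 2 := by
      obtain ⟨n, hn⟩ := IsPGroup.iff_card.1 (hQ.to_quotient D)
      rw [← Subgroup.index_eq_card] at hn
      rw [hn] at hbig ⊢
      exact Nat.pow_le_pow_right hp.out.pos (by
        by_contra h
        exact hbig (Nat.pow_le_pow_right hp.out.pos (by omega)))
    obtain ⟨e₁, h1⟩ := exists_gen_step hQ D (k := 1) hlt
    obtain ⟨e₂, h2⟩ := exists_gen_step hQ _ (k := 0) h1
    have hgen : Subgroup.closure ({e₁, e₂} : Set Q) = ⊤ := hfr _ (by
      rw [pow_zero] at h2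
      refine top_le_iff.1 ((Subgroup.index_eq_one.1 (le_antisymm h2
        (Nat.one_le_iff_ne_zero.2 Subgroup.index_ne_zero_of_finite))).ge.trans ?_)
      refine sup_le (sup_le le_sup_left ?_) ?_ <;>
        exact (Subgroup.zpowers_le.2 (Subgroup.subset_closure (by simp))).trans le_sup_right)
    haveI : (Subgroup.zpowers ⁅e₁, e₂⁆).Normal := ⟨fun q hq z => by
      obtain ⟨i, rfl⟩ := Subgroup.mem_zpowers_iff.1 hq
      rw [Subgroup.mem_center_iff.1 (zpow_mem (hcen e₁ e₂) i) z, mul_inv_cancel_right]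
      exact zpow_mem (Subgroup.mem_zpowers _) i⟩
    have hD' : D ≤ Subgroup.zpowers ⁅e₁, e₂⁆ := by
      rw [hD, _root_.commutator_def, Subgroup.commutator_le]
      refine fun u _ v _ => commute_of_gens hgen ?_ u v
      rintro a (rfl | rfl) b (rfl | rfl)
      · rw [commutatorElement_self]; exact one_mem _
      · exact Subgroup.mem_zpowers _
      · exact comm_swap (Subgroup.mem_zpowers _)
      · rw [commutatorElement_self]; exact one_mem _
    refine (Subgroup.card_le_of_le hD').trans ?_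
    rw [Nat.card_zpowers]
    exact orderOf_le_of_pow_eq_one hp.out.pos (hexp _)

/-- A commutator with the first entry varying among elements commuting with the values. -/
theorem comm_mul_left {a b e : S} (h : Commute a ⁅b, e⁆) : ⁅a * b, e⁆ = ⁅b, e⁆ * ⁅a, e⁆ := by
  rw [show ⁅a * b, e⁆ = a * ⁅b, e⁆ * a⁻¹ * ⁅a, e⁆ by simp only [commutatorElement_def]; group, h.eq,
    mul_inv_cancel_right]

namespace Pre

variable [Finite S] (d : Pre p S)

/-- The subgroup generated by the images of `X`. -/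
def orb (E : Subgroup S) (X : Set S) : Subgroup S :=
  Subgroup.closure {s | ∃ α ∈ d.A E, ∃ e : E, (e : S) ∈ X ∧ ((α e : E) : S) = s}

include d

variable {E : Subgroup S} (hE : E ∈ d.ess)
include hE

theorem orb_le (X : Set S) : d.orb E X ≤ E := (Subgroup.closure_le _).2 (by
  rintro _ ⟨α, -, e, -, rfl⟩; exact (α e).2)

theorem image_mem_orb {X : Set S} {α : MulAut E} (hα : α ∈ d.A E) {e : E} (he : (e : S) ∈ X) :
    ((α e : E) : S) ∈ d.orb E X := Subgroup.subset_closure ⟨α, hα, e, he, rfl⟩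

theorem subset_orb {X : Set S} (hX : X ⊆ E) : X ⊆ d.orb E X := fun x hx =>
  Subgroup.subset_closure ⟨1, one_mem _, ⟨x, hX hx⟩, hx, rfl⟩

theorem keep_orb (X : Set S) : d.A E ≤ keep E (d.orb E X) := fun α hα => by
  haveI := d.finiteAut hE
  refine mem_keep_of_maps fun e he => ?_
  have key : ∀ v ∈ d.orb E X, ∀ hv : v ∈ E, ((α ⟨v, hv⟩ : E) : S) ∈ d.orb E X := by
    intro v hv
    induction hv using Subgroup.closure_induction with
    | mem y hy =>
      obtain ⟨β, hβ, z, hz, rfl⟩ := hy
      intro hv'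
      exact d.image_mem_orb hE (mul_mem hα hβ) hz
    | one => intro h; rw [show (⟨1, h⟩ : E) = 1 from rfl, map_one]; exact one_mem _
    | mul y y' hy hy' h1 h2 =>
      intro hv'
      have hyE : y ∈ E := d.orb_le hE X hy
      have hyE' : y' ∈ E := d.orb_le hE X hy'
      rw [show (⟨y * y', hv'⟩ : E) = ⟨y, hyE⟩ * ⟨y', hyE'⟩ from rfl, map_mul]
      exact mul_mem (h1 hyE) (h2 hyE')
    | inv y hy h1 =>
      intro hv'
      have hyE : y ∈ E := d.orb_le hE X hy
      rw [show (⟨y⁻¹, hv'⟩ : E) = (⟨y, hyE⟩ : E)⁻¹ from rfl, map_inv]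
      exact inv_mem (h1 hyE)
  exact key _ he e.2

theorem normal_of_keep {X : Subgroup S} (hXE : X ≤ E) (h : d.A E ≤ keep E X) : X.Normal :=
  ⟨fun v hv s => by
    rw [← d.cj_apply hE s ⟨v, hXE hv⟩]
    exact (h (d.cj_mem hE s) ⟨v, hXE hv⟩).2 hv⟩

theorem orb_normal (X : Set S) : (d.orb E X).Normal := d.normal_of_keep hE (d.orb_le hE X) (d.keep_orb hE X)

/-- The commutators of an image. -/
theorem comm_image_mem {Y : Subgroup S} (hY : d.A E ≤ keep E Y) {α : MulAut E} (hα : α ∈ d.A E) {f g : E}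
    (h : ⁅(f : S), (g : S)⁆ ∈ Y) : ⁅((α f : E) : S), ((α g : E) : S)⁆ ∈ Y := by
  have h2 := (hY hα ⁅f, g⁆).2 (by simpa [commutatorElement_def] using h)
  rw [map_commutatorElement] at h2
  simpa [commutatorElement_def] using h2

/-- The derived subgroup of an invariant subgroup is invariant. -/
theorem keep_commutator {W : Subgroup S} (hWE : W ≤ E) (h : d.A E ≤ keep E W) : d.A E ≤ keep E ⁅W, W⁆ :=
  fun α hα => by
  haveI := d.finiteAut hE
  refine mem_keep_of_maps fun e he => ?_
  have key : ∀ v ∈ ⁅W, W⁆, ∀ hv : v ∈ E, ((α ⟨v, hv⟩ : E) : S) ∈ ⁅W, W⁆ := by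
    intro v hv
    have hsub : ⁅W, W⁆ ≤ E := (Subgroup.commutator_le.2 fun a ha b hb => by
      rw [commutatorElement_def]
      exact mul_mem (mul_mem (mul_mem (hWE ha) (hWE hb)) (inv_mem (hWE ha))) (inv_mem (hWE hb)))
    rw [Subgroup.commutator_def] at hv
    induction hv using Subgroup.closure_induction with
    | mem y hy =>
      obtain ⟨a, ha, b, hb, rfl⟩ := hy
      intro hv'
      rw [show (⟨⁅a, b⁆, hv'⟩ : E) = ⁅(⟨a, hWE ha⟩ : E), (⟨b, hWE hb⟩ : E)⁆ from
        Subtype.ext (by simp [commutatorElement_def]), map_commutatorElement]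
      rw [show ((⁅α ⟨a, hWE ha⟩, α ⟨b, hWE hb⟩⁆ : E) : S) = ⁅((α ⟨a, hWE ha⟩ : E) : S), ((α ⟨b, hWE hb⟩ : E) : S)⁆
        by simp [commutatorElement_def]]
      exact Subgroup.commutator_mem_commutator ((h hα _).2 ha) ((h hα _).2 hb)
    | one => intro h; rw [show (⟨1, h⟩ : E) = 1 from rfl, map_one]; exact one_mem _
    | mul y y' hy hy' h1 h2 =>
      intro hv'
      rw [← Subgroup.commutator_def] at hy hy'
      have hyE : y ∈ E := hsub hy
      have hyE' : y' ∈ E := hsub hy'
      rw [show (⟨y * y', hv'⟩ : E) = ⟨y, hyE⟩ * ⟨y', hyE'⟩ from rfl, map_mul]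
      exact mul_mem (h1 hyE) (h2 hyE')
    | inv y hy h1 =>
      intro hv'
      rw [← Subgroup.commutator_def] at hy
      have hyE : y ∈ E := hsub hy
      rw [show (⟨y⁻¹, hv'⟩ : E) = (⟨y, hyE⟩ : E)⁻¹ from rfl, map_inv]
      exact inv_mem (h1 hyE)
  exact key _ he e.2

end Pre

end Cfsg.Agent.NormalEss
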