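import Cfsg.Agent.Lib.NormalEss.PairCentral
import Cfsg.Agent.Lib.NormalEss.ModelFacts

/-!
# The case in which the quotient by the core is the group of order `p ^ 4`

* `Pre.Pair.abelian_or_keep` : the member that is abelian modulo the core;
* `Pre.Pair.big_model`, `Pre.Pair.central_model` : the hypotheses `Big` and `Central`;
* `Pre.Pair.core_eq_bot` : the core is trivial; `Pre.Pair.shapes` : the two members.
-/

set_option autoImplicit false
set_option linter.unusedSectionVars false
set_option linter.style.haveILetI false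
set_option maxHeartbeats 1000000

namespace Cfsg.Agent.NormalEss

open scoped commutatorElement
open SectionalThree (RegularModel)

universe u

variable {p : ℕ} [hp : Fact p.Prime] {S : Type u} [Group S] [Finite S]

/-- An element conjugated in the same way by two others commutes with their commutator. -/
theorem commute_commutator_of_conj {Q : Type*} [Group Q] {X Y v v' : Q} (h1 : Y * X * v * (Y * X)⁻¹ = v')
    (h2 : X * Y * v * (X * Y)⁻¹ = v') : Commute v' ⁅X, Y⁆ := by
  show v' * ⁅X, Y⁆ = ⁅X, Y⁆ * v'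
  conv_lhs => rw [← h2]
  conv_rhs => rw [← h1]
  simp only [commutatorElement_def]
  group

namespace Model

variable {G : Type u} [Group G] [Finite G] (M : RegularModel p G)

theorem mem_zpowers_c_of_comm {g q : G} (hg : g ∉ A M) (hb : Commute q M.b) (hqg : Commute q g) :
    q ∈ Subgroup.zpowers M.c := by
  obtain ⟨i', j', k', l', rfl⟩ := coords M g
  have hl : l' ≠ 0 := by
    rintro rfl
    refine hg ?_
    simp only [SectionalThree.RegularModel.Data.φ, SectionalThree.RegularModel.Data.nf, ZMod.val_zero, pow_zero,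
      mul_one]
    exact mul_mem (mul_mem (Subgroup.mem_sup_left (pow_mem (Subgroup.mem_zpowers _) _))
      (Subgroup.mem_sup_right (pow_mem (b_mem_K M) _))) (Subgroup.mem_sup_right (pow_mem (c_mem_K M) _))
  obtain ⟨i, j, k, l, rfl⟩ := coords M q
  have h1 := hb.eq
  rw [b_eq, M.φ_mul, M.φ_mul] at h1
  have h1' := M.φ_bijective.1 h1
  simp [SectionalThree.RegularModel.mulV, SectionalThree.RegularModel.tri, ZMod.val_one, add_comm (1 : ZMod p)] at h1'
  have hl0 : l = 0 := by
    have := h1'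
    linear_combination h1'
  subst hl0
  have h2 := hqg.eq
  rw [M.φ_mul, M.φ_mul] at h2
  have h2' := M.φ_bijective.1 h2
  simp [SectionalThree.RegularModel.mulV, SectionalThree.RegularModel.tri, Prod.ext_iff] at h2'
  obtain ⟨-, h3, h4⟩ := h2'
  have hi : i = 0 := (mul_eq_zero.1 (show i * l' = 0 by linear_combination -h3)).resolve_right hl
  subst hi
  have hj : j = 0 := (mul_eq_zero.1 (show j * l' = 0 by linear_combination -h4)).resolve_right hl
  subst hj
  rw [← c_pow_eq]
  exact pow_mem (Subgroup.mem_zpowers _) _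

theorem b_not_mem : M.b ∉ Subgroup.zpowers M.c := fun h => by
  obtain ⟨n, hn⟩ := mem_powers_iff_mem_zpowers.2 h
  have h1 : M.φ (0, 0, (n : ZMod p), 0) = M.φ (0, 1, 0, 0) := by
    rw [← c_pow_eq, ZMod.val_natCast, ← SectionalThree.RegularModel.Data.pow_mod M.c_pow,
      show M.c ^ n = _ from hn, b_eq]
  have h2 := M.φ_bijective.1 h1
  simp at h2

end Model

namespace Pre

namespace Pair

variable {d : Pre p S} {N E E' : Subgroup S} [N.Normal]

local notation "π" => QuotientGroup.mk' N

theorem comap_facts (hP : Pair d N E E') (M : RegularModel p (S ⧸ N)) :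
    E' ⊓ E = (Model.K M).comap π ∧ Nat.card S = p ^ 4 * Nat.card N ∧ Nat.card E = p ^ 3 * Nat.card N := by
  have hπ : Function.Surjective π := QuotientGroup.mk'_surjective N
  have h1 := N.card_mul_index
  rw [Subgroup.index_eq_card, M.card] at h1
  have hS' : Nat.card S = p ^ 4 * Nat.card N := by rw [← h1, mul_comm]
  have hE : Nat.card E = p ^ 3 * Nat.card N := by
    refine Nat.eq_of_mul_eq_mul_right hp.out.pos ?_
    rw [d.card_mul_eq hP.mem, hS']
    ring
  have hK : Nat.card ((Model.K M).comap π) = p ^ 2 * Nat.card N := by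
    have h := card_map_mk (M := N) (V := (Model.K M).comap π) (fun n hn => by
      show π n ∈ Model.K M
      rw [show π n = 1 from (QuotientGroup.eq_one_iff n).2 hn]
      exact one_mem _)
    rw [Subgroup.map_comap_eq_self_of_surjective hπ, Model.card_K] at h
    rw [← h, mul_comm]
  have hle : (Model.K M).comap π ≤ E' ⊓ E := by
    have hmap : Model.K M ≤ (E' ⊓ E).map π := by
      obtain ⟨a, ha⟩ := hπ M.a
      obtain ⟨x, hx⟩ := hπ M.x
      have hmem : ∀ s t : S, ⁅π s, π t⁆ ∈ (E' ⊓ E).map π := fun s t =>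
        ⟨⁅s, t⁆, Subgroup.mem_inf.2 ⟨d.comm_mem hP.mem' s t, d.comm_mem hP.mem s t⟩, map_commutatorElement π s t⟩
      have hb : M.b ∈ (E' ⊓ E).map π := by
        rw [← Model.comm_xa M, ← ha, ← hx]; exact hmem x a
      refine sup_le (Subgroup.zpowers_le.2 hb) (Subgroup.zpowers_le.2 ?_)
      obtain ⟨b, hb'⟩ := hπ M.b
      rw [← Model.comm_xb M, ← hb', ← hx]
      exact hmem x b
    refine (Subgroup.comap_mono hmap).trans ?_
    rw [Subgroup.comap_map_eq, QuotientGroup.ker_mk']
    exact sup_le le_rfl hP.le_inf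
  refine ⟨(Subgroup.eq_of_le_of_card_ge hle ?_).symm, hS', hE⟩
  rw [hK]
  refine le_of_eq (Nat.eq_of_mul_eq_mul_right hp.out.pos ?_)
  rw [d.card_inf_mul hP.mem hP.mem' hP.ne, hE]
  ring

/-- The preimage of the centre of the model. -/
abbrev zc (M : RegularModel p (S ⧸ N)) : Subgroup S := (Subgroup.zpowers M.c).comap π

theorem le_zc (M : RegularModel p (S ⧸ N)) : N ≤ zc M := fun n hn => by
  show π n ∈ Subgroup.zpowers M.c
  rw [show π n = 1 from (QuotientGroup.eq_one_iff n).2 hn]
  exact one_mem _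

theorem zc_ne (M : RegularModel p (S ⧸ N)) : ¬ zc M ≤ N := fun h => by
  obtain ⟨c, hc⟩ := QuotientGroup.mk'_surjective N M.c
  refine Model.c_ne M ?_
  rw [← hc]
  exact (QuotientGroup.eq_one_iff c).2 (h (show π c ∈ Subgroup.zpowers M.c from hc ▸ Subgroup.mem_zpowers _))

theorem comm_zc {M : RegularModel p (S ⧸ N)} {q : S} (hq : q ∈ zc M) (s : S) : ⁅q, s⁆ ∈ N := by
  refine (QuotientGroup.eq_one_iff _).1 ?_
  show π ⁅q, s⁆ = 1
  rw [map_commutatorElement]
  obtain ⟨i, hi⟩ := Subgroup.mem_zpowers_iff.1 (show π q ∈ Subgroup.zpowers M.c from hq)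
  rw [← hi]
  exact commutatorElement_eq_one_iff_commute.2 ((Model.c_comm M (π s)).symm.zpow_left i)

theorem zc_aut (hP : Pair d N E E') (M : RegularModel p (S ⧸ N)) : ∀ σ ∈ d.Aut, ∀ q ∈ zc M, σ q ∈ zc M := by
  intro σ hσ q hq
  refine Model.center_le M fun t => ?_
  obtain ⟨s, rfl⟩ := QuotientGroup.mk'_surjective N t
  obtain ⟨r, rfl⟩ := σ.surjective s
  refine commutatorElement_eq_one_iff_commute.1 ?_
  rw [← map_commutatorElement π, ← map_commutatorElement σ]
  exact (QuotientGroup.eq_one_iff _).2 (hP.inv.aut σ hσ _ (comm_zc hq r))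

/-- A member nonabelian modulo the core keeps the preimage of the centre. -/
theorem keep_zc (hP : Pair d N E E') (M : RegularModel p (S ⧸ N)) (hne : E ≠ (Model.A M).comap π) :
    d.A E ≤ NormalEss.keep E (zc M) ∧ ∃ g ∈ E, π g ∉ Model.A M := by
  obtain ⟨hK, -, hcE⟩ := hP.comap_facts M
  obtain ⟨g, hg, hgA⟩ : ∃ g ∈ E, π g ∉ Model.A M := by
    by_contra h
    push Not at h
    refine hne (Subgroup.eq_of_le_of_card_ge (fun e he => h e he) ?_)
    have hπ : Function.Surjective π := QuotientGroup.mk'_surjective N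
    have h1 := card_map_mk (M := N) (V := (Model.A M).comap π) ((hP.inv.le E hP.mem).trans fun e he => h e he)
    rw [Subgroup.map_comap_eq_self_of_surjective hπ] at h1
    rw [← h1, hcE, mul_comm (p ^ 3)]
    refine Nat.mul_le_mul le_rfl ?_
    by_contra hgt
    push Not at hgt
    obtain ⟨k, hk⟩ := IsPGroup.iff_card.1 ((IsPGroup.of_card (n := 4) M.card).to_subgroup (Model.A M))
    have hk4 : k = 4 := by
      have h3 : 3 < k := (Nat.pow_lt_pow_iff_right hp.out.one_lt).1 (hk ▸ hgt)
      have h4 : p ^ k ≤ p ^ 4 := hk ▸ M.card ▸ Subgroup.card_le_card_group (Model.A M)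
      have := (Nat.pow_le_pow_iff_right hp.out.one_lt).1 h4
      omega
    have htop : Model.A M = ⊤ := Subgroup.eq_top_of_card_eq _ (by rw [hk, hk4, M.card])
    have h5 := (Model.A_comm M M.x (htop.ge (Subgroup.mem_top _)) M.b (htop.ge (Subgroup.mem_top _)))
    exact Model.c_ne M ((Model.comm_xb M).symm.trans (commutatorElement_eq_one_iff_commute.2 h5))
  refine ⟨?_, g, hg, hgA⟩
  have heq : zc M = cenMod N (E : Set S) ⊓ E := by
    refine le_antisymm (fun q hq => Subgroup.mem_inf.2 ⟨mem_cenMod.2 fun e _ => comm_zc hq e, ?_⟩) fun q hq => ?_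
    · exact (hK.ge ((Subgroup.comap_mono (Subgroup.zpowers_le.2 (Model.c_mem_K M))) hq)).2
    · refine Model.mem_zpowers_c_of_comm M hgA ?_ ?_
      · obtain ⟨b, hb⟩ := QuotientGroup.mk'_surjective N M.b
        have hbE : b ∈ E := (hK.ge (show π b ∈ Model.K M from hb ▸ Model.b_mem_K M)).2
        rw [← hb]
        refine commutatorElement_eq_one_iff_commute.1 ?_
        rw [← map_commutatorElement]
        exact (QuotientGroup.eq_one_iff _).2 (mem_cenMod.1 hq.1 b hbE)
      · refine commutatorElement_eq_one_iff_commute.1 ?_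
        rw [← map_commutatorElement]
        exact (QuotientGroup.eq_one_iff _).2 (mem_cenMod.1 hq.1 g hg)
  rw [heq]
  exact d.keep_cenMod_inf hP.mem (hP.inv.keep E hP.mem) le_rfl (d.keep_self hP.mem)

/-- The centre is not invariant. -/
theorem not_inv_zc (hP : Pair d N E E') (M : RegularModel p (S ⧸ N)) : ¬ Inv d (zc M) := fun h =>
  zc_ne M (hP.maximal _ h (le_zc M)).le

theorem abelian_or_abelian (hP : Pair d N E E') (M : RegularModel p (S ⧸ N)) :
    E = (Model.A M).comap π ∨ E' = (Model.A M).comap π := by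
  by_contra h
  push Not at h
  refine hP.not_inv_zc M ⟨hP.zc_aut M, fun X hX => ?_, fun X hX => ?_⟩
  · obtain ⟨hK, -, -⟩ := hP.comap_facts M
    have hle : zc M ≤ E' ⊓ E := hK.symm ▸ Subgroup.comap_mono (Subgroup.zpowers_le.2 (Model.c_mem_K M))
    rcases hP.only X hX with rfl | rfl
    · exact hle.trans inf_le_right
    · exact hle.trans inf_le_left
  · rcases hP.only X hX with rfl | rfl
    · exact (hP.keep_zc M h.1).1
    · exact (hP.symm.keep_zc M h.2).1

theorem eq_of_keep_model (hP : Pair d N E E') (M : RegularModel p (S ⧸ N)) (hEa : E = (Model.A M).comap π)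
    {X : Subgroup S} (hNX : N < X) (hXE : X ≤ E) (hk : d.A E ≤ NormalEss.keep E X) : X = E := by
  haveI hXn := d.normal_of_keep hP.mem hXE hk
  obtain ⟨hK, -, -⟩ := hP.comap_facts M
  have hπ : Function.Surjective π := QuotientGroup.mk'_surjective N
  have hG : IsPGroup p (S ⧸ N) := hP.pgroup.to_quotient N
  haveI : (X.map π).Normal := Subgroup.Normal.map hXn π hπ
  have hne : X.map π ≠ ⊥ := by
    rw [Ne, Subgroup.map_eq_bot_iff, QuotientGroup.ker_mk']
    exact hNX.not_ge
  have hzX : zc M ≤ X := by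
    refine (Subgroup.comap_mono (Subgroup.zpowers_le.2 (Model.c_mem_of_normal M hG hne))).trans ?_
    rw [Subgroup.comap_map_eq, QuotientGroup.ker_mk']
    exact sup_le le_rfl hNX.le
  have hne' : E' ≠ (Model.A M).comap π := hEa ▸ hP.ne
  have hzlt : zc M < X := lt_of_le_of_ne hzX fun heq => hP.not_inv_zc M ⟨hP.zc_aut M, fun F hF => by
      rcases hP.only F hF with h | h <;> rw [h]
      · exact heq ▸ hXE
      · exact (hK.symm ▸ Subgroup.comap_mono (Subgroup.zpowers_le.2 (Model.c_mem_K M)) : zc M ≤ E' ⊓ E).trans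
          inf_le_left,
    fun F hF => by
      rcases hP.only F hF with h | h <;> rw [h]
      · exact heq ▸ hk
      · exact (hP.symm.keep_zc M hne').1⟩
  haveI : (Subgroup.zpowers M.c).Normal := Model.zpowers_c_normal M
  haveI : (zc M).Normal := Subgroup.Normal.comap inferInstance _
  obtain ⟨Y, hYn, hzY, hYX, hcY, hYc⟩ := PGroup.exists_normal_between hP.pgroup hzlt
  have hYK : Y ≤ E' ⊓ E := fun y hy => hK.ge (Model.mem_K_of_comm M fun t => by
    obtain ⟨s, rfl⟩ := hπ t
    rw [← map_commutatorElement]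
    exact hYc (Subgroup.commutator_mem_commutator hy (Subgroup.mem_top s)))
  refine d.eq_of_keep hP.two hP.pgroup hP.rank hP.mem hP.mem' hP.ne ((?_ : E' ⊓ E ≤ Y).trans hYX) hXE hk
  refine (Subgroup.eq_of_le_of_card_ge hYK ?_).ge
  have hzcard : Nat.card (zc M) = p * Nat.card N := by
    have h := card_map_mk (le_zc M)
    rw [Subgroup.map_comap_eq_self_of_surjective hπ, card_zpowers_eq M.c_pow (Model.c_ne M)] at h
    rw [← h, mul_comm]
  have hKcard : Nat.card ((Model.K M).comap π) = p ^ 2 * Nat.card N := by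
    have h := card_map_mk (M := N) (V := (Model.K M).comap π) (fun n hn => (hK.le (hP.le_inf hn)))
    rw [Subgroup.map_comap_eq_self_of_surjective hπ, Model.card_K] at h
    rw [← h, mul_comm]
  rw [hK, hKcard, hcY, hzcard]
  exact le_of_eq (by ring)

theorem big_model (hP : Pair d N E E') (M : RegularModel p (S ⧸ N)) (hEa : E = (Model.A M).comap π) :
    Big d N := by
  intro X hX hlt hk
  have hπ : Function.Surjective π := QuotientGroup.mk'_surjective N
  haveI := hX
  obtain ⟨hK, -, -⟩ := hP.comap_facts M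
  haveI : (X.map π).Normal := Subgroup.Normal.map hX π hπ
  have hne : X.map π ≠ ⊥ := by
    rw [Ne, Subgroup.map_eq_bot_iff, QuotientGroup.ker_mk']
    exact hlt.not_ge
  have hzX : zc M ≤ X ⊓ E := by
    refine _root_.le_inf ?_ (fun q hq => (hK.ge ((Subgroup.comap_mono (Subgroup.zpowers_le.2 (Model.c_mem_K M))) hq)).2)
    refine (Subgroup.comap_mono (Subgroup.zpowers_le.2 (Model.c_mem_of_normal M (hP.pgroup.to_quotient N) hne))).trans ?_
    rw [Subgroup.comap_map_eq, QuotientGroup.ker_mk']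
    exact sup_le le_rfl hlt.le
  have h1 : X ⊓ E = E := hP.eq_of_keep_model M hEa
    (lt_of_le_of_ne ((le_zc M).trans hzX) fun h => zc_ne M (hzX.trans h.ge)) inf_le_right (hk E hP.mem)
  have hEX : E ≤ X := inf_eq_right.1 h1
  have h2 : X ⊓ E' = E' := d.eq_of_keep hP.two hP.pgroup hP.rank hP.mem' hP.mem hP.ne.symm
    (_root_.le_inf (inf_le_left.trans hEX) inf_le_right) inf_le_right (hk E' hP.mem')
  exact d.eq_top_of_le_le hP.mem hP.mem' hP.ne hEX (inf_eq_right.1 h2)

theorem exists_comm_not_mem_model (hP : Pair d N E E') : ∃ s t : S, ⁅s, t⁆ ∉ N :=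
  d.exists_comm_not_mem_inv hP.two hP.pgroup hP.rank hP.fix hP.mem hP.inv

theorem central_model (hP : Pair d N E E') (M : RegularModel p (S ⧸ N)) (hEa : E = (Model.A M).comap π) :
    Central d N := by
  intro M₀ P hM₀ hP' hMP hPN hmin
  by_contra hne
  haveI := d.inv_normal hM₀
  haveI := d.inv_normal hP'
  have hS := hP.pgroup
  have hcen := d.mem_of_noncentral hS hP.inv (hP.big_model M hEa) hM₀ hP' hMP hmin hne
  obtain ⟨s₀, t₀, hst⟩ := hP.exists_comm_not_mem_model
  set V := ⁅P, (⊤ : Subgroup S)⁆ ⊔ M₀ with hV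
  set W := ⁅V, (⊤ : Subgroup S)⁆ ⊔ M₀ with hW
  haveI hVn : V.Normal := Subgroup.sup_normal _ _
  haveI hWn : W.Normal := Subgroup.sup_normal _ _
  have hcP : ∀ v ∈ P, ∀ s : S, ⁅v, s⁆ ∈ V := fun v hv s =>
    Subgroup.mem_sup_left (Subgroup.commutator_mem_commutator hv (Subgroup.mem_top s))
  have hcV : ∀ v ∈ V, ∀ s : S, ⁅v, s⁆ ∈ W := fun v hv s =>
    Subgroup.mem_sup_left (Subgroup.commutator_mem_commutator hv (Subgroup.mem_top s))
  have hVP : V < P := lt_of_le_not_ge (sup_le (Subgroup.commutator_le_left P ⊤) hMP.le)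
    (not_le_commutator_sup hS hMP)
  have hMV : M₀ < V := lt_of_le_not_ge le_sup_right fun h => hne fun v hv s => h (hcP v hv s)
  have hWV : W < V := lt_of_le_not_ge (sup_le (Subgroup.commutator_le_left V ⊤) le_sup_right)
    (not_le_commutator_sup hS hMV)
  have hMW : M₀ < W := lt_of_le_not_ge le_sup_right fun h => hst (hcen _ fun v hv =>
    three_subgroups (P := P) (fun w hw s t => h (hcV _ (hcP w hw s) t)) hv s₀ t₀)
  have hfr : frat P ≤ M₀ := by
    rcases hmin _ (d.inv_sup (d.inv_frat hS hP') hM₀) le_sup_right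
        (sup_le (NormalEss.frat_le P) hMP.le) with h | h
    · exact le_sup_left.trans h.le
    · exact absurd (frat_sup_eq hMP.le h) hMP.ne
  have hcard : Nat.card W ≤ p * Nat.card M₀ := by
    refine Nat.le_of_mul_le_mul_left (c := p * p) ?_ (Nat.mul_pos hp.out.pos hp.out.pos)
    calc p * p * Nat.card W = p * (p * Nat.card W) := by ring
      _ ≤ p * Nat.card V := Nat.mul_le_mul le_rfl (PGroup.mul_card_le_of_lt hS hWV)
      _ ≤ Nat.card P := PGroup.mul_card_le_of_lt hS hVP
      _ ≤ p ^ 3 * Nat.card M₀ := (card_le_frat hS hP.rank P).trans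
          (Nat.mul_le_mul le_rfl (Subgroup.card_le_of_le hfr))
      _ = _ := by ring
  have hcW : ∀ v ∈ W, ∀ s : S, ⁅v, s⁆ ∈ M₀ := fun v hv s =>
    SectionalThree.commutator_mem_of_card_le hS hMW.le hcard hv s
  have hπ : Function.Surjective π := QuotientGroup.mk'_surjective N
  obtain ⟨a, ha⟩ := hπ M.a
  obtain ⟨x, hx⟩ := hπ M.x
  obtain ⟨w, hw⟩ : ∃ w, w = ⁅x, a⁆ := ⟨_, rfl⟩
  set q := QuotientGroup.mk' M₀
  have hq0 : ∀ {r : S}, r ∈ M₀ → q r = 1 := fun {r} hr => (QuotientGroup.eq_one_iff r).2 hr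
  have hc0 : ⁅x, w⁆ ∈ N := by
    refine hcen _ fun v' hv' => ?_
    obtain ⟨v, hv⟩ : ∃ v, v = (w * x)⁻¹ * v' * (w * x) := ⟨_, rfl⟩
    have hvP : v ∈ P := by
      rw [hv]; simpa using (inferInstance : P.Normal).conj_mem v' hv' (w * x)⁻¹
    have hδ : ⁅w, v⁆ ∈ W := hw ▸ comm_swap (three_subgroups (P := P) (fun u hu s t => hcV _ (hcP u hu s) t) hvP x a)
    have hη : ⁅x, v⁆ ∈ V := comm_swap (hcP v hvP x)
    have hwη : Commute (q w) (q ⁅x, v⁆) := commutatorElement_eq_one_iff_commute.1 (by
      rw [← map_commutatorElement]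
      exact hq0 (hw ▸ comm_swap (three_subgroups (P := V) (fun u hu s t => hcW _ (hcV u hu s) t) hη x a)))
    have hδc : ∀ g : S, Commute (q g) (q ⁅w, v⁆) := fun g => commutatorElement_eq_one_iff_commute.1 (by
      rw [← map_commutatorElement]; exact hq0 (comm_swap (hcW _ hδ g)))
    have h1 : q w * q x * q v * (q w * q x)⁻¹ = q v' := by
      rw [← map_mul, ← map_inv, ← map_mul, ← map_mul, hv]; congr 1; group
    have e1 : q w * q x * q v * (q w * q x)⁻¹ = q ⁅x, v⁆ * (q ⁅w, v⁆ * q v) := by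
      calc q w * q x * q v * (q w * q x)⁻¹ = q w * q ⁅x, v⁆ * q v * (q w)⁻¹ := by
            rw [map_commutatorElement, commutatorElement_def]; group
        _ = q ⁅x, v⁆ * (q w * q v * (q w)⁻¹) := by rw [hwη.eq]; group
        _ = _ := by rw [map_commutatorElement q w v, commutatorElement_def]; group
    have e2 : q x * q w * q v * (q x * q w)⁻¹ = q ⁅w, v⁆ * (q ⁅x, v⁆ * q v) := by
      calc q x * q w * q v * (q x * q w)⁻¹ = q x * q ⁅w, v⁆ * q v * (q x)⁻¹ := by
            rw [map_commutatorElement, commutatorElement_def]; group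
        _ = q ⁅w, v⁆ * (q x * q v * (q x)⁻¹) := by rw [(hδc x).eq]; group
        _ = _ := by rw [map_commutatorElement q x v, commutatorElement_def]; group
    have h2 : q x * q w * q v * (q x * q w)⁻¹ = q v' := by
      rw [e2, ← mul_assoc, ← (hδc ⁅x, v⁆).eq, mul_assoc, ← e1, h1]
    refine (QuotientGroup.eq_one_iff _).1 ?_
    show q ⁅v', ⁅x, w⁆⁆ = 1
    rw [map_commutatorElement, map_commutatorElement]
    exact commutatorElement_eq_one_iff_commute.2 (commute_commutator_of_conj h1 h2)
  refine Model.c_ne M ?_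
  rw [← Model.comm_xb M, ← Model.comm_xa M, ← ha, ← hx, ← map_commutatorElement, ← map_commutatorElement, ← hw]
  exact (QuotientGroup.eq_one_iff _).2 hc0

end Pair

end Pre

end Cfsg.Agent.NormalEss
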