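import Cfsg.Agent.Lib.NormalEss.PairSmall

/-!
# The minimal invariant factors below the core are central

* `Pre.Flag d N M P V W` : a noncentral minimal factor `M < P` with its series `M < W < V < P`;
* `Pre.Pair.central_small` : the hypothesis `Central` when the quotient by `N` has order at most `p ^ 3`.
-/

set_option autoImplicit false
set_option linter.unusedSectionVars false
set_option linter.style.haveILetI false
set_option maxHeartbeats 1000000

namespace Cfsg.Agent.NormalEss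

open scoped commutatorElement

universe u

variable {p : ℕ} [hp : Fact p.Prime] {S : Type u} [Group S] [Finite S]

theorem mem_sup_commutator {P M : Subgroup S} {v : S} (hv : v ∈ P) (s : S) :
    ⁅v, s⁆ ∈ ⁅P, (⊤ : Subgroup S)⁆ ⊔ M :=
  Subgroup.mem_sup_left (Subgroup.commutator_mem_commutator hv (Subgroup.mem_top s))

theorem commutator_sup_le {P M : Subgroup S} [hP : P.Normal] (h : M ≤ P) :
    ⁅P, (⊤ : Subgroup S)⁆ ⊔ M ≤ P := sup_le (Subgroup.commutator_le_left P ⊤) h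

theorem aut_commutator_sup {σ : MulAut S} {P M : Subgroup S} (hP : ∀ v ∈ P, σ v ∈ P) (hM : ∀ v ∈ M, σ v ∈ M) :
    ∀ v ∈ ⁅P, (⊤ : Subgroup S)⁆ ⊔ M, σ v ∈ ⁅P, (⊤ : Subgroup S)⁆ ⊔ M := by
  intro v hv
  have h : ⁅P, (⊤ : Subgroup S)⁆ ⊔ M ≤ (⁅P, (⊤ : Subgroup S)⁆ ⊔ M).comap (σ : S ≃* S).toMonoidHom := by
    refine sup_le (Subgroup.commutator_le.2 fun a ha b _ => ?_) fun m hm => Subgroup.mem_sup_right (hM m hm)
    show σ ⁅a, b⁆ ∈ ⁅P, (⊤ : Subgroup S)⁆ ⊔ M
    rw [map_commutatorElement]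
    exact mem_sup_commutator (hP a ha) _
  exact h hv

theorem frat_sup_eq {P M : Subgroup S} (hMP : M ≤ P) (h : frat P ⊔ M = P) : M = P := by
  have h1 : frattini P ⊔ M.subgroupOf P = ⊤ := by
    refine Subgroup.map_injective P.subtype_injective ?_
    rw [Subgroup.map_sup, Subgroup.map_subgroupOf_eq_of_le hMP, ← MonoidHom.range_eq_map, Subgroup.range_subtype]
    exact h
  have h2 := frattini_nongenerating (K := M.subgroupOf P) (by rw [sup_comm]; exact h1)
  exact le_antisymm hMP (Subgroup.subgroupOf_eq_top.1 h2)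

/-- The elements whose commutators with the group lie in a smaller subgroup. -/
theorem card_map_mk {M V : Subgroup S} [M.Normal] (h : M ≤ V) :
    Nat.card M * Nat.card (V.map (QuotientGroup.mk' M)) = Nat.card V := by
  have h1 := (M.subgroupOf V).card_mul_index
  rw [← h1, Nat.card_congr (Subgroup.subgroupOfEquivOfLe h).toEquiv]
  congr 1
  rw [show M.subgroupOf V = ((QuotientGroup.mk' M).comp V.subtype).ker by
    ext v
    rw [MonoidHom.mem_ker, Subgroup.mem_subgroupOf]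
    exact (QuotientGroup.eq_one_iff _).symm, Subgroup.index_ker, MonoidHom.range_comp, Subgroup.range_subtype]

namespace Pre

/-- A noncentral minimal factor with its series. -/
structure Flag (d : Pre p S) (N M P V W : Subgroup S) : Prop where
  hM : Inv d M
  hP : Inv d P
  lt : M < P
  le : P ≤ N
  min : ∀ R, Inv d R → M ≤ R → R ≤ P → R = M ∨ R = P
  nmV : V.Normal
  nmW : W.Normal
  autV : ∀ σ ∈ d.Aut, ∀ q ∈ V, σ q ∈ V
  autW : ∀ σ ∈ d.Aut, ∀ q ∈ W, σ q ∈ W
  ltW : M < W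
  ltV : W < V
  ltP : V < P
  cardP : Nat.card P = p * Nat.card V
  cardV : Nat.card V = p * Nat.card W
  cardW : Nat.card W = p * Nat.card M
  commP : ∀ v ∈ P, ∀ s : S, ⁅v, s⁆ ∈ V
  commV : ∀ v ∈ V, ∀ s : S, ⁅v, s⁆ ∈ W
  commW : ∀ v ∈ W, ∀ s : S, ⁅v, s⁆ ∈ M
  notW : ¬ ∀ v ∈ P, ∀ s : S, ⁅v, s⁆ ∈ W
  notV : ¬ ∀ v ∈ V, ∀ s : S, ⁅v, s⁆ ∈ M
  only : ∀ X : Subgroup S, X.Normal → M < X → X < P → X = V ∨ X = W
  cen : ∀ s : S, (∀ v ∈ P, ⁅v, s⁆ ∈ M) → s ∈ N

namespace Pair

variable {d : Pre p S} {N E E' : Subgroup S}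

theorem frat_sup_minimal (hP : Pair d N E E') {M Q : Subgroup S} (hM : Inv d M) (hQ : Inv d Q) (hMQ : M < Q)
    (hmin : ∀ R, Inv d R → M ≤ R → R ≤ Q → R = M ∨ R = Q) : frat Q ≤ M := by
  rcases hmin _ (d.inv_sup (d.inv_frat hP.pgroup hQ) hM) le_sup_right
      (sup_le (NormalEss.frat_le Q) hMQ.le) with h | h
  · exact le_sup_left.trans h.le
  · exact absurd (frat_sup_eq hMQ.le h) hMQ.ne

theorem exists_flag (hP : Pair d N E E') (hc : Nat.card S ≤ p ^ 3 * Nat.card N) {M P : Subgroup S} (hM : Inv d M)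
    (hP' : Inv d P) (hMP : M < P) (hPN : P ≤ N) (hmin : ∀ R, Inv d R → M ≤ R → R ≤ P → R = M ∨ R = P)
    (hne : ¬ ∀ v ∈ P, ∀ s : S, ⁅v, s⁆ ∈ M) : ∃ V W, Flag d N M P V W := by
  haveI := d.inv_normal hP.inv
  haveI := d.inv_normal hM
  haveI := d.inv_normal hP'
  have hS := hP.pgroup
  have hcen := d.mem_of_noncentral hS hP.inv (hP.big_small hc) hM hP' hMP hmin hne
  obtain ⟨s₀, t₀, hst⟩ := d.exists_comm_not_mem_inv hP.two hS hP.rank hP.fix hP.mem hP.inv
  -- no series of length two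
  have hchain : ∀ Y : Subgroup S, (∀ v ∈ P, ∀ s : S, ⁅v, s⁆ ∈ Y) → (∀ y ∈ Y, ∀ s : S, ⁅y, s⁆ ∈ M) → False :=
    fun Y h1 h2 => hst (hcen _ fun v hv =>
      three_subgroups (P := P) (fun w hw s t => h2 _ (h1 w hw s) t) hv s₀ t₀)
  set V := ⁅P, (⊤ : Subgroup S)⁆ ⊔ M with hV
  set W := ⁅V, (⊤ : Subgroup S)⁆ ⊔ M with hW
  haveI hVn : V.Normal := Subgroup.sup_normal _ _
  haveI hWn : W.Normal := Subgroup.sup_normal _ _
  have hVP : V < P := lt_of_le_not_ge (commutator_sup_le hMP.le) (not_le_commutator_sup hS hMP)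
  have hMV : M < V := lt_of_le_not_ge le_sup_right fun h =>
    hne fun v hv s => h (mem_sup_commutator hv s)
  have hWV : W < V := lt_of_le_not_ge (commutator_sup_le le_sup_right) (not_le_commutator_sup hS hMV)
  have hMW : M < W := lt_of_le_not_ge le_sup_right fun h =>
    hchain V (fun v hv s => mem_sup_commutator hv s) fun y hy s => h (mem_sup_commutator hy s)
  have hPc : Nat.card P ≤ p ^ 3 * Nat.card M := (card_le_frat hS hP.rank P).trans
    (Nat.mul_le_mul le_rfl (Subgroup.card_le_of_le (hP.frat_sup_minimal hM hP' hMP hmin)))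
  have l1 := PGroup.mul_card_le_of_lt hS hMW
  have l2 := PGroup.mul_card_le_of_lt hS hWV
  have l3 := PGroup.mul_card_le_of_lt hS hVP
  have l4 : p * (p * (p * Nat.card M)) = p ^ 3 * Nat.card M := by ring
  have eW : Nat.card W = p * Nat.card M := by
    refine le_antisymm (Nat.le_of_mul_le_mul_left (c := p * p) ?_ (Nat.mul_pos hp.out.pos hp.out.pos)) l1
    calc p * p * Nat.card W = p * (p * Nat.card W) := by ring
      _ ≤ p * Nat.card V := Nat.mul_le_mul le_rfl l2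
      _ ≤ Nat.card P := l3
      _ ≤ _ := hPc
      _ = _ := by ring
  have eV : Nat.card V = p * Nat.card W := by
    refine le_antisymm (Nat.le_of_mul_le_mul_left (c := p) ?_ hp.out.pos) l2
    calc p * Nat.card V ≤ Nat.card P := l3
      _ ≤ _ := hPc
      _ = _ := by rw [eW]; ring
  have eP : Nat.card P = p * Nat.card V := by
    refine le_antisymm (hPc.trans (le_of_eq ?_)) l3
    rw [eV, eW]; ring
  have hcW : ∀ v ∈ W, ∀ s : S, ⁅v, s⁆ ∈ M := fun v hv s =>
    SectionalThree.commutator_mem_of_card_le hS hMW.le eW.le hv s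
  have hnot : ¬ ∀ v ∈ P, ∀ s : S, ⁅v, s⁆ ∈ W := fun h => hchain W h hcW
  refine ⟨V, W, ⟨hM, hP', hMP, hPN, hmin, hVn, hWn, fun σ hσ => ?_, fun σ hσ => ?_, hMW, hWV, hVP, eP, eV, eW,
    fun v hv s => mem_sup_commutator hv s, fun v hv s => mem_sup_commutator hv s, hcW, hnot,
    fun h => hchain V (fun v hv s => mem_sup_commutator hv s) h, ?_, hcen⟩⟩
  · exact aut_commutator_sup (hP'.aut σ hσ) (hM.aut σ hσ)
  · exact aut_commutator_sup (aut_commutator_sup (hP'.aut σ hσ) (hM.aut σ hσ)) (hM.aut σ hσ)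
  · intro X hXn hMX hXP
    haveI := hXn
    have k1 := PGroup.mul_card_le_of_lt hS hMX
    have k2 := PGroup.mul_card_le_of_lt hS hXP
    by_cases hbig : p * (p * Nat.card M) ≤ Nat.card X
    · refine Or.inl (Eq.symm (Subgroup.eq_of_le_of_card_ge (sup_le ?_ hMX.le) ?_))
      · refine Subgroup.commutator_le.2 fun v hv s _ => ?_
        refine SectionalThree.commutator_mem_of_card_le hS hXP.le ?_ hv s
        rw [eP, eV, eW]
        exact Nat.mul_le_mul le_rfl hbig
      · rw [eV, eW]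
        refine Nat.le_of_mul_le_mul_left (k2.trans (le_of_eq ?_)) hp.out.pos
        rw [eP, eV, eW]
    · have hX1 : Nat.card X = p * Nat.card M := by
        obtain ⟨Y, hYn, hMY, hYX, hcY, -⟩ := PGroup.exists_normal_between hS hMX
        rcases eq_or_lt_of_le hYX with h | h
        · rw [← h, hcY]
        · exact absurd (le_trans (Nat.mul_le_mul le_rfl hcY.ge) (PGroup.mul_card_le_of_lt hS h)) hbig
      -- the union with `W` would be central modulo `M`
      refine Or.inr (by_contra fun hXW => ?_)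
      have hXc : ∀ v ∈ X, ∀ s : S, ⁅v, s⁆ ∈ M := fun v hv s =>
        SectionalThree.commutator_mem_of_card_le hS hMX.le hX1.le hv s
      have hlt : W < X ⊔ W := lt_of_le_not_ge le_sup_right fun h =>
        hXW (Subgroup.eq_of_le_of_card_ge (le_sup_left.trans h) (by rw [hX1, eW]))
      have hc2 := PGroup.mul_card_le_of_lt hS hlt
      refine hchain (X ⊔ W) (fun v hv s => ?_) fun y hy s => ?_
      · refine SectionalThree.commutator_mem_of_card_le hS (sup_le hXP.le (hWV.le.trans hVP.le)) ?_ hv s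
        rw [eP, eV]
        exact Nat.mul_le_mul le_rfl hc2
      · have hle : X ⊔ W ≤ cenMod M (Set.univ : Set S) := sup_le
          (fun v hv => mem_cenMod.2 fun t _ => hXc v hv t) fun v hv => mem_cenMod.2 fun t _ => hcW v hv t
        exact mem_cenMod.1 (hle hy) s trivial

theorem not_keep_both (hP : Pair d N E E') (hc : Nat.card S ≤ p ^ 3 * Nat.card N) {M P V W : Subgroup S}
    (hF : Flag d N M P V W) (hV : d.A E ≤ NormalEss.keep E V) (hW : d.A E ≤ NormalEss.keep E W) : False := by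
  haveI := d.inv_normal hP.inv
  haveI := d.inv_normal hF.hM
  haveI := hF.nmW
  haveI := hF.nmV
  have hPE : P ≤ E := hF.le.trans (hP.inv.le E hP.mem)
  have hVE : V ≤ E := hF.ltP.le.trans hPE
  set Z := (cenMod W (P : Set S) ⊓ E) ⊓ (cenMod M (V : Set S) ⊓ E) with hZ
  have hkZ : d.A E ≤ NormalEss.keep E Z := d.keep_inf hP.mem
    (d.keep_cenMod_inf hP.mem hW hPE (hF.hP.keep E hP.mem))
    (d.keep_cenMod_inf hP.mem (hF.hM.keep E hP.mem) hVE hV)
  have hN : ∀ n ∈ N, ∀ v ∈ P, ⁅n, v⁆ ∈ M := fun n hn v hv =>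
    comm_swap (d.comm_mem_of_minimal hP.pgroup hF.hM hF.hP hP.inv hF.lt hF.min v hv n hn)
  obtain ⟨s, t, hst⟩ := hP.inf_le_sup_commutator hc
  have hKZ : E' ⊓ E ≤ Z := by
    rw [← hst]
    refine sup_le (fun n hn => ?_) (Subgroup.zpowers_le.2 ?_)
    · exact ⟨⟨mem_cenMod.2 fun v hv => hF.ltW.le (hN n hn v hv), hP.inv.le E hP.mem hn⟩,
        mem_cenMod.2 fun v hv => hN n hn v (hF.ltP.le hv), hP.inv.le E hP.mem hn⟩
    · exact ⟨⟨mem_cenMod.2 fun v hv => comm_swap (three_subgroups (P := P)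
          (fun w hw s t => hF.commV _ (hF.commP w hw s) t) hv s t), d.comm_mem hP.mem s t⟩,
        mem_cenMod.2 fun v hv => comm_swap (three_subgroups (P := V)
          (fun w hw s t => hF.commW _ (hF.commV w hw s) t) hv s t), d.comm_mem hP.mem s t⟩
  have hZE := d.eq_of_keep hP.two hP.pgroup hP.rank hP.mem hP.mem' hP.ne hKZ (inf_le_left.trans inf_le_right) hkZ
  have h1 : ∀ e ∈ E, ∀ v ∈ P, ⁅e, v⁆ ∈ W := fun e he v hv => mem_cenMod.1 (hZE.ge he).1.1 v hv
  have h2 : ∀ e ∈ E, ∀ v ∈ V, ⁅e, v⁆ ∈ M := fun e he v hv => mem_cenMod.1 (hZE.ge he).2.1 v hv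
  obtain ⟨v₀, hv₀, hv₀V⟩ := SetLike.exists_of_lt hF.ltP
  set π := QuotientGroup.mk' M
  have hcentral : ∀ e ∈ E, ∀ g : S, Commute (π g) (π ⁅e, v₀⁆) := fun e he g =>
    commutatorElement_eq_one_iff_commute.1 (by
      rw [← map_commutatorElement]
      exact (QuotientGroup.eq_one_iff _).2 (comm_swap (hF.commW _ (h1 e he v₀ hv₀) g)))
  let f : E →* S ⧸ M := MonoidHom.mk' (fun e => π ⁅(e : S), v₀⁆) fun a b => by
    show π ⁅(a : S) * b, v₀⁆ = π ⁅(a : S), v₀⁆ * π ⁅(b : S), v₀⁆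
    rw [show ⁅(a : S) * b, v₀⁆ = a * ⁅(b : S), v₀⁆ * (a : S)⁻¹ * ⁅(a : S), v₀⁆ by
      simp only [commutatorElement_def]; group, map_mul, map_mul, map_mul, map_inv, (hcentral b b.2 a).eq,
      mul_inv_cancel_right, (hcentral b b.2 ⁅(a : S), v₀⁆).eq]
  have hker : f.ker ≤ N.subgroupOf E := fun e he => by
    rw [Subgroup.mem_subgroupOf]
    refine hF.cen _ fun v hv => ?_
    have hgen : V ⊔ Subgroup.zpowers v₀ = P := by
      refine Subgroup.eq_of_le_of_card_ge (sup_le hF.ltP.le (Subgroup.zpowers_le.2 hv₀)) ?_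
      rw [hF.cardP]
      exact PGroup.mul_card_le_of_lt hP.pgroup (SetLike.lt_iff_le_and_exists.2
        ⟨le_sup_left, v₀, Subgroup.mem_sup_right (Subgroup.mem_zpowers v₀), hv₀V⟩)
    have hle : P ≤ cenMod M ({(e : S)} : Set S) := hgen ▸ sup_le
      (fun w hw => mem_cenMod.2 fun x hx => (Set.mem_singleton_iff.1 hx).symm ▸ comm_swap (h2 e e.2 w hw))
      (Subgroup.zpowers_le.2 (mem_cenMod.2 fun x hx => (Set.mem_singleton_iff.1 hx).symm ▸
        comm_swap ((QuotientGroup.eq_one_iff _).1 he)))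
    exact mem_cenMod.1 (hle hv) _ rfl
  have hrange : f.range ≤ W.map π := by
    rintro _ ⟨e, rfl⟩
    exact ⟨_, h1 e e.2 v₀ hv₀, rfl⟩
  have c1 := card_map_mk hF.ltW.le
  have c2 : Nat.card (W.map π) = p :=
    Nat.eq_of_mul_eq_mul_left Nat.card_pos (c1.trans (hF.cardW.trans (mul_comm _ _)))
  have c3 := f.ker.card_mul_index
  rw [Subgroup.index_ker] at c3
  have c4 : Nat.card E ≤ Nat.card N * p := by
    rw [← c3]
    refine Nat.mul_le_mul ?_ ((Subgroup.card_le_of_le hrange).trans c2.le)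
    exact (Subgroup.card_le_of_le hker).trans
      (Nat.card_congr (Subgroup.subgroupOfEquivOfLe (hP.inv.le E hP.mem)).toEquiv).le
  rw [(hP.card_facts hc).2] at c4
  have c5 : p * (p * Nat.card N) ≤ 1 * (p * Nat.card N) := by
    calc p * (p * Nat.card N) = p ^ 2 * Nat.card N := by ring
      _ ≤ _ := c4
      _ = _ := by ring
  exact absurd (Nat.le_of_mul_le_mul_right c5 (Nat.mul_pos hp.out.pos Nat.card_pos)) (not_le.2 hp.out.one_lt)

/-- One member moves the middle term and maps the factor into the lowest one. -/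
theorem exists_member (hP : Pair d N E E') (hc : Nat.card S ≤ p ^ 3 * Nat.card N) {M P V W : Subgroup S}
    (hF : Flag d N M P V W) :
    ∃ F F', Pair d N F F' ∧ (∀ v ∈ P, ∀ e ∈ F, ⁅v, e⁆ ∈ W) ∧ ¬ d.A F ≤ NormalEss.keep F V := by
  have step : ∀ {F F'}, Pair d N F F' →
      ((∀ v ∈ P, ∀ e ∈ F, ⁅v, e⁆ ∈ W) ∧ ¬ d.A F ≤ NormalEss.keep F V) ∨ d.A F ≤ NormalEss.keep F V := by
    intro F F' hQ
    by_cases hk : d.A F ≤ NormalEss.keep F V
    · exact Or.inr hk
    haveI := d.inv_normal hF.hM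
    haveI := d.inv_normal hF.hP
    have hPF : P ≤ F := hF.le.trans (hQ.inv.le F hQ.mem)
    have hkX : d.A F ≤ NormalEss.keep F (⁅P, F⁆ ⊔ M) := d.keep_sup hQ.mem
      (Subgroup.commutator_le.2 fun a ha b hb => by
        rw [commutatorElement_def]
        exact mul_mem (mul_mem (mul_mem (hPF ha) hb) (inv_mem (hPF ha))) (inv_mem hb))
      (hF.hM.le F hQ.mem) (d.keep_commutator₂ hQ.mem hPF le_rfl (hF.hP.keep F hQ.mem) (d.keep_self hQ.mem))
      (hF.hM.keep F hQ.mem)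
    haveI := d.normal F hQ.mem
    haveI hXn : (⁅P, F⁆ ⊔ M).Normal := Subgroup.sup_normal _ _
    have hXV : ⁅P, F⁆ ⊔ M ≤ V := sup_le (Subgroup.commutator_le.2 fun a ha b _ => hF.commP a ha b)
      (hF.ltW.le.trans hF.ltV.le)
    have hmem : ∀ v ∈ P, ∀ e ∈ F, ⁅v, e⁆ ∈ ⁅P, F⁆ ⊔ M := fun v hv e he =>
      Subgroup.mem_sup_left (Subgroup.commutator_mem_commutator hv he)
    by_cases hXM : ⁅P, F⁆ ⊔ M = M
    · exact Or.inl ⟨fun v hv e he => hF.ltW.le (hXM ▸ hmem v hv e he), hk⟩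
    rcases hF.only _ hXn (lt_of_le_of_ne le_sup_right (Ne.symm hXM)) (hXV.trans_lt hF.ltP) with h | h
    · exact absurd (h ▸ hkX) hk
    · exact Or.inl ⟨fun v hv e he => h ▸ hmem v hv e he, hk⟩
  rcases step hP with h | h
  · exact ⟨E, E', hP, h⟩
  rcases step hP.symm with h' | h'
  · exact ⟨E', E, hP.symm, h'⟩
  exfalso
  have hinv : Inv d V := ⟨hF.autV, fun X hX => hF.ltP.le.trans (hF.hP.le X hX), fun X hX => by
    rcases hP.only X hX with rfl | rfl
    · exact h
    · exact h'⟩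
  rcases hF.min V hinv (hF.ltW.trans hF.ltV).le hF.ltP.le with h1 | h1
  · exact (hF.ltW.trans hF.ltV).ne' h1
  · exact hF.ltP.ne h1

theorem false_flag_top (hP : Pair d N E E') (hc : Nat.card S ≤ p ^ 3 * Nat.card N) {M V W : Subgroup S}
    (hF : Flag d N M N V W) (hEW : ∀ v ∈ N, ∀ e ∈ E, ⁅v, e⁆ ∈ W) (hk : ¬ d.A E ≤ NormalEss.keep E V) : False := by
  haveI := d.inv_normal hP.inv
  haveI := d.inv_normal hF.hM
  haveI := hF.nmW
  haveI := hF.nmV
  haveI := d.normal E hP.mem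
  have hS := hP.pgroup
  have hNE : N ≤ E := hP.inv.le E hP.mem
  -- `W` is invariant
  obtain ⟨x, hx, hxE⟩ := SetLike.not_le_iff_exists.1 (d.not_le_of_ne hP.mem' hP.mem hP.ne.symm)
  obtain ⟨a, ha, haE'⟩ := SetLike.not_le_iff_exists.1 (d.not_le_of_ne hP.mem hP.mem' hP.ne)
  haveI := d.normal E' hP.mem'
  obtain ⟨z, hz⟩ : ∃ z, z = ⁅x, a⁆ := ⟨_, rfl⟩
  have hzK : z ∈ E' ⊓ E := hz ▸ Subgroup.mem_inf.2 ⟨d.comm_mem hP.mem' x a, d.comm_mem hP.mem x a⟩
  have hzN : z ∉ N := hz ▸ hP.comm_not_mem hc ha haE' hxE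
  have hE : E ≤ (N ⊔ Subgroup.zpowers z) ⊔ Subgroup.zpowers a := by
    rw [hP.sup_zpowers_inf hc hzK hzN, hP.sup_zpowers_member ha haE']
  set w := ⁅a, z⁆ with hw
  have hwN : w ∈ N := hP.comm_mem_self hc ha hzK.2
  -- `w` is central modulo `W`
  set π := QuotientGroup.mk' W
  have hcomN : ∀ v ∈ N, ∀ e ∈ E, Commute (π e) (π v) := fun v hv e he =>
    commutatorElement_eq_one_iff_commute.1 (by
      rw [← map_commutatorElement]; exact (QuotientGroup.eq_one_iff _).2 (comm_swap (hEW v hv e he)))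
  have hxw : π x * π w * (π x)⁻¹ = π w := by
    have hxa : x * a * x⁻¹ = z * a := by rw [hz, commutatorElement_def]; group
    obtain ⟨n, hn⟩ : ∃ n, n = ⁅x, z⁆ := ⟨_, rfl⟩
    have hnN : n ∈ N := hn ▸ comm_swap (hP.comm_inf hc hzK x)
    have hxz : x * z * x⁻¹ = n * z := by rw [hn, commutatorElement_def]; group
    have hwa : Commute (π z) (π w) := hcomN w hwN z hzK.2
    have e1 : x * w * x⁻¹ = ⁅z * a, n * z⁆ := by
      rw [← hxa, ← hxz, hw]; simp only [commutatorElement_def]; group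
    rw [← map_inv, ← map_mul, ← map_mul, e1, map_commutatorElement, map_mul, map_mul]
    have hna := hcomN n hnN a ha
    have hnz := hcomN n hnN z hzK.2
    have e2 : (π z * π a) * (π n * π z) * (π z * π a)⁻¹ = π n * (π z * π a * π z * (π z * π a)⁻¹) := by
      rw [show (π z * π a) * (π n * π z) = (π z * π a) * π n * π z by group, (hnz.mul_left hna).eq]; group
    rw [commutatorElement_def, e2]
    calc π n * (π z * π a * π z * (π z * π a)⁻¹) * (π n * π z)⁻¹
        = π n * (π z * π ⁅a, z⁆) * (π z)⁻¹ * (π n)⁻¹ := by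
          rw [map_commutatorElement, commutatorElement_def]; group
      _ = π n * π w * (π n)⁻¹ := by rw [← hw, hwa.eq]; group
      _ = π w := by rw [(hcomN w hwN n (hNE hnN)).eq]; group
  have hwX : ∀ s : S, ⁅w, s⁆ ∈ W := fun s => by
    have htop : cenMod W ({w} : Set S) = ⊤ := d.eq_top_of_le_mem hP.mem hxE
      (fun e he => mem_cenMod.2 fun q hq => (Set.mem_singleton_iff.1 hq).symm ▸ comm_swap (hEW w hwN e he))
      (mem_cenMod.2 fun q hq => by
        rw [Set.mem_singleton_iff.1 hq]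
        refine (QuotientGroup.eq_one_iff _).1 ?_
        show π ⁅x, w⁆ = 1
        rw [map_commutatorElement, commutatorElement_def, hxw, mul_inv_cancel])
    exact comm_swap (mem_cenMod.1 (htop.ge (Subgroup.mem_top s)) w rfl)
  set X := N ⊓ cenMod W ((⊤ : Subgroup S) : Set S) with hX
  haveI := conj_cenMod (Z := W) (P := (⊤ : Subgroup S))
  haveI hXn : X.Normal := Subgroup.normal_inf_normal _ _
  have hwV : w ∈ V := by
    have hWX : W ≤ X := _root_.le_inf (hF.ltV.le.trans hF.ltP.le) fun v hv =>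
      mem_cenMod.2 fun t _ => hF.ltW.le (hF.commW v hv t)
    have hXN : X < N := lt_of_le_not_ge inf_le_left fun h =>
      hF.notW fun v hv s => mem_cenMod.1 (h hv).2 s (Subgroup.mem_top s)
    have hwmem : w ∈ X := Subgroup.mem_inf.2 ⟨hwN, mem_cenMod.2 fun s _ => hwX s⟩
    rcases hF.only X hXn (hF.ltW.trans_le hWX) hXN with h | h
    · exact h.le hwmem
    · exact hF.ltV.le (h.le hwmem)
  -- the derived subgroup of `E`
  have hEE : ∀ e ∈ E, ∀ f ∈ E, ⁅e, f⁆ ∈ V := by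
    have hNV : ∀ n ∈ N, ∀ e ∈ E, ⁅n, e⁆ ∈ V := fun n hn e he => hF.ltV.le (hEW n hn e he)
    have hgen : ∀ q ∈ ({a, z} : Set S), E ≤ cenMod V ({q} : Set S) := by
      intro q hq
      have hqE : q ∈ E := by rcases hq with rfl | rfl; exacts [ha, hzK.2]
      refine hE.trans (sup_le (sup_le (fun n hn => mem_cenMod.2 fun r hr => ?_) ?_) ?_)
      · rw [Set.mem_singleton_iff.1 hr]; exact hNV n hn q hqE
      · refine Subgroup.zpowers_le.2 (mem_cenMod.2 fun r hr => ?_)
        rw [Set.mem_singleton_iff.1 hr]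
        rcases hq with rfl | rfl
        · exact comm_swap hwV
        · rw [commutatorElement_self]; exact one_mem _
      · refine Subgroup.zpowers_le.2 (mem_cenMod.2 fun r hr => ?_)
        rw [Set.mem_singleton_iff.1 hr]
        rcases hq with rfl | rfl
        · rw [commutatorElement_self]; exact one_mem _
        · exact hwV
    intro e he f hf
    have hle : E ≤ cenMod V (E : Set S) := hE.trans (sup_le (sup_le (fun n hn => mem_cenMod.2 fun r hr => hNV n hn r hr)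
      (Subgroup.zpowers_le.2 (mem_cenMod.2 fun r hr => comm_swap (mem_cenMod.1 (hgen z (Or.inr rfl) hr) z rfl))))
      (Subgroup.zpowers_le.2 (mem_cenMod.2 fun r hr => comm_swap (mem_cenMod.1 (hgen a (Or.inl rfl) hr) a rfl))))
    exact mem_cenMod.1 (hle he) f hf
  have hWE : W ≤ E := hF.ltV.le.trans (hF.ltP.le.trans hNE)
  have hkW : d.A E ≤ NormalEss.keep E W := by
    have hkX : d.A E ≤ NormalEss.keep E (⁅N, E⁆ ⊔ M) := d.keep_sup hP.mem
      (Subgroup.commutator_le_right N E) (hF.hM.le E hP.mem)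
      (d.keep_commutator₂ hP.mem hNE le_rfl (hP.inv.keep E hP.mem) (d.keep_self hP.mem)) (hF.hM.keep E hP.mem)
    have hle : ⁅N, E⁆ ⊔ M ≤ W := sup_le (Subgroup.commutator_le.2 hEW) hF.ltW.le
    have hne : ¬ ⁅N, E⁆ ⊔ M ≤ M := fun h => by
      have hEN : E ≤ N := fun e he => hF.cen e fun v hv =>
        h (Subgroup.mem_sup_left (Subgroup.commutator_mem_commutator hv he))
      exact hzN (hEN hzK.2)
    have heq : ⁅N, E⁆ ⊔ M = W := Subgroup.eq_of_le_of_card_ge hle (by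
      rw [hF.cardW]
      exact PGroup.mul_card_le_of_lt hS (lt_of_le_not_ge le_sup_right hne))
    exact heq ▸ hkX
  have hkD : d.A E ≤ NormalEss.keep E (⁅E, E⁆ ⊔ W) := d.keep_sup hP.mem (Subgroup.commutator_le_right E E) hWE
    (d.keep_commutator₂ hP.mem le_rfl le_rfl (d.keep_self hP.mem) (d.keep_self hP.mem)) hkW
  have hEEW : ∀ e ∈ E, ∀ f ∈ E, ⁅e, f⁆ ∈ W := by
    have hle : ⁅E, E⁆ ⊔ W ≤ V := sup_le (Subgroup.commutator_le.2 hEE) hF.ltV.le
    haveI hDn : (⁅E, E⁆ ⊔ W).Normal := Subgroup.sup_normal _ _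
    intro e he f hf
    rcases hF.only _ hDn (hF.ltW.trans_le le_sup_right) (hle.trans_lt hF.ltP) with h | h
    · exact absurd (h ▸ hkD) hk
    · exact h.le (Subgroup.mem_sup_left (Subgroup.commutator_mem_commutator he hf))
  -- the powers
  set F := N ⊓ (cenMod M (E : Set S) ⊓ E) with hFdef
  have hkF : d.A E ≤ NormalEss.keep E F := d.keep_inf hP.mem (hP.inv.keep E hP.mem)
    (d.keep_cenMod_inf hP.mem (hF.hM.keep E hP.mem) le_rfl (d.keep_self hP.mem))
  haveI hFn : F.Normal := d.normal_of_keep hP.mem (inf_le_left.trans hNE) hkF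
  have hWF : W ≤ F := _root_.le_inf (hF.ltV.le.trans hF.ltP.le)
    (_root_.le_inf (fun v hv => mem_cenMod.2 fun t _ => hF.commW v hv t) hWE)
  have hFN : F < N := lt_of_le_not_ge inf_le_left fun h => by
    have hEN : E ≤ N := fun e he => hF.cen e fun v hv => mem_cenMod.1 (h hv).2.1 e he
    exact hzN (hEN hzK.2)
  have hFW : F = W := by
    rcases hF.only F hFn (hF.ltW.trans_le hWF) hFN with h | h
    · exact absurd (h ▸ hkF) hk
    · exact h
  have hpow : ∀ e ∈ E, e ^ p ∈ W := by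
    intro e he
    refine hFW.le (Subgroup.mem_inf.2 ⟨hP.frat_le hc (pow_mem_frat hS he),
      Subgroup.mem_inf.2 ⟨mem_cenMod.2 fun f hf => ?_, pow_mem he p⟩⟩)
    refine (QuotientGroup.eq_one_iff _).1 ?_
    show QuotientGroup.mk' M ⁅e ^ p, f⁆ = 1
    have hcW := hEEW e he f hf
    rw [map_commutatorElement, map_pow, PGroup.commutator_pow_left, ← map_commutatorElement, ← map_pow]
    · exact (QuotientGroup.eq_one_iff _).2 (hP.frat_sup_minimal hF.hM hF.hP hF.lt hF.min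
        (pow_mem_frat hS (hF.ltV.le.trans hF.ltP.le hcW)))
    · rw [← map_commutatorElement]
      refine commutatorElement_eq_one_iff_commute.1 ?_
      rw [← map_commutatorElement]
      exact (QuotientGroup.eq_one_iff _).2 (comm_swap (hF.commW _ hcW e))
  have hfr : frat E ≤ W := frat_le_of (p := p) (fun e _ y hy => hF.nmW.conj_mem y hy e) hEEW hpow
  have h1 := (card_le_frat hS hP.rank E).trans (Nat.mul_le_mul le_rfl (Subgroup.card_le_of_le hfr))
  rw [(hP.card_facts hc).2, hF.cardP, hF.cardV] at h1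
  have h2 : p * (p ^ 3 * Nat.card W) ≤ 1 * (p ^ 3 * Nat.card W) := by
    calc p * (p ^ 3 * Nat.card W) = p ^ 2 * (p * (p * Nat.card W)) := by ring
      _ ≤ _ := h1
      _ = _ := by ring
  exact absurd (Nat.le_of_mul_le_mul_right h2 (Nat.mul_pos (pow_pos hp.out.pos 3) Nat.card_pos))
    (not_le.2 hp.out.one_lt)

theorem false_flag_lt (hP : Pair d N E E') {M P V W : Subgroup S} (hF : Flag d N M P V W) (hPN : P < N)
    (hcen : ∀ Q, Inv d Q → P < Q → Q ≤ N → (∀ R, Inv d R → P ≤ R → R ≤ Q → R = P ∨ R = Q) →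
      ∀ v ∈ Q, ∀ s : S, ⁅v, s⁆ ∈ P) : False := by
  obtain ⟨Q, hQ, hPQ, hQN, hmin⟩ := d.exists_minimal_inv hF.hP hP.inv hPN
  haveI := d.inv_normal hF.hM
  haveI := d.inv_normal hF.hP
  haveI := d.inv_normal hQ
  haveI := hF.nmW
  have hS := hP.pgroup
  have hQS := hcen Q hQ hPQ hQN hmin
  have hfrP : frat Q ≤ P := hP.frat_sup_minimal hF.hP hQ hPQ hmin
  have hPQc : ∀ v ∈ P, ∀ q ∈ Q, ⁅v, q⁆ ∈ M := fun v hv q hq =>
    d.comm_mem_of_minimal hS hF.hM hF.hP hP.inv hF.lt hF.min v hv q (hQN hq)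
  set π := QuotientGroup.mk' M
  have hPπ : ∀ v ∈ P, ∀ q ∈ Q, Commute (π v) (π q) := fun v hv q hq =>
    commutatorElement_eq_one_iff_commute.1 (by
      rw [← map_commutatorElement]; exact (QuotientGroup.eq_one_iff _).2 (hPQc v hv q hq))
  have hexp : ∀ v ∈ P, π v ^ p = 1 := fun v hv => by
    rw [← map_pow]
    exact (QuotientGroup.eq_one_iff _).2 (hP.frat_sup_minimal hF.hM hF.hP hF.lt hF.min (pow_mem_frat hS hv))
  have hconj : ∀ q ∈ Q, ∀ s : S, ∃ v ∈ P, π (s * q * s⁻¹) = π v * π q := fun q hq s =>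
    ⟨⁅s, q⁆, comm_swap (hQS q hq s), by rw [← map_mul]; exact congrArg π (by rw [commutatorElement_def]; group)⟩
  have hin : ∀ r ∈ P, (∀ s : S, π (s * r * s⁻¹) = π r) → r ∈ W := by
    intro r hr h
    haveI hcn := conj_cenMod (Z := M) (P := (⊤ : Subgroup S))
    set X := P ⊓ cenMod M ((⊤ : Subgroup S) : Set S) with hX
    haveI hXn : X.Normal := Subgroup.normal_inf_normal _ _
    have hrX : r ∈ X := Subgroup.mem_inf.2 ⟨hr, mem_cenMod.2 fun s _ => comm_swap ((QuotientGroup.eq_one_iff _).1 (by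
      show π ⁅s, r⁆ = 1
      rw [show ⁅s, r⁆ = s * r * s⁻¹ * r⁻¹ from commutatorElement_def s r, map_mul, map_inv, h s, mul_inv_cancel]))⟩
    have hWX : W ≤ X := _root_.le_inf (hF.ltV.le.trans hF.ltP.le) fun v hv =>
      mem_cenMod.2 fun t _ => hF.commW v hv t
    have hXP : X < P := lt_of_le_not_ge inf_le_left fun h' =>
      hF.notW fun v hv s => hF.ltW.le (mem_cenMod.1 (h' hv).2 s (Subgroup.mem_top s))
    rcases hF.only X hXn (hF.ltW.trans_le hWX) hXP with h' | h'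
    · exact absurd (fun v hv t => mem_cenMod.1 (h'.ge hv).2 t (Subgroup.mem_top t)) hF.notV
    · exact h'.le hrX
  have hfr : frat Q ≤ W := frat_le_of (p := p) (fun e _ y hy => hF.nmW.conj_mem y hy e)
    (fun a ha b hb => hin _ (hfrP (comm_mem_frat hS ha hb)) fun s => by
      obtain ⟨v, hv, h1⟩ := hconj a ha s
      obtain ⟨w, hw, h2⟩ := hconj b hb s
      rw [show s * ⁅a, b⁆ * s⁻¹ = ⁅s * a * s⁻¹, s * b * s⁻¹⁆ by simp only [commutatorElement_def]; group,
        map_commutatorElement, map_commutatorElement, h1, h2]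
      have c1 : Commute (π v) ⁅π a, π b * π w⁆ := by
        rw [← map_mul, ← map_commutatorElement]
        exact hPπ v hv _ (NormalEss.frat_le Q (comm_mem_frat hS ha (mul_mem hb (hPQ.le hw))))
      rw [(hPπ w hw b hb).eq]
      have c2 : ⁅π v * π a, π b * π w⁆ = ⁅π a, π b * π w⁆ := by
        have hv2 : Commute (π v) (π b * π w) := (hPπ v hv b hb).mul_right (hPπ v hv w (hPQ.le hw))
        calc ⁅π v * π a, π b * π w⁆
            = π v * ⁅π a, π b * π w⁆ * (π v)⁻¹ * ⁅π v, π b * π w⁆ := by simp only [commutatorElement_def]; group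
          _ = _ := by rw [commutatorElement_eq_one_iff_commute.2 hv2, c1.eq]; group
      rw [c2]
      calc ⁅π a, π b * π w⁆ = ⁅π a, π b⁆ * (π b * ⁅π a, π w⁆ * (π b)⁻¹) := by simp only [commutatorElement_def]; group
        _ = _ := by rw [commutatorElement_eq_one_iff_commute.2 (hPπ w hw a ha).symm]; group)
    fun a ha => hin _ (hfrP (pow_mem_frat hS ha)) fun s => by
      obtain ⟨v, hv, h1⟩ := hconj a ha s
      rw [← conj_pow, map_pow, h1, (hPπ v hv a ha).mul_pow, hexp v hv, one_mul, map_pow]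
  have hfrM : frat Q ≤ M := by
    have hlt : frat Q ⊔ M < P := (sup_le hfr hF.ltW.le).trans_lt (hF.ltV.trans hF.ltP)
    rcases hF.min _ (d.inv_sup (d.inv_frat hS hQ) hF.hM) le_sup_right hlt.le with h | h
    · exact le_sup_left.trans h.le
    · exact absurd h hlt.ne
  have h1 := (card_le_frat hS hP.rank Q).trans (Nat.mul_le_mul le_rfl (Subgroup.card_le_of_le hfrM))
  have h2 := PGroup.mul_card_le_of_lt hS hPQ
  rw [hF.cardP, hF.cardV, hF.cardW] at h2
  have h3 : p * (p ^ 3 * Nat.card M) ≤ 1 * (p ^ 3 * Nat.card M) := by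
    calc p * (p ^ 3 * Nat.card M) = p * (p * (p * (p * Nat.card M))) := by ring
      _ ≤ _ := h2
      _ ≤ _ := h1
      _ = _ := (one_mul _).symm
  exact absurd (Nat.le_of_mul_le_mul_right h3 (Nat.mul_pos (pow_pos hp.out.pos 3) Nat.card_pos))
    (not_le.2 hp.out.one_lt)

theorem central_small (hP : Pair d N E E') (hc : Nat.card S ≤ p ^ 3 * Nat.card N) : Central d N := by
  classical
  intro M₀ P₀ hM₀ hP₀ hlt₀ hle₀ hmin₀
  by_contra hne₀
  obtain ⟨M, ⟨P, hM, hP', hlt, hle, hmin, hne⟩, hmax⟩ := Set.Finite.exists_maximal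
    (s := {M : Subgroup S | ∃ P, Inv d M ∧ Inv d P ∧ M < P ∧ P ≤ N ∧
      (∀ R, Inv d R → M ≤ R → R ≤ P → R = M ∨ R = P) ∧ ¬ ∀ v ∈ P, ∀ s : S, ⁅v, s⁆ ∈ M}) (Set.toFinite _)
    ⟨M₀, P₀, hM₀, hP₀, hlt₀, hle₀, hmin₀, hne₀⟩
  obtain ⟨V, W, hF⟩ := hP.exists_flag hc hM hP' hlt hle hmin hne
  rcases eq_or_lt_of_le hle with rfl | hPN
  · obtain ⟨F, F', hQ, hW, hk⟩ := hP.exists_member hc hF
    exact hQ.false_flag_top hc hF hW hk
  · refine hP.false_flag_lt hF hPN fun Q hQ hPQ hQN hminQ => ?_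
    by_contra hneQ
    exact hlt.not_ge (hmax ⟨Q, hP', hQ, hPQ, hQN, hminQ, hneQ⟩ hlt.le)

end Pair

end Pre

end Cfsg.Agent.NormalEss
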