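import Cfsg.Agent.Lib.NormalEss.Factor

/-!
# A pair of essential subgroups above the largest invariant subgroup

* `sectional_quotient` : quotients keep the sectional rank bound;
* `Pre.exists_comm_not_mem_inv` : the group is not abelian modulo an invariant subgroup;
* `Pre.eq_of_keep` : an invariant subgroup between the intersection and an essential subgroup is the latter;
* `three_subgroups` : double commutators on a series.
-/

set_option autoImplicit false
set_option linter.unusedSectionVars false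
set_option linter.style.haveILetI false
set_option maxHeartbeats 1000000

namespace Cfsg.Agent.NormalEss

open scoped commutatorElement

universe u

variable {p : ℕ} [hp : Fact p.Prime] {S : Type u} [Group S] [Finite S]

theorem sectional_quotient {k : ℕ} (hr : Cfsg.SectionalPRankLE p k S) (M : Subgroup S) [M.Normal] :
    Cfsg.SectionalPRankLE p k (S ⧸ M) := by
  intro L N hN A hA hAp
  haveI := hN
  set f := QuotientGroup.mk' M
  let g : L.comap f →* L ⧸ N := (QuotientGroup.mk' N).comp (f.subgroupComap L)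
  have hg : Function.Surjective g := (QuotientGroup.mk'_surjective N).comp
    (f.subgroupComap_surjective_of_surjective L (QuotientGroup.mk'_surjective M))
  let e := QuotientGroup.quotientKerEquivOfSurjective g hg
  have h := hr (L.comap f) g.ker (A.map e.symm.toMonoidHom)
    ⟨⟨fun u v => by
      obtain ⟨⟨_, a, ha, rfl⟩, ⟨_, b, hb, rfl⟩⟩ := u, v
      refine Subtype.ext ?_
      show e.symm a * e.symm b = e.symm b * e.symm a
      rw [← map_mul, ← map_mul]
      exact congrArg e.symm (congrArg Subtype.val (hA.1.1 ⟨a, ha⟩ ⟨b, hb⟩))⟩⟩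
    (by rintro _ ⟨a, ha, rfl⟩; rw [← map_pow, hAp a ha, map_one])
  exact (Nat.card_congr (A.equivMapOfInjective e.symm.toMonoidHom e.symm.injective).toEquiv).trans_le h

/-- If `[[P, S], S] ≤ M` then the commutators of `S` centralize `P` modulo `M`. -/
theorem three_subgroups {M P : Subgroup S} [M.Normal]
    (h : ∀ v ∈ P, ∀ s t : S, ⁅⁅v, s⁆, t⁆ ∈ M) {v : S} (hv : v ∈ P) (s t : S) : ⁅v, ⁅s, t⁆⁆ ∈ M := by
  set π := QuotientGroup.mk' M
  have hπ : Function.Surjective π := QuotientGroup.mk'_surjective M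
  have h1 : ⁅⁅P.map π, (⊤ : Subgroup (S ⧸ M))⁆, (⊤ : Subgroup (S ⧸ M))⁆ = ⊥ := by
    rw [Subgroup.commutator_eq_bot_iff_le_centralizer, Subgroup.commutator_le]
    rintro _ ⟨a, ha, rfl⟩ w -
    obtain ⟨b, rfl⟩ := hπ w
    refine Subgroup.mem_centralizer_iff.2 fun q _ => ?_
    obtain ⟨c, rfl⟩ := hπ q
    refine (commutatorElement_eq_one_iff_mul_comm.1 ?_).symm
    rw [← map_commutatorElement, ← map_commutatorElement]
    exact (QuotientGroup.eq_one_iff _).2 (h a ha b c)
  have h2 := Subgroup.commutator_commutator_eq_bot_of_rotate (H₁ := (⊤ : Subgroup (S ⧸ M))) (H₂ := ⊤)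
    (H₃ := P.map π) (by rw [Subgroup.commutator_comm ⊤ (P.map π)]; exact h1) h1
  refine comm_swap ((QuotientGroup.eq_one_iff _).1 ?_)
  show π ⁅⁅s, t⁆, v⁆ = 1
  rw [map_commutatorElement, map_commutatorElement, ← Subgroup.mem_bot, ← h2]
  exact Subgroup.commutator_mem_commutator (Subgroup.commutator_mem_commutator (Subgroup.mem_top _)
    (Subgroup.mem_top _)) ⟨v, hv, rfl⟩

theorem comm_mem_of_normal {E : Subgroup S} (hE : E.Normal) {e : S} (he : e ∈ E) (s : S) : ⁅e, s⁆ ∈ E := by
  rw [commutatorElement_def, mul_assoc, mul_assoc]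
  exact mul_mem he (by simpa [mul_assoc] using hE.conj_mem _ (inv_mem he) s)

namespace Pre

variable (d : Pre p S)
include d

theorem card_mul_eq {E : Subgroup S} (hE : E ∈ d.ess) : Nat.card E * p = Nat.card S := by
  have := E.card_mul_index
  rwa [d.index E hE] at this

theorem comm_mem {E : Subgroup S} (hE : E ∈ d.ess) (s t : S) : ⁅s, t⁆ ∈ E := by
  haveI := d.normal E hE
  exact PGroup.commutator_le_of_index_eq (d.index E hE)
    (Subgroup.commutator_mem_commutator (Subgroup.mem_top s) (Subgroup.mem_top t))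

theorem eq_top_of_le_mem {E H : Subgroup S} (hE : E ∈ d.ess) {x : S} (hx : x ∉ E) (hEH : E ≤ H) (hxH : x ∈ H) :
    H = ⊤ := (Subgroup.eq_top_iff' H).2 fun s => by
  obtain ⟨i, hi⟩ := d.exists_pow hE hx s
  have h := mul_mem (pow_mem hxH i) (hEH hi)
  rwa [mul_inv_cancel_left] at h

theorem eq_top_of_le_le {E E' H : Subgroup S} (hE : E ∈ d.ess) (hE' : E' ∈ d.ess) (hne : E' ≠ E)
    (h : E ≤ H) (h' : E' ≤ H) : H = ⊤ := by
  obtain ⟨x, hx, hxE⟩ := SetLike.not_le_iff_exists.1 (d.not_le_of_ne hE' hE hne.symm)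
  exact d.eq_top_of_le_mem hE hxE h (h' hx)

theorem keep_inf {E X Y : Subgroup S} (hE : E ∈ d.ess) (hX : d.A E ≤ NormalEss.keep E X)
    (hY : d.A E ≤ NormalEss.keep E Y) : d.A E ≤ NormalEss.keep E (X ⊓ Y) := fun α hα e =>
  ⟨fun h => ⟨(hX hα e).1 h.1, (hY hα e).1 h.2⟩, fun h => ⟨(hX hα e).2 h.1, (hY hα e).2 h.2⟩⟩

/-- An invariant subgroup above the intersection is the whole essential subgroup. -/
theorem eq_of_keep (hp2 : p ≠ 2) (hS : IsPGroup p S) (hsr : Cfsg.SectionalPRankLE p 3 S) {E E' : Subgroup S}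
    (hE : E ∈ d.ess) (hE' : E' ∈ d.ess) (hne : E' ≠ E) {X : Subgroup S} (hKX : E' ⊓ E ≤ X) (hXE : X ≤ E)
    (hk : d.A E ≤ NormalEss.keep E X) : X = E := by
  rcases eq_or_lt_of_le hKX with h | h
  · exact absurd (h ▸ hk) (d.not_keep_inf hp2 hS hsr hE' hE hne)
  · refine Subgroup.eq_of_le_of_card_ge hXE ?_
    rw [← d.card_inf_mul hE hE' hne, mul_comm]
    exact PGroup.mul_card_le_of_lt hS h

/-- The group is not abelian modulo an invariant subgroup. -/
theorem exists_comm_not_mem_inv (hp2 : p ≠ 2) (hS : IsPGroup p S) (hsr : Cfsg.SectionalPRankLE p 3 S)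
    (hfix : Fixed d) {E : Subgroup S} (hE : E ∈ d.ess) {N : Subgroup S} (hN : Inv d N) :
    ∃ s t : S, ⁅s, t⁆ ∉ N := by
  by_contra h
  push Not at h
  obtain ⟨x, hx⟩ := d.exists_not_mem hE
  obtain ⟨E', hE', hne⟩ := hfix.two E hE
  refine d.false_of_displacement hp2 hS hsr hfix hE hE' hne hx fun g hg => ?_
  haveI := d.finiteAut hE
  refine mem_keep_of_maps fun e he => ⟨?_, ((g * d.cj hE x * g⁻¹) e).2⟩
  have hd : ∀ f : E, ((f⁻¹ * d.cj hE x f : E) : S) ∈ N := fun f => by
    rw [Subgroup.coe_mul, Subgroup.coe_inv, cj_apply]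
    have h2 := h (f : S)⁻¹ x
    rw [commutatorElement_def, inv_inv] at h2
    simpa [mul_assoc] using h2
  have h3 := d.disp_mem hE (hN.keep E hE) hg (hd (g⁻¹ e))
  have h4 := mul_mem he.1 (hN.le E' hE' h3)
  rwa [Subgroup.coe_mul, Subgroup.coe_inv, mul_inv_cancel_left] at h4

end Pre

end Cfsg.Agent.NormalEss
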