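import Cfsg.Agent.Lib.NormalEss.PairCentral

/-!
# A quotient of order at most `p ^ 3` forces central commutators

* `Pre.Pair.exists_inverting` : an automorphism of the group inverting a member modulo `N` and fixing `N`;
* `Pre.Pair.comm_central_small` : the commutators of the group are central.
-/

set_option autoImplicit false
set_option linter.unusedSectionVars false
set_option linter.style.haveILetI false
set_option maxHeartbeats 1000000

namespace Cfsg.Agent.NormalEss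

open scoped commutatorElement

universe u

variable {p : ℕ} [hp : Fact p.Prime] {S : Type u} [Group S] [Finite S]

theorem exists_pow_inverse {j : ℤ} (hj : ¬ (p : ℤ) ∣ j) : ∃ n : ℕ, (p : ℤ) ∣ j * n + 1 := by
  have hj0 : (j : ZMod p) ≠ 0 := fun h => hj ((ZMod.intCast_zmod_eq_zero_iff_dvd j p).1 h)
  refine ⟨(-(j : ZMod p)⁻¹).val, (ZMod.intCast_zmod_eq_zero_iff_dvd _ p).1 ?_⟩
  push_cast
  rw [ZMod.natCast_zmod_val, mul_neg, mul_inv_cancel₀ hj0, neg_add_cancel]

theorem commute_of_sup_eq_top {H K : Subgroup S} (h : H ⊔ K = ⊤) {c : S} (h1 : ∀ a ∈ H, Commute a c)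
    (h2 : ∀ a ∈ K, Commute a c) (g : S) : Commute g c :=
  (Subgroup.mem_centralizer_iff.1 ((h.ge.trans (sup_le
    (fun a ha => Subgroup.mem_centralizer_iff.2 fun q hq => (Set.mem_singleton_iff.1 hq).symm ▸ (h1 a ha).eq.symm)
    fun a ha => Subgroup.mem_centralizer_iff.2 fun q hq => (Set.mem_singleton_iff.1 hq).symm ▸ (h2 a ha).eq.symm :
    _ ≤ Subgroup.centralizer ({c} : Set S))) (Subgroup.mem_top g)) c rfl).symm

namespace Pre

namespace Pair

variable {d : Pre p S} {N E E' : Subgroup S}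

theorem sup_eq_top_small (hP : Pair d N E E') (hc : Nat.card S ≤ p ^ 3 * Nat.card N) :
    Subgroup.centralizer (N : Set S) ⊔ N = ⊤ :=
  d.sup_centralizer_eq_top hP.inv hP.fix (hP.central_small hc) (hP.big_small hc)
    (d.exists_comm_not_mem_inv hP.two hP.pgroup hP.rank hP.fix hP.mem hP.inv)

/-- The part of `N` centralizing `N` is central. -/
theorem commute_center (hP : Pair d N E E') (hc : Nat.card S ≤ p ^ 3 * Nat.card N) {c : S} (hcN : c ∈ N)
    (hcC : c ∈ Subgroup.centralizer (N : Set S)) (g : S) : Commute g c :=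
  commute_of_sup_eq_top (hP.sup_eq_top_small hc) (fun a ha => (Subgroup.mem_centralizer_iff.1 ha c hcN).symm)
    (fun a ha => Subgroup.mem_centralizer_iff.1 hcC a ha) g

theorem exists_supplement (hP : Pair d N E E') (hc : Nat.card S ≤ p ^ 3 * Nat.card N) {H : Subgroup S}
    (hNH : N ≤ H) {g : S} (hg : g ∈ H) :
    ∃ c ∈ Subgroup.centralizer (N : Set S), c ∈ H ∧ ∃ n ∈ N, c * n = g := by
  haveI := d.inv_normal hP.inv
  obtain ⟨c, hcC, n, hn, rfl⟩ := Subgroup.mem_sup_of_normal_right.1 ((hP.sup_eq_top_small hc).ge (Subgroup.mem_top g))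
  exact ⟨c, hcC, (mul_mem_cancel_right (hNH hn)).1 hg, n, hn, rfl⟩

theorem exists_outer (hP : Pair d N E E') (hc : Nat.card S ≤ p ^ 3 * Nat.card N) :
    ∃ a ∈ Subgroup.centralizer (N : Set S), a ∈ E ∧ a ∉ E' := by
  obtain ⟨a, ha, haE'⟩ := SetLike.not_le_iff_exists.1 (d.not_le_of_ne hP.mem hP.mem' hP.ne)
  obtain ⟨c, hcC, hcE, n, hn, rfl⟩ := hP.exists_supplement hc (hP.inv.le E hP.mem) ha
  exact ⟨c, hcC, hcE, fun h => haE' (mul_mem h (hP.inv.le E' hP.mem' hn))⟩

theorem comm_pow_one (hP : Pair d N E E') (hc : Nat.card S ≤ p ^ 3 * Nat.card N) {a y : S}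
    (ha : a ∈ Subgroup.centralizer (N : Set S)) (haE : a ∈ E) (hy : y ∈ Subgroup.centralizer (N : Set S)) :
    ⁅y, a⁆ ^ p = 1 := by
  set C := Subgroup.centralizer (N : Set S)
  obtain ⟨z, hz⟩ : ∃ z, z = ⁅y, a⁆ := ⟨_, rfl⟩
  have hzC : z ∈ C := by
    rw [hz, commutatorElement_def]; exact mul_mem (mul_mem (mul_mem hy ha) (inv_mem hy)) (inv_mem ha)
  have hzE : z ∈ E := hz ▸ d.comm_mem hP.mem y a
  have hc0 : ⁅a, z⁆ ∈ N := hP.comm_mem_self hc haE hzE
  have hc0C : ⁅a, z⁆ ∈ C := by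
    rw [commutatorElement_def]; exact mul_mem (mul_mem (mul_mem ha hzC) (inv_mem ha)) (inv_mem hzC)
  have hcen := hP.commute_center hc hc0 hc0C
  have hap : a ^ p ∈ N := hP.frat_le hc (pow_mem_frat hP.pgroup haE)
  have hyap := (Subgroup.mem_centralizer_iff.1 hy (a ^ p) hap).symm
  have hzap := (Subgroup.mem_centralizer_iff.1 hzC (a ^ p) hap).symm
  have h1 : ⁅a, z⁆ ^ p = 1 := by
    rw [← PGroup.commutator_pow_left (hcen a) p]
    exact commutatorElement_eq_one_iff_commute.2 hzap.symm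
  have h2 : (z * a) ^ p = a ^ p := by
    rw [show z * a = y * a * y⁻¹ by rw [hz, commutatorElement_def]; group, conj_pow, hyap, mul_inv_cancel_right]
  rw [PGroup.mul_pow_prime_eq hp.out hP.two (hcen z) (hcen a) h1] at h2
  rw [← hz]
  exact mul_eq_right.1 h2

/-- An automorphism inverting `E` modulo `N` and fixing `N`. -/
theorem exists_inverting (hP : Pair d N E E') (hc : Nat.card S ≤ p ^ 3 * Nat.card N) {y : S}
    (hy : y ∈ Subgroup.centralizer (N : Set S)) (hyE : y ∉ E) :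
    ∃ a ∈ Subgroup.centralizer (N : Set S), a ∈ E ∧ a ∉ E' ∧ a ^ p = 1 ∧
      ∃ σ ∈ d.Aut, (∀ e ∈ E, e * σ e ∈ N) ∧ ∀ n ∈ N, σ n = n := by
  haveI := d.inv_normal hP.inv
  haveI := d.finiteAut hP.mem
  haveI := d.normal E hP.mem
  set C := Subgroup.centralizer (N : Set S) with hC
  have hS := hP.pgroup
  have hNE := hP.inv.le E hP.mem
  obtain ⟨a₀, ha₀C, ha₀E, ha₀E'⟩ := hP.exists_outer hc
  obtain ⟨z₀, hz₀⟩ : ∃ z₀ : E, (z₀ : S) = ⁅y, a₀⁆ := ⟨⟨_, d.comm_mem hP.mem y a₀⟩, rfl⟩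
  have hz₀K : (z₀ : S) ∈ E' ⊓ E := hz₀ ▸ Subgroup.mem_inf.2 ⟨d.comm_mem hP.mem' y a₀, d.comm_mem hP.mem y a₀⟩
  have hz₀N : (z₀ : S) ∉ N := hz₀ ▸ hP.comm_not_mem hc ha₀E ha₀E' hyE
  have hz₀C : (z₀ : S) ∈ C := by
    rw [hz₀, commutatorElement_def]; exact mul_mem (mul_mem (mul_mem hy ha₀C) (inv_mem hy)) (inv_mem ha₀C)
  obtain ⟨α, hα, hout⟩ : ∃ α ∈ d.A E, ((α z₀ : E) : S) ∉ E' := by
    by_contra h
    push Not at h
    refine d.not_keep_inf hP.two hS hP.rank hP.mem' hP.mem hP.ne fun α hα => mem_keep_of_maps fun e he => ?_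
    obtain ⟨n, hn, q, hq, hnq⟩ := Subgroup.mem_sup_of_normal_left.1 ((hP.sup_zpowers_inf hc hz₀K hz₀N).ge he)
    obtain ⟨i, rfl⟩ := Subgroup.mem_zpowers_iff.1 hq
    have he' : e = ⟨n, hNE hn⟩ * z₀ ^ i := Subtype.ext (by simpa using hnq.symm)
    rw [he', map_mul, map_zpow, Subgroup.coe_mul, Subgroup.coe_zpow]
    exact mul_mem (hP.le_inf ((hP.inv.keep E hP.mem hα ⟨n, hNE hn⟩).2 hn))
      (zpow_mem (show ((α z₀ : E) : S) ∈ E' ⊓ E from Subgroup.mem_inf.2 ⟨h α hα, (α z₀).2⟩) i)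
  set a : E := α z₀ with ha
  have haC : (a : S) ∈ C := ((d.keep_centralizer_inf hP.mem hNE (hP.inv.keep E hP.mem)) hα z₀).2
    (Subgroup.mem_inf.2 ⟨hz₀C, z₀.2⟩) |>.1
  have hap : (a : S) ^ p = 1 := by
    rw [← Subgroup.coe_pow, ha, ← map_pow, show z₀ ^ p = 1 from Subtype.ext (by
      rw [Subgroup.coe_pow, hz₀]; simpa using hP.comm_pow_one hc ha₀C ha₀E hy), map_one, Subgroup.coe_one]
  obtain ⟨z, hz⟩ : ∃ z : E, (z : S) = ⁅y, (a : S)⁆ := ⟨⟨_, d.comm_mem hP.mem y a⟩, rfl⟩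
  have hzK : (z : S) ∈ E' ⊓ E := hz ▸ Subgroup.mem_inf.2 ⟨d.comm_mem hP.mem' y a, d.comm_mem hP.mem y a⟩
  have hzN : (z : S) ∉ N := hz ▸ hP.comm_not_mem hc a.2 hout hyE
  -- the quotient
  let π := QuotientGroup.mk' (N.subgroupOf E)
  have hπ1 : ∀ e : E, π e = 1 ↔ (e : S) ∈ N := fun e => QuotientGroup.eq_one_iff e
  have hcomm : ∀ u v : E, π u * π v = π v * π u := fun u v => by
    refine commutatorElement_eq_one_iff_mul_comm.1 ?_
    rw [← map_commutatorElement, hπ1]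
    simpa [commutatorElement_def] using hP.comm_mem_self hc u.2 v.2
  letI : CommGroup (E ⧸ N.subgroupOf E) :=
    { (inferInstance : Group (E ⧸ N.subgroupOf E)) with
      mul_comm := fun u v => QuotientGroup.induction_on u fun u => QuotientGroup.induction_on v fun v => hcomm u v }
  have hexp : ∀ e : E, π e ^ p = 1 := fun e => by
    rw [← map_pow, hπ1, Subgroup.coe_pow]
    exact hP.frat_le hc (pow_mem_frat hS e.2)
  have hcongr : ∀ β ∈ d.A E, ∀ e f : E, π e = π f → π (β e) = π (β f) := by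
    intro β hβ e f h
    rw [← inv_mul_eq_one, ← map_inv π, ← map_mul π, hπ1] at h ⊢
    have h2 := (hP.inv.keep E hP.mem hβ (e⁻¹ * f)).2 h
    rwa [map_mul, map_inv β] at h2
  have hgen : ∀ e : E, ∃ i k : ℤ, π e = π z ^ i * π a ^ k := by
    intro e
    haveI := d.normal E' hP.mem'
    obtain ⟨u, hu, q, hq, huq⟩ := (Subgroup.mem_sup_of_normal_left (hs := Subgroup.normal_inf_normal _ _)).1
      ((hP.sup_zpowers_member a.2 hout).ge e.2)
    obtain ⟨k, rfl⟩ := Subgroup.mem_zpowers_iff.1 hq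
    obtain ⟨n, hn, r, hr, hnr⟩ := Subgroup.mem_sup_of_normal_left.1 ((hP.sup_zpowers_inf hc hzK hzN).ge hu)
    obtain ⟨i, rfl⟩ := Subgroup.mem_zpowers_iff.1 hr
    refine ⟨i, k, ?_⟩
    have he : e = ⟨n, hNE hn⟩ * z ^ i * a ^ k := Subtype.ext (by simp [← huq, ← hnr])
    rw [he, map_mul, map_mul, map_zpow, map_zpow, (hπ1 ⟨n, hNE hn⟩).2 hn, one_mul]
  set c := d.cj hP.mem y with hc'
  have hcA := d.cj_mem hP.mem y
  have hca : π (c a) = π z * π a := by
    rw [← map_mul]; exact congrArg π (Subtype.ext (by simp [hc', hz, commutatorElement_def]))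
  have hcK : ∀ k : E, (k : S) ∈ E' ⊓ E → π (c k) = π k := fun k hk => by
    refine (eq_comm.1 (inv_mul_eq_one.1 ?_))
    rw [← map_inv, ← map_mul, hπ1]
    have h3 : ((k⁻¹ * c k : E) : S) = ⁅(k : S)⁻¹, y⁆ := by
      simp [hc', commutatorElement_def, mul_assoc]
    rw [h3]
    exact hP.comm_inf hc (inv_mem hk) y
  -- the conjugate
  set c' := α * c * α⁻¹ with hc''
  have hc'A : c' ∈ d.A E := mul_mem (mul_mem hα hcA) (inv_mem hα)
  have hc'a : π (c' a) = π a := by
    rw [hc'', ha, MulAut.mul_apply, MulAut.mul_apply, MulAut.inv_apply_self]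
    exact hcongr α hα _ _ (hcK z₀ hz₀K)
  obtain ⟨j, hj⟩ : ∃ j : ℤ, π (c' z) = π a ^ j * π z := by
    obtain ⟨i, k, hik⟩ := hgen (α⁻¹ z)
    obtain ⟨n, hn, r, hr, hnr⟩ := Subgroup.mem_sup_of_normal_left.1 ((hP.sup_zpowers_inf hc hz₀K hz₀N).ge hzK)
    obtain ⟨l, rfl⟩ := Subgroup.mem_zpowers_iff.1 hr
    have hzl : π z = π (z₀ ^ l) := by
      have he : z = ⟨n, hNE hn⟩ * z₀ ^ l := Subtype.ext (by simp [← hnr])
      rw [he, map_mul, (hπ1 ⟨n, hNE hn⟩).2 hn, one_mul]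
    have h1 : π (c (α⁻¹ z)) = π (z₀ ^ (l * k) * α⁻¹ z) := by
      have h2 := hcongr c hcA (α⁻¹ z) (z ^ i * a ^ k) (by rw [hik, map_mul, map_zpow, map_zpow])
      rw [h2, map_mul, map_mul, map_zpow, map_zpow, map_zpow, map_zpow, hca, hcK z hzK, mul_zpow,
        map_mul, hik, map_zpow, zpow_mul, ← show π z = π z₀ ^ l from hzl.trans (map_zpow π z₀ l)]
      exact mul_left_comm _ _ _
    refine ⟨l * k, ?_⟩
    rw [hc'', MulAut.mul_apply, MulAut.mul_apply, hcongr α hα _ _ h1, map_mul, map_zpow, MulAut.apply_inv_self,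
      map_mul, map_zpow, ← ha]
  have hnd : ¬ (p : ℤ) ∣ j := by
    rintro ⟨m, rfl⟩
    rw [zpow_mul, zpow_natCast, hexp, one_zpow, one_mul] at hj
    have hfix : ∀ e : E, π (c' e) = π e := fun e => by
      obtain ⟨i, k, hik⟩ := hgen e
      rw [hcongr c' hc'A e (z ^ i * a ^ k) (by rw [hik, map_mul, map_zpow, map_zpow]), map_mul, map_mul, map_zpow,
        map_zpow, map_zpow, map_zpow, hj, hc'a, hik]
    have h2 := hcongr α⁻¹ (inv_mem hα) _ _ (hfix (α a))
    rw [hc'', MulAut.mul_apply, MulAut.mul_apply, MulAut.inv_apply_self, MulAut.inv_apply_self, hca] at h2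
    exact hzN ((hπ1 z).1 (mul_eq_right.1 h2))
  obtain ⟨n, hn⟩ := exists_pow_inverse hnd
  have hpow : ∀ n : ℕ, π ((c' ^ n) a) = π a ∧ π ((c' ^ n) z) = π a ^ (j * n) * π z := by
    intro n
    induction n with
    | zero => simp
    | succ n ih =>
      rw [pow_succ']
      refine ⟨(hcongr c' hc'A _ _ ih.1).trans hc'a, ?_⟩
      show π (c' ((c' ^ n) z)) = _
      rw [hcongr c' hc'A _ (a ^ (j * n) * z) (by rw [ih.2, map_mul, map_zpow]), map_mul, map_mul, map_zpow, map_zpow,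
        hc'a, hj, ← mul_assoc, ← zpow_add]
      congr 2
      push_cast; ring
  obtain ⟨hna, hnz⟩ := hpow n
  have hnz' : π ((c' ^ n) z) = (π a)⁻¹ * π z := by
    rw [hnz]
    congr 1
    obtain ⟨m, hm⟩ := hn
    rw [show j * (n : ℤ) = (p : ℤ) * m - 1 by rw [← hm]; ring, zpow_sub, zpow_mul, zpow_natCast, hexp, one_zpow,
      zpow_one, one_mul]
  have hnA := pow_mem hc'A n
  set w := c * c' ^ n * c with hw
  have hwA : w ∈ d.A E := mul_mem (mul_mem hcA hnA) hcA
  have hwz : π (w z) = (π a)⁻¹ := by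
    have s1 : π ((c' ^ n) (c z)) = π (a⁻¹ * z) := by
      rw [hcongr _ hnA _ _ (hcK z hzK), hnz', map_mul, map_inv]
    rw [hw, MulAut.mul_apply, MulAut.mul_apply, hcongr c hcA _ _ s1, map_mul, map_mul, map_inv, map_inv, hca,
      hcK z hzK, mul_inv_rev, mul_assoc, inv_mul_cancel, mul_one]
  have hwa : π (w a) = π z := by
    have s1 : π ((c' ^ n) (c a)) = π z := by
      rw [hcongr _ hnA (c a) (z * a) (by rw [hca, map_mul]), map_mul, map_mul, hna, hnz', mul_right_comm,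
        inv_mul_cancel, one_mul]
    rw [hw, MulAut.mul_apply, MulAut.mul_apply, hcongr c hcA _ _ s1, hcK z hzK]
  set g := w * w with hg
  have hgA : g ∈ d.A E := mul_mem hwA hwA
  have hgV : ∀ e : E, π (g e) = (π e)⁻¹ := by
    intro e
    obtain ⟨i, k, hik⟩ := hgen e
    have s1 : π (w e) = π ((a⁻¹) ^ i * z ^ k) := by
      rw [hcongr w hwA e (z ^ i * a ^ k) (by rw [hik, map_mul, map_zpow, map_zpow]), map_mul, map_mul, map_zpow w,
        map_zpow w, map_zpow π, map_zpow π, hwz, hwa, map_mul, map_zpow, map_zpow, map_inv]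
    rw [hg, MulAut.mul_apply, hcongr w hwA _ _ s1, map_mul, map_mul, map_zpow, map_zpow, map_inv, map_zpow, map_zpow,
      map_inv, hwa, hwz, hik, mul_inv, ← inv_zpow, ← inv_zpow]
  -- fixing `N`
  have hcN : ∀ e : E, (e : S) ∈ N → c e = e := fun e he => Subtype.ext (by
    rw [hc', cj_apply, ← Subgroup.mem_centralizer_iff.1 hy _ he, mul_inv_cancel_right])
  have hc'N : ∀ e : E, (e : S) ∈ N → c' e = e := fun e he => by
    rw [hc'', MulAut.mul_apply, MulAut.mul_apply, hcN _ ((hP.inv.keep E hP.mem (inv_mem hα) e).2 he),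
      MulAut.apply_inv_self]
  have hwN : ∀ e : E, (e : S) ∈ N → w e = e := fun e he => by
    have h : ∀ m : ℕ, (c' ^ m) e = e := fun m => by
      induction m with
      | zero => rfl
      | succ m ih => rw [pow_succ, MulAut.mul_apply, hc'N e he, ih]
    rw [hw, MulAut.mul_apply, MulAut.mul_apply, hcN e he, h, hcN e he]
  have hgN : ∀ e : E, (e : S) ∈ N → g e = e := fun e he => by rw [hg, MulAut.mul_apply, hwN e he, hwN e he]
  have hginv : ∀ e : E, π (g⁻¹ e) = (π e)⁻¹ := fun e => by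
    have h := hgV (g⁻¹ e)
    rw [MulAut.apply_inv_self] at h
    rw [h, inv_inv]
  set γ := g * c * g⁻¹ * c⁻¹ with hγ
  have hγA : γ ∈ d.A E := mul_mem (mul_mem (mul_mem hgA hcA) (inv_mem hgA)) (inv_mem hcA)
  have hγV : ∀ e : E, π (γ e) = π e := fun e => by
    have s1 : π (c (g⁻¹ (c⁻¹ e))) = (π e)⁻¹ := by
      rw [hcongr c hcA _ (c⁻¹ e)⁻¹ (by rw [hginv, map_inv]), map_inv, map_inv, MulAut.apply_inv_self]
    rw [hγ, MulAut.mul_apply, MulAut.mul_apply, MulAut.mul_apply, hgV, s1, inv_inv]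
  have hγN : ∀ e : E, (e : S) ∈ N → γ e = e := fun e he => by
    have h1 : c⁻¹ e = e := c.injective (by rw [MulAut.apply_inv_self, hcN e he])
    have h2 : g⁻¹ e = e := g.injective (by rw [MulAut.apply_inv_self, hgN e he])
    rw [hγ, MulAut.mul_apply, MulAut.mul_apply, MulAut.mul_apply, h1, h2, hcN e he, hgN e he]
  have hγconj : γ ∈ conjSub E := d.mem_conjSub_of_series hP.mem hS
    (fun i => match i with | 0 => frat E | 1 => N | _ => E) 2 rfl rfl
    (fun i hi => by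
      rcases i with _ | _ | i
      · exact hP.frat_le hc
      · exact hNE
      · omega)
    (fun i hi => by
      rcases i with _ | _ | _ | i
      · exact d.keep_frat hP.mem
      · exact hP.inv.keep E hP.mem
      · exact d.keep_self hP.mem
      · omega) hγA fun i hi u hu => by
      rcases i with _ | _ | i
      · rw [hγN u hu, inv_mul_cancel, Subgroup.coe_one]
        exact one_mem _
      · exact (hπ1 _).1 (by rw [map_mul, map_inv, hγV, inv_mul_cancel])
      · omega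
  have hn : ∀ β ∈ conjSub E, g * β * g⁻¹ ∈ conjSub E := by
    intro β hβ
    obtain ⟨s, rfl⟩ := (d.mem_conjSub_iff hP.mem).1 hβ
    obtain ⟨i, hi⟩ := d.exists_pow hP.mem hyE s
    have h1 : g * c * g⁻¹ ∈ conjSub E := by
      have h := mul_mem hγconj ((d.mem_conjSub_iff hP.mem).2 ⟨y, rfl⟩ : c ∈ conjSub E)
      rwa [hγ, inv_mul_cancel_right] at h
    rw [← mul_inv_cancel_left (y ^ i) s, map_mul, map_pow, ← conj_mul, ← conj_pow]
    refine mul_mem (pow_mem h1 i) ?_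
    rw [d.conj_conj hP.mem g ⟨_, hi⟩]
    exact (d.mem_conjSub_iff hP.mem).2 ⟨_, rfl⟩
  obtain ⟨σ, hσ, hσe⟩ := d.extend E hP.mem g hgA hn
  refine ⟨a, haC, a.2, hout, hap, σ, hσ, fun e he => ?_, fun n hn => ?_⟩
  · have h := (hπ1 (⟨e, he⟩ * g ⟨e, he⟩)).1 (by rw [map_mul, hgV, mul_inv_cancel])
    rwa [Subgroup.coe_mul, ← hσe] at h
  · have h := hσe ⟨n, hNE hn⟩
    rwa [hgN _ hn] at h

/-- The centralizer of `N` in the intersection is centralized by the outer elements. -/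
theorem exists_gens (hP : Pair d N E E') (hc : Nat.card S ≤ p ^ 3 * Nat.card N) :
    ∃ a z : S, a ∈ Subgroup.centralizer (N : Set S) ∧ z ∈ Subgroup.centralizer (N : Set S) ∧ a ∈ E ∧ a ∉ E' ∧
      z ∈ E' ⊓ E ∧ z ∉ N ∧ a ^ p = 1 ∧ z ^ p = 1 ∧
      ∀ k ∈ E' ⊓ E, k ∈ Subgroup.centralizer (N : Set S) →
        ∀ y ∈ E', y ∈ Subgroup.centralizer (N : Set S) → Commute k y := by
  haveI := d.inv_normal hP.inv
  set C := Subgroup.centralizer (N : Set S) with hC
  obtain ⟨y, hyC, hyE', hyE⟩ := hP.symm.exists_outer hc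
  obtain ⟨a, haC, haE, haE', hap, σ, hσ, hinv, hfixN⟩ := hP.exists_inverting hc hyC hyE
  obtain ⟨z, hz⟩ : ∃ z, z = ⁅y, a⁆ := ⟨_, rfl⟩
  have hzC : z ∈ C := by
    rw [hz, commutatorElement_def]; exact mul_mem (mul_mem (mul_mem hyC haC) (inv_mem hyC)) (inv_mem haC)
  have hzK : z ∈ E' ⊓ E := hz ▸ Subgroup.mem_inf.2 ⟨d.comm_mem hP.mem' y a, d.comm_mem hP.mem y a⟩
  have hzN : z ∉ N := hz ▸ hP.comm_not_mem hc haE haE' hyE
  have hσC : ∀ g ∈ C, σ g ∈ C := fun g hg => Subgroup.mem_centralizer_iff.2 fun n hn => by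
    have h := congrArg σ (Subgroup.mem_centralizer_iff.1 hg n hn)
    rwa [map_mul, map_mul, hfixN n hn] at h
  have hzc : ∀ k ∈ E' ⊓ E, k ∈ C → ∃ (i : ℤ) (n : S), n ∈ N ∧ n ∈ C ∧ n * z ^ i = k := by
    intro k hk hkC
    obtain ⟨n, hn, r, hr, rfl⟩ := Subgroup.mem_sup_of_normal_left.1 ((hP.sup_zpowers_inf hc hzK hzN).ge hk)
    obtain ⟨i, rfl⟩ := Subgroup.mem_zpowers_iff.1 hr
    exact ⟨i, n, hn, (mul_mem_cancel_right (zpow_mem hzC i)).1 hkC, rfl⟩
  have hKab : ∀ k ∈ E' ⊓ E, k ∈ C → Commute k z := fun k hk hkC => by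
    obtain ⟨i, n, hn, hnC, rfl⟩ := hzc k hk hkC
    exact ((hP.commute_center hc hn hnC z).symm).mul_left ((Commute.refl z).zpow_left i)
  obtain ⟨t, ht⟩ : ∃ t, t = y⁻¹ * σ y := ⟨_, rfl⟩
  have hσy : σ y = y * t := by rw [ht, mul_inv_cancel_left]
  have htE' : t ∈ E' := ht ▸ mul_mem (inv_mem hyE') (hP.fix.fix σ hσ E' hP.mem' y hyE')
  have htC : t ∈ C := ht ▸ mul_mem (inv_mem hyC) (hσC y hyC)
  have htE : t ∈ E := by
    by_contra htE
    refine hP.comm_not_mem hc haE haE' htE ?_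
    set π := QuotientGroup.mk' N
    refine (QuotientGroup.eq_one_iff _).1 ?_
    show π ⁅t, a⁆ = 1
    have hinv' : ∀ e ∈ E, π (σ e) = (π e)⁻¹ := fun e he => by
      refine eq_inv_of_mul_eq_one_right ?_
      rw [← map_mul]
      exact (QuotientGroup.eq_one_iff _).2 (hinv e he)
    have h1 : π ⁅y * t, a⁻¹⁆ = π z⁻¹ := by
      rw [map_inv, ← hinv' z hzK.2, hz, map_commutatorElement σ, hσy, map_commutatorElement π,
        map_commutatorElement π, hinv' a haE, map_inv]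
    have hzc1 : ∀ g : S, Commute (π z) (π g) := fun g => commutatorElement_eq_one_iff_commute.1 (by
      rw [← map_commutatorElement]; exact (QuotientGroup.eq_one_iff _).2 (hP.comm_inf hc hzK g))
    have h2 : π ⁅y, a⁻¹⁆ = (π z)⁻¹ := by
      rw [show ⁅y, a⁻¹⁆ = a⁻¹ * z⁻¹ * a by rw [hz]; simp only [commutatorElement_def]; group, map_mul, map_mul,
        map_inv π z, ← ((hzc1 a⁻¹).inv_left).eq, mul_assoc, ← map_mul, inv_mul_cancel, map_one, mul_one]
    rw [show ⁅y * t, a⁻¹⁆ = y * ⁅t, a⁻¹⁆ * y⁻¹ * ⁅y, a⁻¹⁆ by simp only [commutatorElement_def]; group, map_mul, h2,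
      map_inv, mul_eq_right, map_mul, map_mul, map_inv, mul_inv_eq_one, mul_eq_left] at h1
    rw [show ⁅t, a⁆ = a * ⁅t, a⁻¹⁆⁻¹ * a⁻¹ by simp only [commutatorElement_def]; group, map_mul, map_mul, map_inv,
      h1, inv_one, mul_one, ← map_mul, mul_inv_cancel, map_one]
  obtain ⟨n, hn⟩ : ∃ n, n = z * σ z := ⟨_, rfl⟩
  have hnN : n ∈ N := hn ▸ hinv z hzK.2
  have hnC : n ∈ C := hn ▸ mul_mem hzC (hσC z hzC)
  have hncen := hP.commute_center hc hnN hnC
  obtain ⟨c, hc'⟩ : ∃ c, c = ⁅z, y⁆ := ⟨_, rfl⟩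
  have hcN : c ∈ N := hc' ▸ hP.comm_inf hc hzK y
  have hcC : c ∈ C := by
    rw [hc', commutatorElement_def]; exact mul_mem (mul_mem (mul_mem hzC hyC) (inv_mem hzC)) (inv_mem hyC)
  have hccen := hP.commute_center hc hcN hcC
  have hσz : σ z = z⁻¹ * n := by rw [hn, inv_mul_cancel_left]
  have h1 : σ c = c⁻¹ := by
    have hzt : Commute z t := (hKab t (Subgroup.mem_inf.2 ⟨htE', htE⟩) htC).symm
    rw [hc', map_commutatorElement, hσz, hσy]
    calc ⁅z⁻¹ * n, y * t⁆ = ⁅z⁻¹, y * t⁆ := by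
          rw [commutatorElement_mul_left_eq_conj_mul, commutatorElement_eq_one_iff_commute.2 (hncen (y * t)).symm,
            mul_one, mul_inv_cancel, one_mul]
      _ = ⁅z⁻¹, y⁆ * (y * ⁅z⁻¹, t⁆ * y⁻¹) := by simp only [commutatorElement_def]; group
      _ = ⁅z⁻¹, y⁆ := by rw [commutatorElement_eq_one_iff_commute.2 hzt.inv_left, mul_one, mul_inv_cancel, mul_one]
      _ = z⁻¹ * c⁻¹ * z := by rw [hc']; simp only [commutatorElement_def]; group
      _ = _ := by rw [← hc', mul_assoc, ← ((hccen z).inv_right).eq, inv_mul_cancel_left]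
  rw [hfixN c hcN, eq_inv_iff_mul_eq_one] at h1
  have hc1 : c = 1 := Subgroup.mem_bot.1 (mem_of_sq_mem hP.two hP.pgroup (L := ⊥) (h1 ▸ one_mem _))
  have hzy : Commute z y := commutatorElement_eq_one_iff_commute.1 (hc' ▸ hc1)
  refine ⟨a, z, haC, hzC, haE, haE', hzK, hzN, hap, hz ▸ hP.comm_pow_one hc haC haE hyC, fun k hk hkC w hw hwC => ?_⟩
  obtain ⟨i, hi⟩ := d.exists_pow hP.mem hyE w
  have hrest : (y ^ i)⁻¹ * w ∈ C := mul_mem (inv_mem (pow_mem hyC i)) hwC
  have hrestE' : (y ^ i)⁻¹ * w ∈ E' := mul_mem (inv_mem (pow_mem hyE' i)) hw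
  obtain ⟨l, m, hm, hmC, rfl⟩ := hzc k hk hkC
  refine ((hP.commute_center hc hm hmC w).symm).mul_left (Commute.zpow_left ?_ l)
  have h := (hzy.pow_right i).mul_right (hKab _ (Subgroup.mem_inf.2 ⟨hrestE', hi⟩) hrest).symm
  rwa [mul_inv_cancel_left] at h

/-- The commutators are central. -/
theorem comm_central_small (hP : Pair d N E E') (hc : Nat.card S ≤ p ^ 3 * Nat.card N) (s t u : S) :
    ⁅⁅s, t⁆, u⁆ = 1 := by
  haveI := d.inv_normal hP.inv
  haveI := d.normal E hP.mem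
  haveI hfn := frat_normal (d.inv_normal hP.inv)
  set C := Subgroup.centralizer (N : Set S) with hC
  obtain ⟨a, z, haC, hzC, haE, haE', hzK, hzN, hap, hzp, hcomm⟩ := hP.exists_gens hc
  obtain ⟨a', z', -, -, -, -, -, -, -, -, hcomm'⟩ := hP.symm.exists_gens hc
  have hza : Commute z a := hcomm' z (inf_comm E E' ▸ hzK) hzC a haE haC
  have hNE := hP.inv.le E hP.mem
  have hE : E ≤ (N ⊔ Subgroup.zpowers z) ⊔ Subgroup.zpowers a := by
    rw [hP.sup_zpowers_inf hc hzK hzN, hP.sup_zpowers_member haE haE']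
  -- `E` is elementary modulo the Frattini subgroup of `N`
  have hcen : ∀ q ∈ ({a, z} : Set S), E ≤ cenMod (frat N) ({q} : Set S) := by
    intro q hq
    have hqC : q ∈ C := by rcases hq with rfl | rfl; exacts [haC, hzC]
    have h1 : ∀ r, Commute r q → r ∈ cenMod (frat N) ({q} : Set S) := fun r hr => mem_cenMod.2 fun x hx => by
      rw [Set.mem_singleton_iff.1 hx, commutatorElement_eq_one_iff_commute.2 hr]; exact one_mem _
    refine hE.trans (sup_le (sup_le (fun n hn => h1 n ((Subgroup.mem_centralizer_iff.1 hqC n hn))) ?_) ?_)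
    · refine Subgroup.zpowers_le.2 (h1 z ?_)
      rcases hq with rfl | rfl; exacts [hza, Commute.refl _]
    · refine Subgroup.zpowers_le.2 (h1 a ?_)
      rcases hq with rfl | rfl; exacts [Commute.refl _, hza.symm]
  have hEN : E ≤ cenMod (frat N) (N : Set S) := by
    refine hE.trans (sup_le (sup_le (fun n hn => mem_cenMod.2 fun r hr => comm_mem_frat hP.pgroup hn hr) ?_) ?_)
    · refine Subgroup.zpowers_le.2 (mem_cenMod.2 fun r hr => ?_)
      rw [commutatorElement_eq_one_iff_commute.2 ((Subgroup.mem_centralizer_iff.1 hzC r hr).symm : Commute z r)]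
      exact one_mem _
    · refine Subgroup.zpowers_le.2 (mem_cenMod.2 fun r hr => ?_)
      rw [commutatorElement_eq_one_iff_commute.2 ((Subgroup.mem_centralizer_iff.1 haC r hr).symm : Commute a r)]
      exact one_mem _
  have hEc : E ≤ cenMod (frat N) (E : Set S) := hE.trans (sup_le (sup_le
      (fun n hn => mem_cenMod.2 fun r hr => comm_swap (mem_cenMod.1 (hEN hr) n hn))
      (Subgroup.zpowers_le.2 (mem_cenMod.2 fun r hr => comm_swap (mem_cenMod.1 (hcen z (Or.inr rfl) hr) z rfl))))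
      (Subgroup.zpowers_le.2 (mem_cenMod.2 fun r hr => comm_swap (mem_cenMod.1 (hcen a (Or.inl rfl) hr) a rfl))))
  set π := QuotientGroup.mk' (frat N) with hπ
  have hπc : ∀ e ∈ E, ∀ f ∈ E, Commute (π e) (π f) := fun e he f hf => commutatorElement_eq_one_iff_commute.1 (by
    rw [← map_commutatorElement]; exact (QuotientGroup.eq_one_iff _).2 (mem_cenMod.1 (hEc he) f hf))
  have hpow : ∀ e ∈ E, e ^ p ∈ frat N := by
    intro e he
    obtain ⟨q, hq, r, hr, rfl⟩ := Subgroup.mem_sup_of_normal_left (hs := by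
      rw [hP.sup_zpowers_inf hc hzK hzN]
      haveI := d.normal E' hP.mem'
      exact Subgroup.normal_inf_normal _ _) |>.1 (hE he)
    obtain ⟨n, hn, v, hv, rfl⟩ := Subgroup.mem_sup_of_normal_left.1 hq
    have hvE : v ∈ E := Subgroup.zpowers_le.2 hzK.2 hv
    have hrE : r ∈ E := Subgroup.zpowers_le.2 haE hr
    refine (QuotientGroup.eq_one_iff _).1 ?_
    show π _ = 1
    rw [map_pow, map_mul, map_mul, ((hπc n (hNE hn) r hrE).mul_left (hπc v hvE r hrE)).mul_pow,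
      (hπc n (hNE hn) v hvE).mul_pow, ← map_pow, ← map_pow, ← map_pow, (zpowers_elem hzp).2 v hv,
      (zpowers_elem hap).2 r hr, map_one, mul_one, mul_one]
    exact (QuotientGroup.eq_one_iff _).2 (pow_mem_frat hP.pgroup hn)
  have hfr : frat E ≤ frat N := frat_le_of (p := p) (fun e _ x hx => hfn.conj_mem x hx e)
    (fun e he f hf => mem_cenMod.1 (hEc he) f hf) hpow
  have hcard : Nat.card N ≤ p * Nat.card (frat N) := by
    refine Nat.le_of_mul_le_mul_left (c := p ^ 2) ?_ (pow_pos hp.out.pos 2)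
    calc p ^ 2 * Nat.card N = Nat.card E := (hP.card_facts hc).2.symm
      _ ≤ _ := (card_le_frat hP.pgroup hP.rank E).trans (Nat.mul_le_mul le_rfl (Subgroup.card_le_of_le hfr))
      _ = _ := by ring
  -- `N` is cyclic
  have hNab : ∀ n ∈ N, ∀ m ∈ N, Commute n m := by
    have hidx : (frattini N).index ≤ p := by
      refine Nat.le_of_mul_le_mul_left (c := Nat.card (frattini N)) ?_ Nat.card_pos
      rw [Subgroup.card_mul_index, mul_comm _ p, ← Subgroup.card_map_of_injective N.subtype_injective]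
      exact hcard
    obtain ⟨g, hg⟩ := exists_gen_step (hP.pgroup.to_subgroup N) (frattini N) (k := 0) (by rwa [zero_add, pow_one])
    have htop : Subgroup.zpowers g = ⊤ := frattini_nongenerating (by
      rw [sup_comm]
      rw [pow_zero] at hg
      exact Subgroup.index_eq_one.1 (le_antisymm hg (Nat.one_le_iff_ne_zero.2 Subgroup.index_ne_zero_of_finite)))
    intro n hn m hm
    obtain ⟨i, hi⟩ := Subgroup.mem_zpowers_iff.1 (htop.ge (Subgroup.mem_top (⟨n, hn⟩ : N)))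
    obtain ⟨k, hk⟩ := Subgroup.mem_zpowers_iff.1 (htop.ge (Subgroup.mem_top (⟨m, hm⟩ : N)))
    have h := ((Commute.refl g).zpow_zpow i k).map N.subtype
    rwa [hi, hk] at h
  have hNC : N ≤ C := fun n hn => Subgroup.mem_centralizer_iff.2 fun m hm => hNab m hm n hn
  have hCtop : C = ⊤ := (sup_eq_left.2 hNC).symm.trans (hP.sup_eq_top_small hc)
  have hzc : ∀ g : S, Commute g z := fun g => by
    refine (commute_of_sup_eq_top (d.eq_top_of_le_le hP.mem hP.mem' hP.ne (H := E ⊔ E') le_sup_left le_sup_right)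
      (fun e he => ?_) (fun e he => ?_) g)
    · obtain ⟨q, hq, r, hr, rfl⟩ := Subgroup.mem_sup_of_normal_left (hs := by
        rw [hP.sup_zpowers_inf hc hzK hzN]
        haveI := d.normal E' hP.mem'
        exact Subgroup.normal_inf_normal _ _) |>.1 (hE he)
      obtain ⟨n, hn, v, hv, rfl⟩ := Subgroup.mem_sup_of_normal_left.1 hq
      obtain ⟨i, rfl⟩ := Subgroup.mem_zpowers_iff.1 hv
      obtain ⟨k, rfl⟩ := Subgroup.mem_zpowers_iff.1 hr
      exact ((Commute.mul_left ((hP.commute_center hc hn (hNC hn) z).symm) ((Commute.refl z).zpow_left i)).mul_left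
        (hza.symm.zpow_left k))
    · exact (hcomm z hzK hzC e he (hCtop.ge (Subgroup.mem_top e))).symm
  have hK : ∀ k ∈ E' ⊓ E, ∀ g : S, Commute g k := fun k hk g => by
    obtain ⟨n, hn, r, hr, rfl⟩ := Subgroup.mem_sup_of_normal_left.1 ((hP.sup_zpowers_inf hc hzK hzN).ge hk)
    obtain ⟨i, rfl⟩ := Subgroup.mem_zpowers_iff.1 hr
    exact (hP.commute_center hc hn (hNC hn) g).mul_right ((hzc g).zpow_right i)
  exact commutatorElement_eq_one_iff_commute.2
    (hK _ (Subgroup.mem_inf.2 ⟨d.comm_mem hP.mem' s t, d.comm_mem hP.mem s t⟩) u).symm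

end Pair

end Pre

end Cfsg.Agent.NormalEss
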