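import Cfsg.Agent.Lib.NormalEss.PairBig

/-!
# The shapes of the two members

* `Pre.Pair.core_eq_bot` : the core is trivial;
* `Pre.Pair.shapes` : one member is elementary abelian and the other extraspecial, both of order `p ^ 3`.
-/

set_option autoImplicit false
set_option linter.unusedSectionVars false
set_option linter.style.haveILetI false
set_option maxHeartbeats 1000000

namespace Cfsg.Agent.NormalEss

open scoped commutatorElement
open SectionalThree (RegularModel)

universe u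

variable {p : ℕ} [hp : Fact p.Prime] {S : Type u} [Group S] [Finite S]

namespace Pre

namespace Pair

variable {d : Pre p S} {N E E' : Subgroup S} [N.Normal]

local notation "π" => QuotientGroup.mk' N

theorem core_eq_bot (hP : Pair d N E E') (M : RegularModel p (S ⧸ N)) (hEa : E = (Model.A M).comap π) : N = ⊥ := by
  by_contra hNb
  haveI := d.normal E hP.mem
  have hS := hP.pgroup
  obtain ⟨hK, -, hcE⟩ := hP.comap_facts M
  have hNE := hP.inv.le E hP.mem
  set C := Subgroup.centralizer (N : Set S) with hC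
  have hCN : C ⊔ N = ⊤ := d.sup_centralizer_eq_top hP.inv hP.fix (hP.central_model M hEa) (hP.big_model M hEa)
    hP.exists_comm_not_mem_model
  have hlift : ∀ g : S ⧸ N, ∃ r ∈ C, π r = g := by
    intro g
    obtain ⟨s, rfl⟩ := QuotientGroup.mk'_surjective N g
    obtain ⟨c, hc, n, hn, rfl⟩ := Subgroup.mem_sup_of_normal_right.1 (hCN.ge (Subgroup.mem_top s))
    refine ⟨c, hc, ?_⟩
    rw [map_mul, show π n = 1 from (QuotientGroup.eq_one_iff n).2 hn, mul_one]
  have hcen : ∀ n ∈ N, n ∈ C → ∀ g : S, Commute g n := fun n hn hnC g => by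
    obtain ⟨c, hc, m, hm, rfl⟩ := Subgroup.mem_sup_of_normal_right.1 (hCN.ge (Subgroup.mem_top g))
    exact Commute.mul_left (show Commute c n from (Subgroup.mem_centralizer_iff.1 hc n hn).symm)
      (show Commute m n from Subgroup.mem_centralizer_iff.1 hnC m hm)
  set D := C ⊓ E with hD
  have hkD : d.A E ≤ NormalEss.keep E D := d.keep_centralizer_inf hP.mem hNE (hP.inv.keep E hP.mem)
  have hDE : D ≤ E := inf_le_right
  have hEN : ∀ u ∈ E, ∀ v ∈ E, ⁅u, v⁆ ∈ N := fun u hu v hv => by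
    refine (QuotientGroup.eq_one_iff _).1 ?_
    show π ⁅u, v⁆ = 1
    rw [map_commutatorElement]
    exact commutatorElement_eq_one_iff_commute.2 (Model.A_comm M _ (hEa.le hu) _ (hEa.le hv))
  have hEp : ∀ u ∈ E, u ^ p ∈ N := fun u hu => by
    refine (QuotientGroup.eq_one_iff _).1 ?_
    show π (u ^ p) = 1
    rw [map_pow]
    exact Model.A_pow M _ (hEa.le hu)
  have hβ : ∀ u ∈ D, ∀ v ∈ D, ∀ g : S, Commute g ⁅u, v⁆ := fun u hu v hv => hcen _ (hEN u hu.2 v hv.2) (by
    rw [commutatorElement_def]; exact mul_mem (mul_mem (mul_mem hu.1 hv.1) (inv_mem hu.1)) (inv_mem hv.1))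
  obtain ⟨a, haC, ha⟩ := hlift M.a
  obtain ⟨x, hxC, hx⟩ := hlift M.x
  obtain ⟨b, hb'⟩ : ∃ b, b = a⁻¹ * (x * a * x⁻¹) := ⟨_, rfl⟩
  obtain ⟨c, hc'⟩ : ∃ c, c = b⁻¹ * (x * b * x⁻¹) := ⟨_, rfl⟩
  obtain ⟨m, hm'⟩ : ∃ m, m = c⁻¹ * (x * c * x⁻¹) := ⟨_, rfl⟩
  have hb : π b = M.b := by rw [hb', map_mul, map_inv, map_mul, map_mul, map_inv, ha, hx, M.xa, inv_mul_cancel_left]
  have hc : π c = M.c := by rw [hc', map_mul, map_inv, map_mul, map_mul, map_inv, hb, hx, M.xb, inv_mul_cancel_left]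
  have hmN : m ∈ N := by
    refine (QuotientGroup.eq_one_iff _).1 ?_
    show π m = 1
    rw [hm', map_mul, map_inv, map_mul, map_mul, map_inv, hc, hx, M.xc, inv_mul_cancel]
  have hconjC : ∀ u ∈ C, u⁻¹ * (x * u * x⁻¹) ∈ C := fun u hu =>
    mul_mem (inv_mem hu) (mul_mem (mul_mem hxC hu) (inv_mem hxC))
  have hbC : b ∈ C := hb' ▸ hconjC a haC
  have hcC : c ∈ C := hc' ▸ hconjC b hbC
  have hmC : m ∈ C := hm' ▸ hconjC c hcC
  have hmemE : ∀ u, π u ∈ Model.A M → u ∈ E := fun u hu => hEa.ge hu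
  have haD : a ∈ D := ⟨haC, hmemE a (ha ▸ Subgroup.mem_sup_left (Subgroup.mem_zpowers _))⟩
  have hbD : b ∈ D := ⟨hbC, hmemE b (hb ▸ Subgroup.mem_sup_right (Model.b_mem_K M))⟩
  have hcD : c ∈ D := ⟨hcC, hmemE c (hc ▸ Subgroup.mem_sup_right (Model.c_mem_K M))⟩
  -- the alternating form
  have hinv : ∀ u ∈ D, ∀ v ∈ D, ∀ u' v', u' = x * u * x⁻¹ → v' = x * v * x⁻¹ → ⁅u', v'⁆ = ⁅u, v⁆ := by
    rintro u hu v hv _ _ rfl rfl
    rw [show ⁅x * u * x⁻¹, x * v * x⁻¹⁆ = x * ⁅u, v⁆ * x⁻¹ by simp only [commutatorElement_def]; group,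
      (hβ u hu v hv x).eq, mul_inv_cancel_right]
  have hxa : x * a * x⁻¹ = a * b := by rw [hb', mul_inv_cancel_left]
  have hxb : x * b * x⁻¹ = b * c := by rw [hc', mul_inv_cancel_left]
  have hxc : x * c * x⁻¹ = c * m := by rw [hm', mul_inv_cancel_left]
  have hmr : ∀ u ∈ D, ∀ v ∈ D, ⁅u, v * m⁆ = ⁅u, v⁆ := fun u _ v _ => by
    rw [commutatorElement_mul_right_eq_mul_conj, commutatorElement_eq_one_iff_commute.2 (hcen m hmN hmC u), mul_one,
      mul_inv_cancel_right]
  have hbc : ⁅b, c⁆ = 1 := by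
    have h := hinv a haD c hcD _ _ hxa.symm hxc.symm
    rwa [hmr _ (mul_mem haD hbD) c hcD, PGroup.commutator_mul_left (hβ b hbD c hcD a), mul_eq_right] at h
  have hac : ⁅a, c⁆ = 1 := by
    have h := hinv a haD b hbD _ _ hxa.symm hxb.symm
    rwa [PGroup.commutator_mul_left (hβ b hbD _ (mul_mem hbD hcD) a),
      PGroup.commutator_mul_right (hβ b hbD c hcD b), PGroup.commutator_mul_right (hβ a haD c hcD b),
      hbc, commutatorElement_self, one_mul, one_mul, mul_eq_left] at h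
  -- the centre of `D`
  set Z := (Subgroup.centralizer (D : Set S) ⊓ E) ⊓ D with hZ
  have hkZ : d.A E ≤ NormalEss.keep E Z :=
    d.keep_inf hP.mem (d.keep_centralizer_inf hP.mem hDE hkD) hkD
  have hsplit : ∀ u ∈ D, ∀ H : Subgroup S, H ≤ D → H ⊔ N = E → ∃ r ∈ H, ∃ n ∈ N, n ∈ C ∧ r * n = u := by
    intro u hu H hHD hH
    obtain ⟨r, hr, n, hn, rfl⟩ := Subgroup.mem_sup_of_normal_right.1 (hH.ge hu.2)
    exact ⟨r, hr, n, hn, (mul_mem_cancel_left (show r ∈ C from (hHD hr).1)).1 (show r * n ∈ C from hu.1), rfl⟩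
  have hcent : ∀ d' ∈ D, Commute c d' := by
    intro u hu
    have hK' : ∀ r, π r ∈ Model.K M → r ∈ E' ⊓ E := fun r hr => hK.ge hr
    have hgen : E ≤ (Subgroup.centralizer ({c} : Set S) ⊓ D) ⊔ N := by
      intro e he
      have hw : ∀ q, π q ∈ Model.A M → q ∈ (Subgroup.centralizer ({c} : Set S) ⊓ D) ⊔ N := by
        intro q hq
        have hmap : Model.A M ≤ ((Subgroup.centralizer ({c} : Set S) ⊓ D) ⊔ N).map π := by
          have h1 : ∀ r, Commute r c → r ∈ D → π r ∈ ((Subgroup.centralizer ({c} : Set S) ⊓ D) ⊔ N).map π :=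
            fun r hr hrD => ⟨r, Subgroup.mem_sup_left ⟨Subgroup.mem_centralizer_iff.2 fun w hw => by
              rw [Set.mem_singleton_iff.1 hw]; exact hr.eq.symm, hrD⟩, rfl⟩
          exact sup_le (Subgroup.zpowers_le.2 (ha ▸ h1 a (commutatorElement_eq_one_iff_commute.1 hac) haD))
            (sup_le (Subgroup.zpowers_le.2 (hb ▸ h1 b (commutatorElement_eq_one_iff_commute.1 hbc) hbD))
              (Subgroup.zpowers_le.2 (hc ▸ h1 c (Commute.refl c) hcD)))
        have h := hmap hq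
        rw [← Subgroup.mem_comap, Subgroup.comap_map_eq, QuotientGroup.ker_mk', sup_assoc, sup_idem] at h
        exact h
      exact hw e (hEa.le he)
    obtain ⟨r, hr, n, hn, hnC, rfl⟩ := hsplit u hu _ inf_le_right (le_antisymm (sup_le (inf_le_right.trans hDE) hNE) hgen)
    exact Commute.mul_right (show Commute c r from Subgroup.mem_centralizer_iff.1 hr.1 c rfl) (hcen n hn hnC c)
  have hcN : c ∉ N := fun h => Model.c_ne M (hc ▸ (QuotientGroup.eq_one_iff c).2 h)
  have hsup : ∀ H : Subgroup S, H ≤ E → d.A E ≤ NormalEss.keep E H → ∀ w ∈ H, w ∉ N → H ⊔ N = E := fun H hHE hk w hw hwN =>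
    hP.eq_of_keep_model M hEa (SetLike.lt_iff_le_and_exists.2 ⟨le_sup_right, w, Subgroup.mem_sup_left hw, hwN⟩)
      (sup_le hHE hNE) (d.keep_sup hP.mem hHE hNE hk (hP.inv.keep E hP.mem))
  have hDab : ∀ u ∈ D, ∀ v ∈ D, Commute u v := by
    intro u hu v hv
    have hZE := hsup Z (inf_le_right.trans hDE) hkZ c ⟨⟨Subgroup.mem_centralizer_iff.2 fun w hw =>
      (hcent w hw).eq.symm, hcD.2⟩, hcD⟩ hcN
    obtain ⟨r, hr, n, hn, hnC, rfl⟩ := hsplit u hu Z inf_le_right hZE
    exact Commute.mul_left (show Commute r v from (Subgroup.mem_centralizer_iff.1 hr.1.1 v hv).symm) (hcen n hn hnC v).symm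
  -- the elements of order dividing `p`
  let Ω : Subgroup S :=
    { carrier := {u | u ∈ D ∧ u ^ p = 1}
      one_mem' := ⟨one_mem D, one_pow p⟩
      mul_mem' := fun {u v} hu hv => ⟨mul_mem hu.1 hv.1, by rw [(hDab u hu.1 v hv.1).mul_pow, hu.2, hv.2, one_mul]⟩
      inv_mem' := fun {u} hu => ⟨inv_mem hu.1, by rw [inv_pow, hu.2, inv_one]⟩ }
  have hkΩ : d.A E ≤ NormalEss.keep E Ω := fun α hα => by
    haveI := d.finiteAut hP.mem
    refine mem_keep_of_maps fun e he => ⟨(hkD hα e).2 he.1, ?_⟩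
    have h : e ^ p = 1 := Subtype.ext (by rw [Subgroup.coe_pow]; exact he.2)
    rw [← Subgroup.coe_pow, ← map_pow, h, map_one, Subgroup.coe_one]
  have hbp : b ^ p = 1 := by
    have hapc : ∀ g, Commute g (a ^ p) := hcen _ (hEp a haD.2) (pow_mem haC p)
    have h : (a * b) ^ p = a ^ p := by rw [← hxa, conj_pow, (hapc x).eq, mul_inv_cancel_right]
    rwa [(hDab a haD b hbD).mul_pow, mul_eq_left] at h
  have hbN : b ∉ N := fun h => Model.b_not_mem M (by
    rw [← hb, show π b = 1 from (QuotientGroup.eq_one_iff b).2 h]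
    exact one_mem _)
  have hΩE := hsup Ω (fun u hu => hu.1.2) hkΩ b ⟨hbD, hbp⟩ hbN
  haveI := d.inv_normal hP.inv
  obtain ⟨Z₀, -, hZ₀N, hZ₀c, hZ₀⟩ := PGroup.exists_normal_card_eq_prime hS hNb
  have hZΩ : Z₀ ≤ Ω := fun z hz => by
    refine ⟨⟨Subgroup.mem_centralizer_iff.2 fun w _ => Subgroup.mem_center_iff.1 (hZ₀c hz) w, hNE (hZ₀N hz)⟩, ?_⟩
    have h : (⟨z, hz⟩ : Z₀) ^ p = 1 := hZ₀ ▸ pow_card_eq_one'
    simpa using congrArg Subtype.val h
  set f : Ω →* S ⧸ N := (QuotientGroup.mk' N).comp Ω.subtype with hf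
  have hrange : f.range = E.map π := by
    rw [hf, MonoidHom.range_comp, Subgroup.range_subtype]
    conv_rhs => rw [← hΩE, Subgroup.map_sup, QuotientGroup.map_mk'_self, sup_bot_eq]
  have hEcard : Nat.card (E.map π) = p ^ 3 :=
    Nat.eq_of_mul_eq_mul_left Nat.card_pos ((card_map_mk hNE).trans (hcE.trans (mul_comm _ _)))
  have hker : p ≤ Nat.card f.ker := by
    rw [← hZ₀]
    refine Nat.card_le_card_of_injective (fun z : Z₀ => (⟨⟨z, hZΩ z.2⟩, (QuotientGroup.eq_one_iff (z : S)).2 (hZ₀N z.2)⟩ : f.ker))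
      fun u v h => ?_
    exact Subtype.ext (congrArg (fun w : f.ker => ((w : Ω) : S)) h)
  have h4 := card_elem_le hP.rank (T := Ω) (fun u hu v hv => hDab u hu.1 v hv.1) fun u hu => hu.2
  rw [← f.ker.card_mul_index, Subgroup.index_ker, hrange, hEcard] at h4
  have h5 : p * p ^ 3 ≤ 1 * p ^ 3 := le_trans (Nat.mul_le_mul hker le_rfl) (h4.trans (le_of_eq (one_mul _).symm))
  exact absurd (Nat.le_of_mul_le_mul_right h5 (pow_pos hp.out.pos 3)) (not_le.2 hp.out.one_lt)

/-- The two members. -/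
theorem shapes (hP : Pair d N E E') (M : RegularModel p (S ⧸ N)) (hEa : E = (Model.A M).comap π) :
    (Cfsg.IsElementaryAbelian p E ∧ Nat.card E = p ^ 3) ∧
      Cfsg.IsExtraspecial p E' ∧ Nat.card E' = p ^ 3 ∧ ∀ e ∈ E', e ^ p = 1 := by
  have hN := hP.core_eq_bot M hEa
  have hone : ∀ u : S, π u = 1 → u = 1 := fun u h => by
    have h2 := (QuotientGroup.eq_one_iff u).1 h
    rwa [hN, Subgroup.mem_bot] at h2
  have hinj : Function.Injective π := (injective_iff_map_eq_one _).2 hone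
  obtain ⟨hK, -, hcE⟩ := hP.comap_facts M
  obtain ⟨hK', -, hcE'⟩ := hP.symm.comap_facts M
  rw [hN, Subgroup.card_bot, mul_one] at hcE hcE'
  have hne' : E' ≠ (Model.A M).comap π := hEa ▸ hP.ne
  obtain ⟨-, g, hg, hgA⟩ := hP.symm.keep_zc M hne'
  have hS := hP.pgroup
  haveI := d.normal E' hP.mem'
  haveI := d.normal E hP.mem
  have hKA : ∀ k ∈ E' ⊓ E, k ^ p = 1 := fun k hk => hone _ (by
    rw [map_pow]; exact Model.A_pow M _ (hEa.le hk.2))
  -- the centre and the commutators of the second member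
  have hcz : ∀ q : E', q ∈ Subgroup.center E' ↔ π (q : S) ∈ Subgroup.zpowers M.c := by
    intro q
    refine ⟨fun hq => ?_, fun hq => Subgroup.mem_center_iff.2 fun e => Subtype.ext ?_⟩
    · obtain ⟨b, hb⟩ := QuotientGroup.mk'_surjective N M.b
      have hbE : b ∈ E' := (hK.ge (show π b ∈ Model.K M from hb ▸ Model.b_mem_K M)).1
      have h : ∀ w, ∀ hw : w ∈ E', Commute (π (q : S)) (π w) := fun w hw =>
        (show Commute (q : S) w from (congrArg Subtype.val (Subgroup.mem_center_iff.1 hq ⟨w, hw⟩)).symm).map π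
      exact Model.mem_zpowers_c_of_comm M hgA (hb ▸ h b hbE) (h g hg)
    · refine hinj ?_
      obtain ⟨i, hi⟩ := Subgroup.mem_zpowers_iff.1 hq
      rw [Subgroup.coe_mul, Subgroup.coe_mul, map_mul, map_mul, ← hi]
      exact ((Model.c_comm M (π (e : S))).zpow_right i).eq
  have hcomm : ∀ u v : E', π ⁅(u : S), (v : S)⁆ ∈ Subgroup.zpowers M.c := by
    haveI := Model.zpowers_c_normal M
    set Z := (Subgroup.zpowers M.c).comap π
    have hKle : E ⊓ E' ≤ cenMod Z (E' : Set S) := fun k hk => mem_cenMod.2 fun e _ => by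
      show π ⁅k, e⁆ ∈ Subgroup.zpowers M.c
      rw [map_commutatorElement]
      exact Model.comm_K_mem M (hK'.le hk) _
    have hgen : (E ⊓ E') ⊔ Subgroup.zpowers g = E' := hP.symm.sup_zpowers_member hg fun h => hgA (hEa.le h)
    have hgle : E' ≤ cenMod Z ({g} : Set S) := hgen ▸ sup_le
      (fun k hk => mem_cenMod.2 fun e he => mem_cenMod.1 (hKle hk) e ((Set.mem_singleton_iff.1 he).symm ▸ hg))
      (Subgroup.zpowers_le.2 (mem_cenMod.2 fun e he => by
        rw [Set.mem_singleton_iff.1 he, commutatorElement_self]; exact one_mem _))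
    have hall : E' ≤ cenMod Z (E' : Set S) := by
      conv_lhs => rw [← hgen]
      exact sup_le hKle (Subgroup.zpowers_le.2 (mem_cenMod.2 fun e he =>
        comm_swap (mem_cenMod.1 (hgle he) g rfl)))
    exact fun u v => mem_cenMod.1 (hall u.2) v v.2
  have hclass : ∀ u v : E', ⁅u, v⁆ ∈ Subgroup.center E' := fun u v =>
    (hcz _).2 (by simpa [commutatorElement_def] using hcomm u v)
  -- exponent
  let Ω : Subgroup S :=
    { carrier := {u | u ∈ E' ∧ u ^ p = 1}
      one_mem' := ⟨one_mem E', one_pow p⟩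
      mul_mem' := fun {u v} hu hv => ⟨mul_mem hu.1 hv.1, by
        have hv1 : (⟨v, hv.1⟩ : E') ^ p = 1 := Subtype.ext (by rw [Subgroup.coe_pow]; exact hv.2)
        have h := congrArg Subtype.val (PGroup.mul_pow_classTwo hp.out hP.two hclass
          (x := ⟨u, hu.1⟩) (y := ⟨v, hv.1⟩) (hv1.symm ▸ one_mem _))
        simp only [Subgroup.coe_pow, Subgroup.coe_mul] at h
        rw [h, hu.2, hv.2, one_mul]⟩
      inv_mem' := fun {u} hu => ⟨inv_mem hu.1, by rw [inv_pow, hu.2, inv_one]⟩ }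
  have hΩ : Ω = E' := d.eq_of_keep hP.two hS hP.rank hP.mem' hP.mem hP.ne.symm
    (fun k hk => ⟨hk.2, hKA k ⟨hk.2, hk.1⟩⟩) (fun u hu => hu.1) fun α hα => by
      haveI := d.finiteAut hP.mem'
      refine mem_keep_of_maps fun e he => ⟨(α e).2, ?_⟩
      have h : e ^ p = 1 := Subtype.ext (by rw [Subgroup.coe_pow]; exact he.2)
      rw [← Subgroup.coe_pow, ← map_pow, h, map_one, Subgroup.coe_one]
  have hexp : ∀ e ∈ E', e ^ p = 1 := fun e he => (hΩ.ge he).2
  have hcenter : Nat.card (Subgroup.center E') = p := by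
    have hle : Subgroup.zpowers M.c ≤ E'.map π := by
      refine Subgroup.zpowers_le.2 ?_
      obtain ⟨c, hc⟩ := QuotientGroup.mk'_surjective N M.c
      exact ⟨c, (hK.ge (show π c ∈ Model.K M from hc ▸ Model.c_mem_K M)).1, hc⟩
    have hmap : (Subgroup.center E').map ((QuotientGroup.mk' N).comp E'.subtype) = Subgroup.zpowers M.c := by
      refine le_antisymm ?_ fun w hw => ?_
      · rintro _ ⟨q, hq, rfl⟩
        exact (hcz q).1 hq
      · obtain ⟨r, hr, rfl⟩ := hle hw
        exact ⟨⟨r, hr⟩, (hcz _).2 hw, rfl⟩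
    rw [← card_zpowers_eq M.c_pow (Model.c_ne M), ← hmap,
      Subgroup.card_map_of_injective (f := (QuotientGroup.mk' N).comp E'.subtype) (hinj.comp Subtype.val_injective)]
  have hder : commutator E' = Subgroup.center E' := by
    refine Subgroup.eq_of_le_of_card_ge ?_ ?_
    · rw [_root_.commutator_def, Subgroup.commutator_le]
      exact fun u _ v _ => hclass u v
    rw [hcenter]
    obtain ⟨b, hb⟩ := QuotientGroup.mk'_surjective N M.b
    have hbE : b ∈ E' := (hK.ge (show π b ∈ Model.K M from hb ▸ Model.b_mem_K M)).1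
    have hne : (commutator E') ≠ ⊥ := fun h => by
      have h1 : ⁅(⟨g, hg⟩ : E'), (⟨b, hbE⟩ : E')⁆ = (1 : E') := Subgroup.mem_bot.1 (h ▸
        (_root_.commutator_def E' ▸ Subgroup.commutator_mem_commutator (Subgroup.mem_top _) (Subgroup.mem_top _)))
      have h2 : Commute (π b) (π g) :=
        ((show Commute g b from congrArg Subtype.val (commutatorElement_eq_one_iff_commute.1 h1).eq).symm).map π
      rw [hb] at h2
      exact Model.b_not_mem M (Model.mem_zpowers_c_of_comm M hgA (Commute.refl _) h2)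
    obtain ⟨Z, -, hZle, -, hZ⟩ := PGroup.exists_normal_card_eq_prime (hS.to_subgroup E') hne
    exact hZ ▸ Subgroup.card_le_of_le hZle
  have hfrat : frattini E' = Subgroup.center E' := by
    refine le_antisymm ?_ (hder ▸ PGroup.commutator_le_frattini (hS.to_subgroup E'))
    exact PGroup.frattini_le_of_quotient_elementary (p := p) hder.le fun u => by
      rw [show u ^ p = 1 from Subtype.ext (by rw [Subgroup.coe_pow]; exact hexp u u.2)]
      exact one_mem _
  refine ⟨⟨⟨⟨⟨fun u v => Subtype.ext (hinj ?_)⟩⟩, fun u hu => hone _ (by rw [map_pow]; exact Model.A_pow M _ (hEa.le hu))⟩,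
    hcE⟩, ⟨⟨hS.to_subgroup E', hfrat, hder⟩, hcenter⟩, hcE', hexp⟩
  rw [Subgroup.coe_mul, Subgroup.coe_mul, map_mul, map_mul]
  exact (Model.A_comm M _ (hEa.le u.2) _ (hEa.le v.2)).eq

end Pair

end Pre

end Cfsg.Agent.NormalEss
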