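import Cfsg.Agent.Lib.NormalEss.PairCommon

/-!
# The case in which the quotient by the core has order at most `p ^ 3`

* `Pair d N E E'` : two members with a common invariant subgroup `N`;
* `Pair.big_small` : the hypothesis `Big`;
* `Pair.frat_le` : the members are elementary modulo `N`.
-/

set_option autoImplicit false
set_option linter.unusedSectionVars false
set_option linter.style.haveILetI false
set_option maxHeartbeats 1000000

namespace Cfsg.Agent.NormalEss

open scoped commutatorElement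

universe u

variable {p : ℕ} [hp : Fact p.Prime] {S : Type u} [Group S] [Finite S]

namespace Pre

/-- Two members with a common invariant subgroup. -/
structure Pair (d : Pre p S) (N E E' : Subgroup S) : Prop where
  two : p ≠ 2
  pgroup : IsPGroup p S
  rank : Cfsg.SectionalPRankLE p 3 S
  fix : Fixed d
  inv : Inv d N
  mem : E ∈ d.ess
  mem' : E' ∈ d.ess
  ne : E' ≠ E
  only : ∀ X ∈ d.ess, X = E ∨ X = E'
  maximal : ∀ M, Inv d M → N ≤ M → M = N

namespace Pair

variable {d : Pre p S} {N E E' : Subgroup S}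

theorem symm (hP : Pair d N E E') : Pair d N E' E :=
  { hP with mem := hP.mem', mem' := hP.mem, ne := hP.ne.symm, only := fun X hX => (hP.only X hX).symm }

theorem le_inf (hP : Pair d N E E') : N ≤ E' ⊓ E := _root_.le_inf (hP.inv.le _ hP.mem') (hP.inv.le _ hP.mem)

theorem lt_inf (hP : Pair d N E E') : N < E' ⊓ E := lt_of_le_of_ne hP.le_inf fun h =>
  d.not_keep_inf hP.two hP.pgroup hP.rank hP.mem' hP.mem hP.ne (h ▸ hP.inv.keep E hP.mem)

theorem card_facts (hP : Pair d N E E') (hc : Nat.card S ≤ p ^ 3 * Nat.card N) :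
    Nat.card (E' ⊓ E : Subgroup S) = p * Nat.card N ∧ Nat.card E = p ^ 2 * Nat.card N := by
  have h1 := PGroup.mul_card_le_of_lt hP.pgroup hP.lt_inf
  have h2 := d.card_inf_mul hP.mem hP.mem' hP.ne
  have h3 := d.card_mul_eq hP.mem
  have h4 : Nat.card (E' ⊓ E : Subgroup S) ≤ p * Nat.card N := by
    refine Nat.le_of_mul_le_mul_right ?_ (pow_pos hp.out.pos 2)
    calc Nat.card (E' ⊓ E : Subgroup S) * p ^ 2 = Nat.card S := by rw [← h3, ← h2]; ring
      _ ≤ p ^ 3 * Nat.card N := hc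
      _ = _ := by ring
  have h5 := le_antisymm h4 h1
  exact ⟨h5, by rw [← h2, h5]; ring⟩

theorem comm_inf (hP : Pair d N E E') (hc : Nat.card S ≤ p ^ 3 * Nat.card N) {k : S} (hk : k ∈ E' ⊓ E) (s : S) :
    ⁅k, s⁆ ∈ N := by
  haveI := d.inv_normal hP.inv
  haveI := d.normal E hP.mem
  haveI := d.normal E' hP.mem'
  exact SectionalThree.commutator_mem_of_card_le hP.pgroup hP.le_inf (hP.card_facts hc).1.le hk s

theorem frat_le (hP : Pair d N E E') (hc : Nat.card S ≤ p ^ 3 * Nat.card N) : frat E ≤ N := by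
  by_contra hnot
  have hle : frat E ⊔ N ≤ E' ⊓ E := sup_le (d.frat_le_inf hP.pgroup hP.mem hP.mem') hP.le_inf
  have heq : frat E ⊔ N = E' ⊓ E := by
    refine Subgroup.eq_of_le_of_card_ge hle ?_
    rw [(hP.card_facts hc).1]
    exact PGroup.mul_card_le_of_lt hP.pgroup (lt_of_le_not_ge le_sup_right fun h => hnot (le_sup_left.trans h))
  exact d.not_keep_inf hP.two hP.pgroup hP.rank hP.mem' hP.mem hP.ne (heq ▸ d.keep_sup hP.mem (NormalEss.frat_le E)
    (hP.inv.le E hP.mem) (d.keep_frat hP.mem) (hP.inv.keep E hP.mem))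

theorem comm_mem_self (hP : Pair d N E E') (hc : Nat.card S ≤ p ^ 3 * Nat.card N) {e f : S} (he : e ∈ E)
    (hf : f ∈ E) : ⁅e, f⁆ ∈ N := hP.frat_le hc (comm_mem_frat hP.pgroup he hf)

/-- An outer element does not commute with `E` modulo `N`. -/
theorem false_of_comm (hP : Pair d N E E') (hc : Nat.card S ≤ p ^ 3 * Nat.card N) {y : S} (hy : y ∉ E)
    (h : ∀ e ∈ E, ⁅y, e⁆ ∈ N) : False := by
  haveI := d.inv_normal hP.inv
  obtain ⟨s, t, hst⟩ := d.exists_comm_not_mem_inv hP.two hP.pgroup hP.rank hP.fix hP.mem hP.inv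
  refine hst (commute_of_gens (s := (E : Set S) ∪ {y}) ?_ ?_ s t)
  · exact d.eq_top_of_le_mem hP.mem hy (fun e he => Subgroup.subset_closure (Or.inl he))
      (Subgroup.subset_closure (Or.inr rfl))
  · rintro u (hu | hu) v (hv | hv)
    · exact hP.comm_mem_self hc hu hv
    · rw [Set.mem_singleton_iff.1 hv]; exact comm_swap (h u hu)
    · rw [Set.mem_singleton_iff.1 hu]; exact h v hv
    · rw [Set.mem_singleton_iff.1 hu, Set.mem_singleton_iff.1 hv, commutatorElement_self]; exact one_mem _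

theorem sup_zpowers_inf (hP : Pair d N E E') (hc : Nat.card S ≤ p ^ 3 * Nat.card N) {z : S} (hz : z ∈ E' ⊓ E)
    (hzN : z ∉ N) : N ⊔ Subgroup.zpowers z = E' ⊓ E := by
  refine Subgroup.eq_of_le_of_card_ge (sup_le hP.le_inf (Subgroup.zpowers_le.2 hz)) ?_
  rw [(hP.card_facts hc).1]
  exact PGroup.mul_card_le_of_lt hP.pgroup (SetLike.lt_iff_le_and_exists.2
    ⟨le_sup_left, z, Subgroup.mem_sup_right (Subgroup.mem_zpowers z), hzN⟩)

theorem sup_zpowers_member (hP : Pair d N E E') {a : S} (ha : a ∈ E) (haK : a ∉ E') :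
    (E' ⊓ E) ⊔ Subgroup.zpowers a = E := by
  refine Subgroup.eq_of_le_of_card_ge (sup_le inf_le_right (Subgroup.zpowers_le.2 ha)) ?_
  rw [← d.card_inf_mul hP.mem hP.mem' hP.ne, mul_comm]
  exact PGroup.mul_card_le_of_lt hP.pgroup (SetLike.lt_iff_le_and_exists.2
    ⟨le_sup_left, a, Subgroup.mem_sup_right (Subgroup.mem_zpowers a), fun h => haK h.1⟩)

theorem comm_not_mem (hP : Pair d N E E') (hc : Nat.card S ≤ p ^ 3 * Nat.card N) {a y : S} (ha : a ∈ E)
    (haK : a ∉ E') (hy : y ∉ E) : ⁅y, a⁆ ∉ N := fun h => by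
  haveI := d.inv_normal hP.inv
  refine hP.false_of_comm hc hy fun e he => ?_
  have hle : E ≤ cenMod N ({y} : Set S) := by
    rw [← hP.sup_zpowers_member ha haK]
    refine sup_le (fun k hk => mem_cenMod.2 fun x _ => hP.comm_inf hc hk x) (Subgroup.zpowers_le.2 ?_)
    exact mem_cenMod.2 fun x hx => (Set.mem_singleton_iff.1 hx).symm ▸ comm_swap h
  exact comm_swap (mem_cenMod.1 (hle he) y rfl)

theorem big_small (hP : Pair d N E E') (hc : Nat.card S ≤ p ^ 3 * Nat.card N) : Big d N := by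
  intro X hX hlt hk
  haveI := d.inv_normal hP.inv
  haveI := hX
  obtain ⟨Y, hYn, hNY, hYX, hcY, hYc⟩ := PGroup.exists_normal_between hP.pgroup hlt
  have hYc' : ∀ y ∈ Y, ∀ s : S, ⁅y, s⁆ ∈ N := fun y hy s =>
    hYc (Subgroup.commutator_mem_commutator hy (Subgroup.mem_top s))
  have key : ∀ {F F'}, Pair d N F F' → Y ≤ F := fun {F F'} hF y hy => by
    by_contra hyF
    exact hF.false_of_comm hc hyF fun e _ => hYc' y hy e
  have hYK : Y = E' ⊓ E := Subgroup.eq_of_le_of_card_ge (_root_.le_inf (key hP.symm) (key hP)) (by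
    rw [hcY, (hP.card_facts hc).1])
  have h1 : X ⊓ E = E := d.eq_of_keep hP.two hP.pgroup hP.rank hP.mem hP.mem' hP.ne
    (_root_.le_inf (hYK ▸ hYX) inf_le_right) inf_le_right (hk E hP.mem)
  have h2 : X ⊓ E' = E' := d.eq_of_keep hP.two hP.pgroup hP.rank hP.mem' hP.mem hP.ne.symm
    (_root_.le_inf (by rw [inf_comm]; exact hYK ▸ hYX) inf_le_right) inf_le_right (hk E' hP.mem')
  exact d.eq_top_of_le_le hP.mem hP.mem' hP.ne (inf_eq_right.1 h1) (inf_eq_right.1 h2)

theorem inf_le_sup_commutator (hP : Pair d N E E') (hc : Nat.card S ≤ p ^ 3 * Nat.card N) :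
    ∃ s t : S, N ⊔ Subgroup.zpowers ⁅s, t⁆ = E' ⊓ E := by
  obtain ⟨s, t, hst⟩ := d.exists_comm_not_mem_inv hP.two hP.pgroup hP.rank hP.fix hP.mem hP.inv
  exact ⟨s, t, hP.sup_zpowers_inf hc (Subgroup.mem_inf.2 ⟨d.comm_mem hP.mem' s t, d.comm_mem hP.mem s t⟩) hst⟩

end Pair

end Pre

end Cfsg.Agent.NormalEss
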