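import Cfsg.Agent.Lib.NormalEss.NotKeep

/-!
# The quotient by the largest invariant subgroup of a pair of essential subgroups

* `Pre.Fixed d` : every member is fixed by the automorphisms and is not the only one;
* `Pre.Inv d N` : invariant under every group of automorphisms and contained in every member;
* `Pre.exists_core` : a maximal such subgroup; `Pre.exists_datum_quotient` : the `Datum` on the quotient.
-/

set_option autoImplicit false
set_option linter.unusedSectionVars false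
set_option linter.style.haveILetI false
set_option maxHeartbeats 1600000

namespace Cfsg.Agent.NormalEss

open scoped commutatorElement

universe u

variable {p : ℕ} [hp : Fact p.Prime] {S : Type u} [Group S] [Finite S]

namespace Pre

variable (d : Pre p S)

/-- Every member is fixed by the automorphisms of the group and there is a second one. -/
structure Fixed (d : Pre p S) : Prop where
  fix : ∀ σ ∈ d.Aut, ∀ E ∈ d.ess, ∀ e ∈ E, σ e ∈ E
  two : ∀ E ∈ d.ess, ∃ E' ∈ d.ess, E' ≠ E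

/-- Invariant under all the automorphism groups and contained in all the members. -/
structure Inv (d : Pre p S) (N : Subgroup S) : Prop where
  aut : ∀ σ ∈ d.Aut, ∀ q ∈ N, σ q ∈ N
  le : ∀ E ∈ d.ess, N ≤ E
  keep : ∀ E ∈ d.ess, d.A E ≤ keep E N

include d

theorem aut_mem_iff {N : Subgroup S} (hN : ∀ σ ∈ d.Aut, ∀ q ∈ N, σ q ∈ N) {σ : MulAut S} (hσ : σ ∈ d.Aut)
    (q : S) : σ q ∈ N ↔ q ∈ N :=
  ⟨fun h => by have h2 := hN σ⁻¹ (inv_mem hσ) _ h; rwa [MulAut.inv_apply_self] at h2, hN σ hσ q⟩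

theorem inv_bot (hfix : Fixed d) : Inv d ⊥ where
  aut := fun σ _ q hq => by rw [Subgroup.mem_bot] at hq ⊢; rw [hq, map_one]
  le := fun _ _ => bot_le
  keep := fun _ hE => d.keep_bot hE

theorem inv_normal {N : Subgroup S} (hN : Inv d N) : N.Normal :=
  ⟨fun q hq s => hN.aut _ (d.conj_mem s) q hq⟩

theorem exists_core (hfix : Fixed d) : ∃ N, Inv d N ∧ ∀ M, Inv d M → N ≤ M → M = N := by
  classical
  obtain ⟨N, hN, hmax⟩ := Set.Finite.exists_maximal (s := {N : Subgroup S | Inv d N}) (Set.toFinite _)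
    ⟨⊥, d.inv_bot hfix⟩
  exact ⟨N, hN, fun M hM h => le_antisymm (hmax hM h) h⟩

/-- The members are not moved by the automorphisms trivial modulo the intersection. -/
theorem false_of_displacement (hp2 : p ≠ 2) (hS : IsPGroup p S) (hsr : Cfsg.SectionalPRankLE p 3 S)
    (hfix : Fixed d) {E E' : Subgroup S} (hE : E ∈ d.ess) (hE' : E' ∈ d.ess) (hne : E' ≠ E) {x : S} (hx : x ∉ E)
    (h : ∀ g ∈ d.A E, g * d.cj hE x * g⁻¹ ∈ keep E (E' ⊓ E)) : False :=
  d.not_keep_inf hp2 hS hsr hE' hE hne (d.keep_of_conjugates hE hS (fun σ hσ q hq =>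
    Subgroup.mem_inf.2 ⟨hfix.fix σ hσ E' hE' q hq.1, hfix.fix σ hσ E hE q hq.2⟩) hx h)

variable {N : Subgroup S} [N.Normal]

omit d in
/-- The restriction of the quotient map. -/
def projX (X : Subgroup (S ⧸ N)) : X.comap (QuotientGroup.mk' N) →* X :=
  MonoidHom.mk' (fun e => ⟨QuotientGroup.mk' N e, e.2⟩) fun _ _ => Subtype.ext (map_mul _ _ _)

omit d in
theorem projX_surjective (X : Subgroup (S ⧸ N)) : Function.Surjective (projX X) := fun v => by
  obtain ⟨s, hs⟩ := QuotientGroup.mk'_surjective N v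
  exact ⟨⟨s, show QuotientGroup.mk' N s ∈ X from hs.symm ▸ v.2⟩, Subtype.ext hs⟩

/-- The automorphisms of a subgroup of the quotient induced by the given ones. -/
def quotA (X : Subgroup (S ⧸ N)) : Subgroup (MulAut X) where
  carrier := {β | ∃ α ∈ d.A (X.comap (QuotientGroup.mk' N)), ∀ e, β (projX X e) = projX X (α e)}
  one_mem' := ⟨1, one_mem _, fun _ => rfl⟩
  mul_mem' := by
    rintro β γ ⟨a, ha, hβ⟩ ⟨b, hb, hγ⟩
    exact ⟨a * b, mul_mem ha hb, fun e => by rw [MulAut.mul_apply, hγ, hβ, MulAut.mul_apply]⟩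
  inv_mem' := by
    rintro β ⟨a, ha, hβ⟩
    refine ⟨a⁻¹, inv_mem ha, fun e => β.injective ?_⟩
    rw [MulAut.apply_inv_self, hβ, MulAut.apply_inv_self]

/-- The automorphisms of the quotient induced by the given ones. -/
def quotAut : Subgroup (MulAut (S ⧸ N)) where
  carrier := {τ | ∃ σ ∈ d.Aut, ∀ s : S, τ (QuotientGroup.mk' N s) = QuotientGroup.mk' N (σ s)}
  one_mem' := ⟨1, one_mem _, fun _ => rfl⟩
  mul_mem' := by
    rintro β γ ⟨a, ha, hβ⟩ ⟨b, hb, hγ⟩
    exact ⟨a * b, mul_mem ha hb, fun e => by rw [MulAut.mul_apply, hγ, hβ, MulAut.mul_apply]⟩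
  inv_mem' := by
    rintro β ⟨a, ha, hβ⟩
    refine ⟨a⁻¹, inv_mem ha, fun e => β.injective ?_⟩
    rw [MulAut.apply_inv_self, hβ, MulAut.apply_inv_self]

theorem exists_lift_aut (hN : Inv d N) {σ : MulAut S} (hσ : σ ∈ d.Aut) :
    ∃ τ ∈ d.quotAut (N := N), ∀ s : S, τ (QuotientGroup.mk' N s) = QuotientGroup.mk' N (σ s) := by
  have hmap : N.map (σ : S ≃* S).toMonoidHom = N := by
    refine Subgroup.ext fun q => ⟨?_, fun hq => ⟨σ⁻¹ q, (d.aut_mem_iff hN.aut (inv_mem hσ) q).2 hq, by simp⟩⟩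
    rintro ⟨q, hq, rfl⟩
    exact hN.aut σ hσ q hq
  exact ⟨QuotientGroup.congr N N σ hmap, ⟨σ, hσ, fun s => rfl⟩, fun s => rfl⟩

theorem exists_lift (hN : Inv d N) {X : Subgroup (S ⧸ N)} (hX : X.comap (QuotientGroup.mk' N) ∈ d.ess)
    {α : MulAut (X.comap (QuotientGroup.mk' N))} (hα : α ∈ d.A _) :
    ∃ β : MulAut X, ∀ e, β (projX X e) = projX X (α e) := by
  set f := projX X
  have hker : f.ker ≤ (f.comp α.toMonoidHom).ker := fun e he => by
    have h1 : (e : S) ∈ N := (QuotientGroup.eq_one_iff _).1 (congrArg Subtype.val (show f e = 1 from he))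
    exact Subtype.ext ((QuotientGroup.eq_one_iff _).2 ((hN.keep _ hX hα e).2 h1))
  let φ : X →* X := f.liftOfSurjective (projX_surjective X) ⟨f.comp α.toMonoidHom, hker⟩
  have hφ : ∀ e, φ (f e) = f (α e) := fun e =>
    f.liftOfRightInverse_comp_apply _ (Function.rightInverse_surjInv (projX_surjective X)) ⟨_, hker⟩ e
  have hsurj : Function.Surjective φ := fun v => by
    obtain ⟨e, rfl⟩ := projX_surjective X v
    exact ⟨f (α⁻¹ e), by rw [hφ, MulAut.apply_inv_self]⟩
  exact ⟨MulEquiv.ofBijective φ ⟨Finite.injective_iff_surjective.2 hsurj, hsurj⟩, hφ⟩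

theorem lift_unique {X : Subgroup (S ⧸ N)} {α : MulAut (X.comap (QuotientGroup.mk' N))} {β γ : MulAut X}
    (hβ : ∀ e, β (projX X e) = projX X (α e)) (hγ : ∀ e, γ (projX X e) = projX X (α e)) : β = γ :=
  MulEquiv.ext fun v => by
    obtain ⟨e, rfl⟩ := projX_surjective X v
    rw [hβ, hγ]

/-- Images of the inner automorphisms. -/
theorem mem_conjSub_quot {X : Subgroup (S ⧸ N)} (hX : X.comap (QuotientGroup.mk' N) ∈ d.ess) {β : MulAut X} :
    β ∈ conjSub X ↔ ∃ s : S, ∀ e, β (projX X e) = projX X (d.cj hX s e) := by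
  constructor
  · rintro ⟨q, hq⟩
    obtain ⟨s, rfl⟩ := QuotientGroup.mk'_surjective N q
    refine ⟨s, fun e => Subtype.ext ?_⟩
    rw [hq]
    show QuotientGroup.mk' N s * QuotientGroup.mk' N (e : S) * (QuotientGroup.mk' N s)⁻¹ =
      QuotientGroup.mk' N ((d.cj hX s e : _) : S)
    rw [cj_apply, map_mul, map_mul, map_inv]
  · rintro ⟨s, hs⟩
    refine ⟨QuotientGroup.mk' N s, fun v => ?_⟩
    obtain ⟨e, rfl⟩ := projX_surjective X v
    rw [hs]
    show QuotientGroup.mk' N ((d.cj hX s e : _) : S) = _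
    rw [cj_apply, map_mul, map_mul, map_inv]
    rfl

theorem exists_datum_quotient (hp2 : p ≠ 2) (hS : IsPGroup p S) (hsr : Cfsg.SectionalPRankLE p 3 S)
    (hfix : Fixed d) (hN : Inv d N) (hmax : ∀ M, Inv d M → N ≤ M → M = N) :
    ∃ D : Datum p (S ⧸ N), D.ess = {X | X.comap (QuotientGroup.mk' N) ∈ d.ess} := by
  classical
  set π := QuotientGroup.mk' N with hπ
  have hπs : Function.Surjective π := QuotientGroup.mk'_surjective N
  haveI hfinA : Finite (MulAut S) :=
    Finite.of_injective (fun β : MulAut S => (β : S → S)) fun a b h => MulEquiv.ext (congrFun h)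
  have hNle : ∀ {E}, E ∈ d.ess → ∀ {e e' : S}, e⁻¹ * e' ∈ N → (e ∈ E ↔ e' ∈ E) := fun {E} hE {e e'} h =>
    ⟨fun he => by have := mul_mem he (hN.le E hE h); rwa [mul_inv_cancel_left] at this,
      fun he => by have := mul_mem he (inv_mem (hN.le E hE h)); rwa [mul_inv_rev, inv_inv, mul_inv_cancel_left] at this⟩
  -- an outer element acting as an element of the group modulo `N`
  have hkeep : ∀ {E} (hE : E ∈ d.ess) {E'}, E' ∈ d.ess → ∀ (β : MulAut E) (s : S),
      (∀ e : E, (s * (e : S) * s⁻¹)⁻¹ * ((β e : E) : S) ∈ N) → β ∈ keep E (E' ⊓ E) := by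
    intro E hE E' hE' β s hs
    haveI := d.normal E' hE'
    haveI := d.finiteAut hE
    refine mem_keep_of_maps fun e he => Subgroup.mem_inf.2 ⟨?_, (β e).2⟩
    exact (hNle hE' (hs e)).1 ((d.normal E' hE').conj_mem _ he.1 s)
  refine ⟨{
    Aut := d.quotAut
    ess := {X | X.comap π ∈ d.ess}
    A := d.quotA
    conj_mem := fun q => ?_
    pfix := fun τ hτ hk => ?_
    normal := fun X hX => ?_
    index := fun X hX => ?_
    centric := fun X hX q hq => ?_
    conj_le := fun X hX β hβ => ?_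
    sylow := fun X hX Q hPQ hQA hQ => ?_
    notnormal := fun X hX => ?_
    extend := fun X hX g hg hn => ?_
    transport := fun τ hτ X hX => ?_
    eq_bot := fun Q hQS hQE => ?_ }, rfl⟩
  · obtain ⟨s, rfl⟩ := hπs q
    refine ⟨MulAut.conj s, d.conj_mem s, fun t => ?_⟩
    rw [MulAut.conj_apply, MulAut.conj_apply, map_mul, map_mul, map_inv]
  · obtain ⟨σ, hσ, hστ⟩ := hτ
    obtain ⟨k, hk⟩ := hk
    obtain ⟨a, ha⟩ := FusionChain.exists_pow_coprime p σ
    set m := orderOf (σ ^ p ^ a)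
    have hpowτ : ∀ (n : ℕ) (s : S), (τ ^ n) (π s) = π ((σ ^ n) s) := fun n => by
      induction n with
      | zero => intro s; rfl
      | succ n ih => intro s; rw [pow_succ, pow_succ, MulAut.mul_apply, MulAut.mul_apply, hστ, ih]
    obtain ⟨u, hu⟩ := exists_pow_eq_self_of_coprime (x := τ) (n := m)
      (Nat.Coprime.coprime_dvd_right (orderOf_dvd_of_pow_eq_one hk) (Nat.Coprime.pow_right k ha))
    obtain ⟨s, hs⟩ := d.pfix (σ ^ (m * u)) (pow_mem hσ _) ⟨a, by
      rw [← pow_mul, show m * u * p ^ a = p ^ a * m * u by ring, pow_mul, pow_mul, pow_orderOf_eq_one, one_pow]⟩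
    refine ⟨π s, MulEquiv.ext fun q => ?_⟩
    obtain ⟨t, rfl⟩ := hπs q
    have h := hpowτ (m * u) t
    rw [pow_mul τ, hu] at h
    rw [h, hs, MulAut.conj_apply, MulAut.conj_apply, map_mul, map_mul, map_inv]
  · haveI := d.normal _ hX
    rw [← Subgroup.map_comap_eq_self_of_surjective hπs X]
    exact Subgroup.Normal.map inferInstance π hπs
  · rw [← Subgroup.index_comap_of_surjective X hπs]
    exact d.index _ hX
  · obtain ⟨s, rfl⟩ := hπs q
    by_contra hout
    obtain ⟨E', hE', hne⟩ := hfix.two _ hX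
    refine d.false_of_displacement hp2 hS hsr hfix hX hE' hne (x := s) hout fun g hg => hkeep hX hE' _ 1 fun e => ?_
    have hcom : ∀ f : X.comap π, ((f⁻¹ * d.cj hX s f : X.comap π) : S) ∈ N := fun f => by
      refine (QuotientGroup.eq_one_iff _).1 ?_
      show π _ = 1
      rw [Subgroup.coe_mul, Subgroup.coe_inv, cj_apply, map_mul, map_inv, map_mul, map_mul, map_inv,
        (hq (π f) f.2).eq, mul_inv_cancel_right, inv_mul_cancel]
    have h := d.disp_mem hX (hN.keep _ hX) hg (hcom (g⁻¹ e))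
    rw [one_mul, inv_one, mul_one]
    simpa using h
  · obtain ⟨s, hs⟩ := (d.mem_conjSub_quot hX).1 hβ
    exact ⟨d.cj hX s, d.cj_mem hX s, hs⟩
  · haveI := d.finiteAut hX
    set E := X.comap π
    -- the restriction map
    have hex : ∀ α : d.A E, ∃ β : d.quotA X, ∀ e, (β : MulAut X) (projX X e) = projX X ((α : MulAut E) e) := fun α => by
      obtain ⟨β, hβ⟩ := d.exists_lift hN hX α.2
      exact ⟨⟨β, α, α.2, hβ⟩, hβ⟩
    choose res hres using hex
    let r : d.A E →* d.quotA X := MonoidHom.mk' res fun a b => Subtype.ext (d.lift_unique (hres (a * b)) fun e => by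
      rw [Subgroup.coe_mul, MulAut.mul_apply, hres, hres]; rfl)
    have hr : Function.Surjective r := by
      rintro ⟨β, α, hα, hβ⟩
      exact ⟨⟨α, hα⟩, Subtype.ext (d.lift_unique (hres ⟨α, hα⟩) hβ)⟩
    let P : Sylow p (d.A E) :=
      { toSubgroup := (conjSub E).subgroupOf (d.A E)
        isPGroup' := (d.pgroup_conjSub hX hS).of_equiv (Subgroup.subgroupOfEquivOfLe (d.conj_le E hX)).symm
        is_maximal' := fun {R} hR hle => by
          refine le_antisymm (fun α hα => ?_) hle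
          have h := d.sylow E hX (R.map (d.A E).subtype) (fun β hβ => ⟨⟨β, d.conj_le E hX hβ⟩, hle hβ, rfl⟩)
            (Subgroup.map_subtype_le R) (hR.map _)
          exact h.le ⟨α, hα, rfl⟩ }
    let P' := P.mapSurjective hr
    have h := P'.3 (Q := Q.subgroupOf (d.quotA X)) (hQ.of_equiv (Subgroup.subgroupOfEquivOfLe hQA).symm) (by
      rw [Sylow.coe_mapSurjective]
      rintro _ ⟨α, hα, rfl⟩
      refine hPQ ((d.mem_conjSub_quot hX).2 ?_)
      obtain ⟨s, hs⟩ := (d.mem_conjSub_iff hX).1 (show (α : MulAut E) ∈ conjSub E from hα)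
      exact ⟨s, fun e => (show (r α : MulAut X) (projX X e) = _ from hres α e).trans (by rw [← hs])⟩)
    refine le_antisymm (fun β hβ => ?_) hPQ
    obtain ⟨α, hα, hαβ⟩ := (h.le (show (⟨β, hQA hβ⟩ : d.quotA X) ∈ Q.subgroupOf (d.quotA X) from hβ))
    obtain ⟨s, hs⟩ := (d.mem_conjSub_iff hX).1 (show (α : MulAut E) ∈ conjSub E from hα)
    exact (d.mem_conjSub_quot hX).2 ⟨s, fun e => by
      rw [← show (r α : MulAut X) = β from congrArg Subtype.val hαβ, show (r α : MulAut X) (projX X e) = _ from hres α e, ← hs]⟩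
  · by_contra hcon
    push Not at hcon
    obtain ⟨x, hx⟩ := d.exists_not_mem hX
    obtain ⟨E', hE', hne⟩ := hfix.two _ hX
    refine d.false_of_displacement hp2 hS hsr hfix hX hE' hne hx fun g hg => ?_
    obtain ⟨β, hβ⟩ := d.exists_lift hN hX hg
    obtain ⟨γ, hγ⟩ := d.exists_lift hN hX (d.cj_mem hX x)
    obtain ⟨s, hs⟩ := (d.mem_conjSub_quot hX).1 (hcon β ⟨g, hg, hβ⟩ γ ((d.mem_conjSub_quot hX).2 ⟨x, hγ⟩))
    refine hkeep hX hE' _ s fun e => (QuotientGroup.eq_one_iff _).1 ?_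
    have h := hs e
    obtain ⟨f, rfl⟩ := g.surjective e
    have h2 : β⁻¹ (projX X (g f)) = projX X f := by rw [← hβ, MulAut.inv_apply_self]
    rw [MulAut.mul_apply, MulAut.mul_apply, h2, hγ, hβ] at h
    rw [MulAut.mul_apply, MulAut.mul_apply, MulAut.inv_apply_self]
    show π _ = 1
    rw [map_mul, map_inv, inv_mul_eq_one]
    have h3 := congrArg Subtype.val h
    show π (s * (g f : X.comap π) * s⁻¹) = π _
    rw [← d.cj_apply hX s (g f)]
    exact h3.symm
  · obtain ⟨g₀, hg₀, hgg⟩ := hg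
    haveI := d.finiteAut hX
    -- the preimage of the induced automorphisms
    let H : Subgroup (MulAut (X.comap (QuotientGroup.mk' N))) :=
      { carrier := {α | α ∈ d.A (X.comap (QuotientGroup.mk' N)) ∧ ∃ s : S, ∀ e : (X.comap (QuotientGroup.mk' N)), projX X (α e) = projX X (d.cj hX s e)}
        one_mem' := ⟨one_mem _, 1, fun e => by rw [map_one]⟩
        mul_mem' := by
          rintro a b ⟨ha, s, hs⟩ ⟨hb, t, ht⟩
          refine ⟨mul_mem ha hb, s * t, fun e => ?_⟩
          obtain ⟨β, hβ⟩ := d.exists_lift hN hX ha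
          rw [MulAut.mul_apply, ← hβ, ht, hβ, hs, map_mul, MulAut.mul_apply]
        inv_mem' := by
          rintro a ⟨ha, s, hs⟩
          refine ⟨inv_mem ha, s⁻¹, fun e => ?_⟩
          have h := hs (a⁻¹ e)
          rw [MulAut.apply_inv_self] at h
          obtain ⟨β, hβ⟩ := d.exists_lift hN hX (d.cj_mem hX s⁻¹)
          rw [← hβ, h, hβ, ← MulAut.mul_apply, ← map_mul, inv_mul_cancel, map_one, MulAut.one_apply] }
    have hPH : conjSub (X.comap (QuotientGroup.mk' N)) ≤ H := fun α hα => by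
      obtain ⟨s, rfl⟩ := (d.mem_conjSub_iff hX).1 hα
      exact ⟨d.cj_mem hX s, s, fun e => rfl⟩
    let P : Sylow p H :=
      { toSubgroup := (conjSub (X.comap (QuotientGroup.mk' N))).subgroupOf H
        isPGroup' := (d.pgroup_conjSub hX hS).of_equiv (Subgroup.subgroupOfEquivOfLe hPH).symm
        is_maximal' := fun {R} hR hle => by
          refine le_antisymm (fun α hα => ?_) hle
          have h := d.sylow (X.comap (QuotientGroup.mk' N)) hX (R.map H.subtype) (fun β hβ => ⟨⟨β, hPH hβ⟩, hle hβ, rfl⟩)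
            (by rintro _ ⟨γ, -, rfl⟩; exact γ.2.1) (hR.map _)
          exact h.le ⟨α, hα, rfl⟩ }
    have hconjH : ∀ α ∈ conjSub (X.comap (QuotientGroup.mk' N)), g₀ * α * g₀⁻¹ ∈ H := fun α hα => by
      obtain ⟨s, rfl⟩ := (d.mem_conjSub_iff hX).1 hα
      obtain ⟨γ, hγ⟩ := d.exists_lift hN hX (d.cj_mem hX s)
      obtain ⟨t, ht⟩ := (d.mem_conjSub_quot hX).1 (hn γ ((d.mem_conjSub_quot hX).2 ⟨s, hγ⟩))
      refine ⟨mul_mem (mul_mem hg₀ (d.cj_mem hX s)) (inv_mem hg₀), t, fun e => ?_⟩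
      obtain ⟨f, rfl⟩ := g₀.surjective e
      have h2 : g⁻¹ (projX X (g₀ f)) = projX X f := by rw [← hgg, MulAut.inv_apply_self]
      have h := ht (g₀ f)
      rw [MulAut.mul_apply, MulAut.mul_apply, h2, hγ, hgg] at h
      rwa [MulAut.mul_apply, MulAut.mul_apply, MulAut.inv_apply_self]
    have hP'H : (conjSub (X.comap (QuotientGroup.mk' N))).map (MulAut.conj g₀).toMonoidHom ≤ H := by
      rintro _ ⟨α, hα, rfl⟩
      exact hconjH α hα
    obtain ⟨R, hR⟩ := (((d.pgroup_conjSub hX hS).map (MulAut.conj g₀).toMonoidHom).of_equiv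
      (Subgroup.subgroupOfEquivOfLe hP'H).symm).exists_le_sylow
    obtain ⟨b, hb⟩ := MulAction.exists_smul_eq H P R
    set g₁ := (b : MulAut (X.comap (QuotientGroup.mk' N)))⁻¹ * g₀ with hg₁
    have hg₁A : g₁ ∈ d.A (X.comap (QuotientGroup.mk' N)) := mul_mem (inv_mem b.2.1) hg₀
    have hn₁ : ∀ α ∈ conjSub (X.comap (QuotientGroup.mk' N)), g₁ * α * g₁⁻¹ ∈ conjSub (X.comap (QuotientGroup.mk' N)) := by
      intro α hα
      have h1 : g₀ * α * g₀⁻¹ ∈ (conjSub (X.comap (QuotientGroup.mk' N))).map (MulAut.conj g₀).toMonoidHom := ⟨α, hα, rfl⟩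
      have h2 : (⟨_, hP'H h1⟩ : H) ∈ (R : Subgroup H) := hR h1
      rw [← hb, Sylow.coe_subgroup_smul, Subgroup.mem_pointwise_smul_iff_inv_smul_mem] at h2
      have h3 : (b : MulAut (X.comap (QuotientGroup.mk' N)))⁻¹ * (g₀ * α * g₀⁻¹) * (b : MulAut (X.comap (QuotientGroup.mk' N))) ∈ conjSub (X.comap (QuotientGroup.mk' N)) := by
        have h4 : ((MulAut.conj b)⁻¹ • (⟨_, hP'H h1⟩ : H)) ∈ (conjSub (X.comap (QuotientGroup.mk' N))).subgroupOf H := h2
        simpa [Subgroup.mem_subgroupOf, MulAut.smul_def, MulAut.inv_def, mul_assoc] using h4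
      convert h3 using 1
      rw [hg₁]; group
    obtain ⟨σ, hσ, hσe⟩ := d.extend (X.comap (QuotientGroup.mk' N)) hX g₁ hg₁A hn₁
    obtain ⟨s, hs⟩ := b.2.2
    obtain ⟨τ, hτA, hτ⟩ := d.exists_lift_aut hN (mul_mem (d.conj_mem s) hσ)
    refine ⟨τ, hτA, fun v => ?_⟩
    obtain ⟨e, rfl⟩ := projX_surjective X v
    show τ (π (e : S)) = ((g (projX X e) : X) : S ⧸ N)
    rw [hτ, hgg, MulAut.mul_apply, hσe, MulAut.conj_apply, ← d.cj_apply hX s (g₁ e)]
    refine congrArg Subtype.val ((hs (g₁ e)).symm.trans ?_)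
    rw [hg₁, MulAut.mul_apply, MulAut.apply_inv_self]
  · obtain ⟨σ, hσ, hστ⟩ := hτ
    obtain ⟨E', hE', hmem, hA⟩ := d.transport σ hσ _ hX
    have hcomap : (X.map τ.toMonoidHom).comap π = E' := Subgroup.ext fun s => by
      obtain ⟨t, rfl⟩ := σ.surjective s
      rw [← hmem, Subgroup.mem_comap, Subgroup.mem_comap, ← hστ]
      exact Subgroup.mem_map_iff_mem τ.injective
    subst hcomap
    refine ⟨X.map τ.toMonoidHom, hE', fun q => (Subgroup.mem_map_iff_mem τ.injective).symm, ?_⟩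
    rintro β ⟨α', hα', hβ⟩
    obtain ⟨α, hα, hαα'⟩ := hA α' hα'
    obtain ⟨γ, hγ⟩ := d.exists_lift hN hX hα
    refine ⟨γ, ⟨α, hα, hγ⟩, fun v v' hv => ?_⟩
    obtain ⟨e, rfl⟩ := projX_surjective X v
    let e' : (X.map τ.toMonoidHom).comap π := ⟨σ e, (hmem e).1 e.2⟩
    have hv' : v' = projX _ e' := Subtype.ext (hv.trans (hστ e))
    rw [hv', hβ, hγ]
    show π ((α' e' : _) : S) = τ (π ((α e : _) : S))
    rw [hαα' e e' rfl, hστ]
  · have hM : Inv d (Q.comap π) := by
      refine ⟨fun σ hσ q hq => ?_, fun E hE => ?_, fun E hE => ?_⟩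
      · obtain ⟨τ, hτA, hτ⟩ := d.exists_lift_aut hN hσ
        show π (σ q) ∈ Q
        rw [← hτ]
        exact hQS τ hτA _ hq
      · have hEc : (E.map π).comap π = E := by
          rw [Subgroup.comap_map_eq, QuotientGroup.ker_mk', sup_eq_left.2 (hN.le E hE)]
        rw [← hEc]
        exact Subgroup.comap_mono (hQE (E.map π) (show (E.map π).comap π ∈ d.ess by rw [hEc]; exact hE)).1
      · obtain ⟨X, rfl⟩ : ∃ X : Subgroup (S ⧸ N), X.comap π = E :=
          ⟨E.map π, by rw [Subgroup.comap_map_eq, QuotientGroup.ker_mk', sup_eq_left.2 (hN.le E hE)]⟩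
        intro α hα
        haveI := d.finiteAut hE
        obtain ⟨β, hβ⟩ := d.exists_lift hN hE hα
        refine mem_keep_of_maps fun e he => ?_
        show π ((α e : _) : S) ∈ Q
        rw [show π ((α e : _) : S) = ((β (projX X e) : X) : S ⧸ N) from congrArg Subtype.val (hβ e).symm]
        exact ((hQE X hE).2 ⟨α, hα, hβ⟩ (projX X e)).2 he
    have h := hmax _ hM (fun q hq => by
      show π q ∈ Q
      rw [show π q = 1 from (QuotientGroup.eq_one_iff q).2 hq]
      exact one_mem _)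
    rw [← Subgroup.map_comap_eq_self_of_surjective hπs Q, h, hπ, QuotientGroup.map_mk'_self]

end Pre

end Cfsg.Agent.NormalEss
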