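import Cfsg.Agent.Lib.NormalEss.Orbit

/-!
# Chains above the Frattini subgroup of an essential subgroup

* `frat E`, `psiSub E` : the Frattini subgroup `Φ(E)` and `[Φ(E), E]Φ(E)^p`, as subgroups of the group;
* `Pre.false_of_series` : no outer element stabilizes an invariant chain from `Φ(E)` to `E`;
* `Pre.mem_conjSub_of_series` : an automorphism stabilizing such a chain is induced by the group.
-/

set_option autoImplicit false
set_option linter.unusedSectionVars false
set_option linter.style.haveILetI false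
set_option maxHeartbeats 1000000

namespace Cfsg.Agent.NormalEss

open scoped commutatorElement

universe u

variable {p : ℕ} [hp : Fact p.Prime] {S : Type u} [Group S] [Finite S]

/-- The Frattini subgroup of a subgroup. -/
def frat (E : Subgroup S) : Subgroup S := (frattini E).map E.subtype

/-- `[Φ(E), E]Φ(E)^p`. -/
def psiSub (p : ℕ) (E : Subgroup S) : Subgroup S := (SectionalThree.step p (frattini E)).map E.subtype

theorem frat_le (E : Subgroup S) : frat E ≤ E := Subgroup.map_subtype_le _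

theorem coe_mem_frat {E : Subgroup S} {e : E} : (e : S) ∈ frat E ↔ e ∈ frattini E :=
  Subgroup.mem_map_iff_mem E.subtype_injective

theorem mem_frat {E : Subgroup S} {s : S} (hs : s ∈ E) : s ∈ frat E ↔ (⟨s, hs⟩ : E) ∈ frattini E :=
  coe_mem_frat (e := ⟨s, hs⟩)

theorem comm_mem_frat (hS : IsPGroup p S) {E : Subgroup S} {a b : S} (ha : a ∈ E) (hb : b ∈ E) :
    ⁅a, b⁆ ∈ frat E :=
  ⟨⁅⟨a, ha⟩, ⟨b, hb⟩⁆, PGroup.commutatorElement_mem_frattini (hS.to_subgroup E) _ _,
    by simp [commutatorElement_def]⟩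

theorem pow_mem_frat (hS : IsPGroup p S) {E : Subgroup S} {a : S} (ha : a ∈ E) : a ^ p ∈ frat E :=
  ⟨⟨a, ha⟩ ^ p, PGroup.pow_mem_frattini (hS.to_subgroup E) _, by simp⟩

theorem frat_le_of {E Y : Subgroup S} (hY : ∀ e ∈ E, ∀ y ∈ Y, e * y * e⁻¹ ∈ Y)
    (hc : ∀ a ∈ E, ∀ b ∈ E, ⁅a, b⁆ ∈ Y) (hpow : ∀ a ∈ E, a ^ p ∈ Y) : frat E ≤ Y := by
  haveI : (Y.subgroupOf E).Normal := ⟨fun y hy e => hY e e.2 y hy⟩
  have h : frattini E ≤ Y.subgroupOf E := PGroup.frattini_le_of_quotient_elementary (p := p) (by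
      rw [_root_.commutator_def, Subgroup.commutator_le]
      exact fun u _ v _ => by
        rw [Subgroup.mem_subgroupOf]
        simpa [commutatorElement_def] using hc u u.2 v v.2)
    fun u => by rw [Subgroup.mem_subgroupOf]; simpa using hpow u u.2
  rintro _ ⟨e, he, rfl⟩
  exact h he

theorem frat_normal {E : Subgroup S} (hE : E.Normal) : (frat E).Normal := by
  haveI := hE
  exact inferInstanceAs ((frattini E).map E.subtype).Normal

theorem psiSub_normal {E : Subgroup S} (hE : E.Normal) : (psiSub p E).Normal := by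
  haveI := hE
  exact inferInstanceAs ((SectionalThree.step p (frattini E)).map E.subtype).Normal

theorem comm_mem_psiSub {E : Subgroup S} {a b : S} (ha : a ∈ frat E) (hb : b ∈ E) : ⁅a, b⁆ ∈ psiSub p E := by
  obtain ⟨a, ha, rfl⟩ := ha
  exact ⟨⁅a, ⟨b, hb⟩⁆, SectionalThree.commutator_mem_step ha _, by simp [commutatorElement_def]⟩

theorem pow_mem_psiSub {E : Subgroup S} {a : S} (ha : a ∈ frat E) : a ^ p ∈ psiSub p E := by
  obtain ⟨a, ha, rfl⟩ := ha
  exact ⟨a ^ p, SectionalThree.pow_mem_step ha, by simp⟩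

theorem psiSub_le {E Y : Subgroup S} (hc : ∀ a ∈ frat E, ∀ b ∈ E, ⁅a, b⁆ ∈ Y) (hpow : ∀ a ∈ frat E, a ^ p ∈ Y) :
    psiSub p E ≤ Y := by
  rw [psiSub, Subgroup.map_le_iff_le_comap]
  refine SectionalThree.step_le_iff.2 ⟨fun a ha b => ?_, fun a ha => ?_⟩
  · show ((⁅a, b⁆ : E) : S) ∈ Y
    simpa [commutatorElement_def] using hc a (coe_mem_frat.2 ha) b b.2
  · show ((a ^ p : E) : S) ∈ Y
    rw [Subgroup.coe_pow]
    exact hpow a (coe_mem_frat.2 ha)

theorem psiSub_le_frat (hS : IsPGroup p S) (E : Subgroup S) : psiSub p E ≤ frat E :=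
  psiSub_le (fun _ ha _ hb => comm_mem_frat hS (frat_le E ha) hb) fun _ ha => pow_mem_frat hS (frat_le E ha)

/-- The Frattini quotient has order at most `p ^ 3`. -/
theorem card_le_frat (hS : IsPGroup p S) (hsr : Cfsg.SectionalPRankLE p 3 S) (E : Subgroup S) :
    Nat.card E ≤ p ^ 3 * Nat.card (frat E) := by
  have h := RankThreeEss.card_range_le hsr (QuotientGroup.mk' (frattini E)) (fun a b => by
      refine commutatorElement_eq_one_iff_mul_comm.1 ?_
      rw [← map_commutatorElement]
      exact (QuotientGroup.eq_one_iff _).2 (PGroup.commutatorElement_mem_frattini (hS.to_subgroup E) a b))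
    fun a => by
      rw [← map_pow]
      exact (QuotientGroup.eq_one_iff _).2 (PGroup.pow_mem_frattini (hS.to_subgroup E) a)
  rw [QuotientGroup.range_mk', Subgroup.card_top, ← Subgroup.index_eq_card] at h
  rw [frat, Subgroup.card_map_of_injective E.subtype_injective, ← (frattini E).card_mul_index, mul_comm]
  exact Nat.mul_le_mul h le_rfl

/-- The automorphisms stabilizing a chain modulo the Frattini subgroup. -/
def stabFr {H : Type*} [Group H] [Finite H] (U : ℕ → Subgroup H) (n : ℕ) (h0 : U 0 = frattini H)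
    (hmono : ∀ i < n, U i ≤ U (i + 1)) : Subgroup (MulAut H) :=
  (stab (fun i => (U i).map (QuotientGroup.mk' (frattini H))) n
    (by rw [h0, QuotientGroup.map_mk'_self]) fun i hi => Subgroup.map_mono (hmono i hi)).comap
      (RankTwo.quotientAut (frattini H))

theorem mem_stabFr {H : Type*} [Group H] [Finite H] {U : ℕ → Subgroup H} {n : ℕ} (h0 : U 0 = frattini H)
    (hmono : ∀ i < n, U i ≤ U (i + 1)) {α : MulAut H}
    (h : ∀ i < n, ∀ e ∈ U (i + 1), e⁻¹ * α e ∈ U i) : α ∈ stabFr U n h0 hmono := by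
  rintro i hi _ ⟨e, he, rfl⟩
  exact ⟨e⁻¹ * α e, h i hi e he, by rw [map_mul, map_inv]; rfl⟩

theorem isPGroup_stabFr {H : Type*} [Group H] [Finite H] (hH : IsPGroup p H) {U : ℕ → Subgroup H} {n : ℕ}
    (h0 : U 0 = frattini H) (hn : U n = ⊤) (hmono : ∀ i < n, U i ≤ U (i + 1)) :
    IsPGroup p (stabFr U n h0 hmono) := by
  haveI : Finite (MulAut H) :=
    Finite.of_injective (fun β : MulAut H => (β : H → H)) fun a b h => MulEquiv.ext (congrFun h)
  refine FusionChain.isPGroup_of_coprime_trivial fun α hα => Subtype.ext ?_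
  have hK := FusionChain.isPGroup_of_stabilizes_chain (hH.to_quotient (frattini H))
    (stab (fun i => (U i).map (QuotientGroup.mk' (frattini H))) n
      (by rw [h0, QuotientGroup.map_mk'_self]) fun i hi => Subgroup.map_mono (hmono i hi)) n
    (fun i => (U i).map (QuotientGroup.mk' (frattini H))) (by rw [h0, QuotientGroup.map_mk'_self])
    (by rw [hn, Subgroup.map_top_of_surjective _ (QuotientGroup.mk'_surjective _)]) fun β hβ => hβ
  have hc : Nat.Coprime (orderOf (α : MulAut H)) p := by rwa [Subgroup.orderOf_coe]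
  refine SectionalThree.eq_one_of_frattini hH hc ?_
  obtain ⟨k, hk⟩ := hK ⟨_, Subgroup.mem_comap.1 α.2⟩
  have h1 := orderOf_dvd_of_pow_eq_one (show RankTwo.quotientAut (frattini H) (α : MulAut H) ^ p ^ k = 1 from
    congrArg Subtype.val hk)
  have h2 := orderOf_map_dvd (RankTwo.quotientAut (frattini H)) (α : MulAut H)
  exact orderOf_eq_one_iff.1 (Nat.eq_one_of_dvd_coprimes (hc.pow_right k) h2 h1)

namespace Pre

variable (d : Pre p S)
include d
variable {E : Subgroup S} (hE : E ∈ d.ess)
include hE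

theorem keep_frat : d.A E ≤ keep E (frat E) := fun α _ => mem_keep_of_maps fun e he =>
  coe_mem_frat.2 (Subgroup.mem_comap.1
    ((Subgroup.characteristic_iff_comap_eq.1 (inferInstance : (frattini E).Characteristic) α).ge
      (coe_mem_frat.1 he)))

theorem keep_psiSub : d.A E ≤ keep E (psiSub p E) := fun α _ => mem_keep_of_maps fun _ he =>
  (Subgroup.mem_map_iff_mem E.subtype_injective).2 (Subgroup.mem_comap.1
    ((Subgroup.characteristic_iff_comap_eq.1
      (inferInstance : (SectionalThree.step p (frattini E)).Characteristic) α).ge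
      ((Subgroup.mem_map_iff_mem E.subtype_injective).1 he)))

theorem keep_self : d.A E ≤ keep E E := fun α _ => mem_keep_of_maps fun e _ => (α e).2

/-- The image of a displacement. -/
theorem disp_mem {U : Subgroup S} (hU : d.A E ≤ keep E U) {g : MulAut E} (hg : g ∈ d.A E) {α : MulAut E} {e : E}
    (h : ((g⁻¹ e)⁻¹ * α (g⁻¹ e) : E).1 ∈ U) : ((e⁻¹ * (g * α * g⁻¹) e : E) : S) ∈ U := by
  have h2 := (hU hg _).2 h
  rw [map_mul, map_inv g, MulAut.apply_inv_self] at h2
  exact h2

/-- No outer element stabilizes an invariant chain above the Frattini subgroup. -/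
theorem false_of_series (hS : IsPGroup p S) {x : S} (hx : x ∉ E) (U : ℕ → Subgroup S) (n : ℕ)
    (h0 : U 0 = frat E) (hn : U n = E) (hmono : ∀ i < n, U i ≤ U (i + 1)) (hinv : ∀ i ≤ n, d.A E ≤ keep E (U i))
    (hdisp : ∀ i < n, ∀ u ∈ U (i + 1), ⁅x, u⁆ ∈ U i) : False := by
  obtain ⟨g, hg, hout⟩ := d.exists_conj_outside hE hx
  haveI := d.finiteAut hE
  have h0' : (U 0).subgroupOf E = frattini E := by
    rw [h0]; exact Subgroup.comap_map_eq_self_of_injective E.subtype_injective _
  have hm : ∀ i < n, (U i).subgroupOf E ≤ (U (i + 1)).subgroupOf E := fun i hi => Subgroup.comap_mono (hmono i hi)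
  have hd : ∀ i < n, ∀ f : E, (f : S) ∈ U (i + 1) → ((f⁻¹ * d.cj hE x f : E) : S) ∈ U i := by
    intro i hi f hf
    have h := hdisp i hi _ hf
    haveI := d.normal_of_keep (X := U i ⊓ E) hE inf_le_right fun α hα => mem_keep_of_maps fun e he =>
      Subgroup.mem_inf.2 ⟨(hinv i hi.le hα e).2 he.1, (α e).2⟩
    have hmem : ⁅x, (f : S)⁆ ∈ U i ⊓ E := Subgroup.mem_inf.2 ⟨h, by
      rw [commutatorElement_def]
      exact mul_mem ((d.normal E hE).conj_mem _ f.2 x) (inv_mem f.2)⟩
    have h2 := (inferInstance : (U i ⊓ E).Normal).conj_mem _ hmem (f : S)⁻¹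
    rw [Subgroup.coe_mul, Subgroup.coe_inv, cj_apply]
    simpa [commutatorElement_def, mul_assoc] using h2.1
  refine d.false_of_pgroup hE hS hx hg hout (stabFr (fun i => (U i).subgroupOf E) n h0' hm)
    (isPGroup_stabFr (hS.to_subgroup E) h0' (by rw [hn, Subgroup.subgroupOf_self]) hm) ?_ ?_
  · exact mem_stabFr h0' hm fun i hi f hf => hd i hi f hf
  · refine mem_stabFr h0' hm fun i hi f hf => ?_
    exact d.disp_mem hE (hinv i hi.le) hg (hd i hi _ ((hinv (i + 1) (by omega) (inv_mem hg) f).2 hf))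

/-- An automorphism stabilizing an invariant chain above the Frattini subgroup is induced by the group. -/
theorem mem_conjSub_of_series (hS : IsPGroup p S) (U : ℕ → Subgroup S) (n : ℕ)
    (h0 : U 0 = frat E) (hn : U n = E) (hmono : ∀ i < n, U i ≤ U (i + 1)) (hinv : ∀ i ≤ n, d.A E ≤ keep E (U i))
    {α : MulAut E} (hα : α ∈ d.A E)
    (hdisp : ∀ i < n, ∀ u : E, (u : S) ∈ U (i + 1) → ((u⁻¹ * α u : E) : S) ∈ U i) : α ∈ conjSub E := by
  haveI := d.finiteAut hE
  have h0' : (U 0).subgroupOf E = frattini E := by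
    rw [h0]; exact Subgroup.comap_map_eq_self_of_injective E.subtype_injective _
  have hm : ∀ i < n, (U i).subgroupOf E ≤ (U (i + 1)).subgroupOf E := fun i hi => Subgroup.comap_mono (hmono i hi)
  have hmem : ∀ β : MulAut E, (∀ i < n, ∀ u : E, (u : S) ∈ U (i + 1) → ((u⁻¹ * β u : E) : S) ∈ U i) →
      β ∈ stabFr (fun i => (U i).subgroupOf E) n h0' hm := fun β hβ => mem_stabFr h0' hm fun i hi f hf => hβ i hi f hf
  -- the conjugates of `α`
  let J : Subgroup (MulAut E) := Subgroup.closure {β | ∃ g ∈ d.A E, β = g * α * g⁻¹}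
  have hJA : J ≤ d.A E := (Subgroup.closure_le _).2 (by
    rintro _ ⟨g, hg, rfl⟩; exact mul_mem (mul_mem hg hα) (inv_mem hg))
  have hJp : IsPGroup p J := (isPGroup_stabFr (hS.to_subgroup E) h0' (by rw [hn, Subgroup.subgroupOf_self]) hm).to_le
    ((Subgroup.closure_le _).2 (by
      rintro _ ⟨g, hg, rfl⟩
      exact hmem _ fun i hi f hf => d.disp_mem hE (hinv i hi.le) hg
        (hdisp i hi _ ((hinv (i + 1) (by omega) (inv_mem hg) f).2 hf))))
  have hnorm : conjSub E ≤ Subgroup.normalizer (J : Set (MulAut E)) := fun c hc => by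
    have hcA := d.conj_le E hE hc
    have hconj : ∀ c' ∈ d.A E, ∀ β ∈ J, c' * β * c'⁻¹ ∈ J := by
      intro c' hc' β hβ
      induction hβ using Subgroup.closure_induction with
      | mem y hy =>
        obtain ⟨g, hg, rfl⟩ := hy
        exact Subgroup.subset_closure ⟨c' * g, mul_mem hc' hg, by group⟩
      | one => simp
      | mul y y' _ _ h1 h2 => have := mul_mem h1 h2; convert this using 1; group
      | inv y _ h1 => have := inv_mem h1; convert this using 1; group
    refine Subgroup.mem_normalizer_iff.2 fun β => ⟨hconj c hcA β, fun h => ?_⟩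
    have := hconj c⁻¹ (inv_mem hcA) _ h
    convert this using 1
    group
  have heq := d.sylow E hE _ le_sup_right (sup_le hJA (d.conj_le E hE))
    (hJp.to_sup_of_normal_left' (d.pgroup_conjSub hE hS) hnorm)
  exact heq.le (Subgroup.mem_sup_left (Subgroup.subset_closure ⟨1, one_mem _, by rw [one_mul, inv_one, mul_one]⟩))

end Pre

end Cfsg.Agent.NormalEss
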