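import Cfsg.Agent.Lib.NormalEss.Orbit

/-!
# Elementary abelian subgroups of order `p ^ 3` over the moved centre

* `Datum.Frame E₀` : the moving essential subgroup is unique and its `V` has order `p ^ 2`;
* `Datum.Tame` : elementary abelian normal subgroups of order `p ^ 3` between `V E₀` and `E₀`;
* `Datum.tame_unique`, `Datum.tame_keep`.
-/

set_option autoImplicit false
set_option linter.unusedSectionVars false
set_option linter.style.haveILetI false
set_option maxHeartbeats 1000000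

namespace Cfsg.Agent.NormalEss

open scoped commutatorElement

universe u

variable {p : ℕ} [hp : Fact p.Prime] {S : Type u} [Group S] [Finite S]

namespace Datum

variable (d : Datum p S)

/-- The unique moving essential subgroup with a small `V`. -/
structure Frame (d : Datum p S) (E₀ : Subgroup S) : Prop where
  mem : E₀ ∈ d.ess
  moving : d.Moving E₀
  cardV : Nat.card (d.V E₀) = p ^ 2
  cardZ : Nat.card (omegaZ p S) = p
  uniq : ∀ E ∈ d.ess, d.Moving E → E = E₀
  V_mem : ∀ E ∈ d.ess, d.V E₀ ≤ E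
  img_le : ∀ E ∈ d.ess, ∀ α ∈ d.A E, ∀ e : E, (e : S) ∈ d.V E₀ → ((α e : E) : S) ∈ E₀

/-- Elementary abelian normal subgroups of order `p ^ 3` between `V E₀` and `E₀`. -/
structure Tame (d : Datum p S) (E₀ : Subgroup S) (T : Subgroup S) : Prop where
  V_le : d.V E₀ ≤ T
  le : T ≤ E₀
  normal : T.Normal
  comm : ∀ a ∈ T, ∀ b ∈ T, Commute a b
  exp : ∀ a ∈ T, a ^ p = 1
  card : Nat.card T = p ^ 3

include d

variable {E₀ : Subgroup S}

theorem V_normal (hf : Frame d E₀) : (d.V E₀).Normal := ⟨fun _ hv s => d.conj_V hf.mem hv s⟩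

/-- Commutators with `V E₀` are central. -/
theorem comm_V_mem (hS : IsPGroup p S) (hf : Frame d E₀) {v : S} (hv : v ∈ d.V E₀) (s : S) :
    ⁅v, s⁆ ∈ omegaZ p S := by
  haveI := d.V_normal hf
  exact SectionalThree.commutator_mem_of_card_le hS (d.omegaZ_le_V hf.mem)
    (by rw [hf.cardV, hf.cardZ, pow_two]) hv s

theorem comm_tame_mem (hS : IsPGroup p S) (hf : Frame d E₀) {T : Subgroup S} (hT : Tame d E₀ T) {t : S} (ht : t ∈ T)
    (s : S) : ⁅t, s⁆ ∈ d.V E₀ := by
  haveI := d.V_normal hf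
  haveI := hT.normal
  exact SectionalThree.commutator_mem_of_card_le hS hT.V_le
    (by rw [hf.cardV, hT.card]; exact le_of_eq (by ring)) ht s

theorem aut_fix_E₀ (hf : Frame d E₀) {σ : MulAut S} (hσ : σ ∈ d.Aut) :
    (∀ s, s ∈ E₀ ↔ σ s ∈ E₀) ∧ ∀ v, v ∈ d.V E₀ ↔ σ v ∈ d.V E₀ := by
  obtain ⟨E', hE', hM', h1, h2⟩ := d.V_transport hf.mem hσ hf.moving
  obtain rfl := hf.uniq E' hE' hM'
  exact ⟨h1, h2⟩

theorem tame_map (hf : Frame d E₀) {T : Subgroup S} (hT : Tame d E₀ T) {σ : MulAut S} (hσ : σ ∈ d.Aut) :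
    Tame d E₀ (T.map σ.toMonoidHom) where
  V_le := fun v hv => ⟨σ⁻¹ v, hT.V_le (by
    rw [(d.aut_fix_E₀ hf hσ).2, MulAut.apply_inv_self]; exact hv), by simp⟩
  le := by
    rintro _ ⟨t, ht, rfl⟩
    exact ((d.aut_fix_E₀ hf hσ).1 t).1 (hT.le ht)
  normal := hT.normal.map σ.toMonoidHom σ.surjective
  comm := by
    rintro _ ⟨a, ha, rfl⟩ _ ⟨b, hb, rfl⟩
    exact (hT.comm a ha b hb).map σ.toMonoidHom
  exp := by
    rintro _ ⟨a, ha, rfl⟩
    rw [← map_pow, hT.exp a ha, map_one]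
  card := by rw [Subgroup.card_map_of_injective σ.injective, hT.card]

/-- An invariant subgroup of `E₀` with commutators in `V E₀`, generated by elements of order `p`, is elementary. -/
theorem elementary_of_invariant (hp2 : p ≠ 2) (hS : IsPGroup p S) (hsr : Cfsg.SectionalPRankLE p 3 S)
    (hf : Frame d E₀) {W : Subgroup S} {s : Set S} (hWs : W = Subgroup.closure s) (hWE : W ≤ E₀)
    (hkeep : d.A E₀ ≤ keep E₀ W) (hs : ∀ a ∈ s, a ^ p = 1) (hcom : ∀ a ∈ W, ∀ e ∈ E₀, ⁅a, e⁆ ∈ d.V E₀) :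
    (∀ a ∈ W, ∀ b ∈ W, Commute a b) ∧ ∀ a ∈ W, a ^ p = 1 := by
  haveI := d.V_normal hf
  have hE₀ := hf.mem
  have hWV : ∀ a ∈ W, ∀ b ∈ W, ⁅a, b⁆ ∈ d.V E₀ := fun a ha b hb => hcom a ha b (hWE hb)
  have hexp : ∀ a ∈ W, a ^ p = 1 := fun a ha => pow_of_gens hp2 hs (fun x hx y hy c hc => by
    rw [← hWs] at hx hy hc
    exact (d.commute_V hE₀ (hWV x hx y hy) (hWE hc)).symm) (hWs ▸ ha)
  have hD := card_commutator_le_prime (Q := W) (SectionalThree.sectional_injective W.subtype W.subtype_injective hsr)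
    (fun q => Subtype.ext (by rw [Subgroup.coe_pow]; exact hexp q q.2)) fun u v => Subgroup.mem_center_iff.2 fun w =>
      Subtype.ext (d.commute_V hE₀ (hWV u u.2 v v.2) (hWE w.2)).symm.eq
  have hcardD : Nat.card (⁅W, W⁆ : Subgroup S) ≤ p := by
    rw [← Subgroup.map_subtype_commutator, Subgroup.card_map_of_injective W.subtype_injective]
    exact hD
  have hDV : ⁅W, W⁆ ≤ d.V E₀ := Subgroup.commutator_le.2 hWV
  have hDkeep := d.keep_commutator hE₀ hWE hkeep
  haveI := d.normal_of_keep hE₀ (hDV.trans (d.V_le hE₀)) hDkeep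
  refine ⟨fun a ha b hb => ?_, hexp⟩
  by_contra hne
  have hDne : ⁅W, W⁆ ≠ ⊥ := fun h => hne (commutatorElement_eq_one_iff_commute.1
    (Subgroup.mem_bot.1 (h ▸ Subgroup.commutator_mem_commutator ha hb)))
  have hDZ : ⁅W, W⁆ ≤ omegaZ p S := fun q hq => ⟨Subgroup.mem_center_iff.2 fun g => by
    have h := SectionalThree.commutator_mem_of_card_le hS (K := (⊥ : Subgroup S)) bot_le
      (by rw [Subgroup.card_bot, mul_one]; exact hcardD) hq g
    exact ((commutatorElement_eq_one_iff_commute.1 (Subgroup.mem_bot.1 h)).symm).eq, d.pow_V hE₀ (hDV hq)⟩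
  have heq : ⁅W, W⁆ = omegaZ p S := by
    refine Subgroup.eq_of_le_of_card_ge hDZ ?_
    rw [hf.cardZ]
    have h := PGroup.mul_card_le_of_lt hS (bot_lt_iff_ne_bot.2 hDne)
    rwa [Subgroup.card_bot, mul_one] at h
  exact hf.moving (heq ▸ hDkeep)

/-- Uniqueness and invariance of tame subgroups. -/
theorem tame_facts (hp2 : p ≠ 2) (hS : IsPGroup p S) (hsr : Cfsg.SectionalPRankLE p 3 S)
    (hf : Frame d E₀) {T T' : Subgroup S} (hT : Tame d E₀ T) (hT' : Tame d E₀ T') :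
    T' = T ∧ d.A E₀ ≤ keep E₀ T := by
  haveI := d.V_normal hf
  have hE₀ := hf.mem
  set X : Set S := (T : Set S) ∪ T' with hX
  have hXE : X ⊆ E₀ := Set.union_subset hT.le hT'.le
  have hXV : ∀ x ∈ X, ∀ s : S, ⁅x, s⁆ ∈ d.V E₀ := fun x hx => by
    rcases hx with hx | hx
    exacts [d.comm_tame_mem hS hf hT hx, d.comm_tame_mem hS hf hT' hx]
  have hXp : ∀ x ∈ X, x ^ p = 1 := fun x hx => hx.elim (hT.exp x) (hT'.exp x)
  obtain ⟨hc, he⟩ := d.elementary_of_invariant hp2 hS hsr hf (W := d.orb E₀ X) rfl (d.orb_le hE₀ X)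
    (d.keep_orb hE₀ X) (by
      rintro _ ⟨α, -, e, he, rfl⟩
      rw [← Subgroup.coe_pow, ← map_pow, show e ^ p = 1 from Subtype.ext (by
        rw [Subgroup.coe_pow]; exact hXp _ he), map_one, Subgroup.coe_one])
    (fun a ha => mem_cenMod.1 ((Subgroup.closure_le (cenMod (d.V E₀) (E₀ : Set S))).2 (by
      rintro _ ⟨α, hα, e, he, rfl⟩
      refine mem_cenMod.2 fun f hf' => ?_
      obtain ⟨g, hg⟩ := α.surjective ⟨f, hf'⟩
      have h := d.comm_image_mem hE₀ (d.keep_V hE₀) hα (g := g) (hXV _ he g)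
      rwa [hg] at h) ha))
  have hsub : ∀ {T₁ : Subgroup S}, Tame d E₀ T₁ → (T₁ : Set S) ⊆ X → T₁ = d.orb E₀ X := fun {T₁} h₁ hsub =>
    Subgroup.eq_of_le_of_card_ge (fun t ht => d.subset_orb hE₀ hXE (hsub ht))
      ((card_elem_le hsr hc he).trans h₁.card.ge)
  have h1 := hsub hT Set.subset_union_left
  exact ⟨(hsub hT' Set.subset_union_right).trans h1.symm, h1 ▸ d.keep_orb hE₀ X⟩

theorem tame_keep (hp2 : p ≠ 2) (hS : IsPGroup p S) (hsr : Cfsg.SectionalPRankLE p 3 S)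
    (hf : Frame d E₀) {T : Subgroup S} (hT : Tame d E₀ T) :
    (∀ σ ∈ d.Aut, ∀ t ∈ T, σ t ∈ T) ∧ d.A E₀ ≤ keep E₀ T :=
  ⟨fun σ hσ t ht => (d.tame_facts hp2 hS hsr hf hT (d.tame_map hf hT hσ)).1.le ⟨t, ht, rfl⟩,
    (d.tame_facts hp2 hS hsr hf hT hT).2⟩

/-- The images of `V E₀` under the automorphisms of an essential subgroup not fixing it. -/
theorem tame_orb (hS : IsPGroup p S) (hsr : Cfsg.SectionalPRankLE p 3 S) (hf : Frame d E₀) {E : Subgroup S}
    (hE : E ∈ d.ess) (hkeep : ¬ d.A E ≤ keep E (d.V E₀)) : Tame d E₀ (d.orb E (d.V E₀)) := by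
  haveI := d.finiteAut hE
  have hV : (d.V E₀ : Set S) ⊆ E := hf.V_mem E hE
  have hgen : ∀ a ∈ {s | ∃ α ∈ d.A E, ∃ e : E, (e : S) ∈ (d.V E₀ : Set S) ∧ ((α e : E) : S) = s},
      ∀ b ∈ {s | ∃ α ∈ d.A E, ∃ e : E, (e : S) ∈ (d.V E₀ : Set S) ∧ ((α e : E) : S) = s}, Commute a b := by
    rintro _ ⟨α, hα, e, he, rfl⟩ _ ⟨β, hβ, f, hf', rfl⟩
    have h : Commute e ((α⁻¹ * β) f) :=
      Subtype.ext (d.commute_V hf.mem he (hf.img_le E hE _ (mul_mem (inv_mem hα) hβ) f hf')).eq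
    have h2 := h.map α
    rw [MulAut.mul_apply, MulAut.apply_inv_self] at h2
    exact congrArg Subtype.val h2.eq
  have hcomm : ∀ a ∈ d.orb E (d.V E₀), ∀ b ∈ d.orb E (d.V E₀), Commute a b := by
    intro a ha b hb
    induction ha using Subgroup.closure_induction with
    | mem y hy =>
      induction hb using Subgroup.closure_induction with
      | mem w hw => exact hgen y hy w hw
      | one => exact Commute.one_right _
      | mul w w' _ _ h1 h2 => exact h1.mul_right h2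
      | inv w _ h1 => exact h1.inv_right
    | one => exact Commute.one_left _
    | mul y y' _ _ h1 h2 => exact h1.mul_left h2
    | inv y _ h1 => exact h1.inv_left
  have hexp : ∀ a ∈ d.orb E (d.V E₀), a ^ p = 1 := by
    intro a ha
    induction ha using Subgroup.closure_induction with
    | mem y hy =>
      obtain ⟨α, -, e, he, rfl⟩ := hy
      rw [← Subgroup.coe_pow, ← map_pow, show e ^ p = 1 from Subtype.ext (by
        rw [Subgroup.coe_pow]; exact d.pow_V hf.mem he), map_one, Subgroup.coe_one]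
    | one => exact one_pow p
    | mul y y' hy hy' h1 h2 => rw [(hcomm y hy y' hy').mul_pow, h1, h2, one_mul]
    | inv y _ h1 => rw [inv_pow, h1, inv_one]
  refine ⟨fun v hv => d.subset_orb hE hV hv, (Subgroup.closure_le _).2 ?_, d.orb_normal hE _, hcomm, hexp,
    le_antisymm (card_elem_le hsr hcomm hexp) ?_⟩
  · rintro _ ⟨α, hα, e, he, rfl⟩
    exact hf.img_le E hE α hα e he
  · have hlt : d.V E₀ < d.orb E (d.V E₀) := by
      refine lt_of_le_not_ge (fun v hv => d.subset_orb hE hV hv) fun h => hkeep fun α hα => ?_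
      exact mem_keep_of_maps fun e he => h (d.image_mem_orb hE hα he)
    have h := PGroup.mul_card_le_of_lt hS hlt
    rw [hf.cardV] at h
    calc p ^ 3 = p * p ^ 2 := by ring
      _ ≤ _ := h

end Datum

end Cfsg.Agent.NormalEss
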